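import Cfsg.Agent.Go.AS
import Cfsg.Agent.Sg.DP
import Cfsg.Agent.H6.FStar

/-! Perfect cores; automorphisms of a simple rank one group centralising `Q₀` form a solvable
group. -/

set_option autoImplicit false
set_option linter.unusedSectionVars false
set_option linter.style.haveILetI false

namespace Cfsg.Agent.Go

open Subgroup Cfsg.Agent.FT Cfsg.Agent.H1 Cfsg.Agent.L Cfsg.Agent.Sg Cfsg.Agent.Sz
open scoped Pointwise commutatorElement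

section
variable {G G' : Type*} [Group G] [Group G'] {X Y N L : Subgroup G}

/-- the largest perfect subgroup -/
def pc (X : Subgroup G) : Subgroup G := sSup {Y | Y ≤ X ∧ Y ≤ ⁅Y, Y⁆}

theorem pc_le : pc X ≤ X := sSup_le fun _ h => h.1

theorem le_pc (h1 : Y ≤ X) (h2 : Y ≤ ⁅Y, Y⁆) : Y ≤ pc X := le_sSup ⟨h1, h2⟩

theorem pc_perf (X : Subgroup G) : pc X ≤ ⁅pc X, pc X⁆ :=
  sSup_le fun _ h => h.2.trans (der1_mono (le_pc h.1 h.2))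

theorem pc_mono (h : Y ≤ X) : pc Y ≤ pc X := le_pc (pc_le.trans h) (pc_perf Y)

theorem perf_map (h : Y ≤ ⁅Y, Y⁆) (f : G →* G') : Y.map f ≤ ⁅Y.map f, Y.map f⁆ :=
  Subgroup.map_commutator Y Y f ▸ map_mono h

theorem conj_pc (g : G) (X : Subgroup G) : g ⋆ pc X = pc (g ⋆ X) := by
  have : ∀ (g : G) (X : Subgroup G), g ⋆ pc X ≤ pc (g ⋆ X) := fun g X =>
    le_pc (conj_mono g pc_le) (perf_map (pc_perf X) _)
  exact le_antisymm (this g X) (le_conj_iff.2 (by simpa using this g⁻¹ (g ⋆ X)))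

theorem norm_pc (X : Subgroup G) : 𝐍(X) ≤ 𝐍(pc X) := fun g hg =>
  conj_eq_self_iff.1 (by rw [conj_pc, conj_of_mem_norm hg])

theorem perf_bot (hY : Y ≤ ⁅Y, Y⁆) (hs : Group.IsSolvable Y) : Y = ⊥ := by
  by_contra h
  exact (der1_lt hs h).not_ge hY

theorem perf_comm (hY : Y ≤ ⁅Y, Y⁆) (h1 : X ≤ 𝐍(L)) (h2 : Y ≤ 𝐍(L)) (h : ⁅⁅X, Y⁆, Y⁆ ≤ L) :
    ⁅X, Y⁆ ≤ L := by
  rw [← quo_le_cent_iff h1 h2]
  refine H6.le_centralizer_of_commutator_perfect ?_ ?_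
  · rw [← mim_comm _ h2 h2, le_antisymm (der1_le Y) hY]
  · rw [← mim_comm _ h1 h2, quo_le_cent_iff (comm_le_of_le h1 h2) h2]; exact h

variable [Finite G]

theorem perf_le (hY : Y ≤ ⁅Y, Y⁆) (h : Y ≤ N ⊔ X) (hn : X ≤ 𝐍(N)) : Y ≤ N ⊔ pc X := by
  induction X using WellFoundedLT.induction with
  | ind X ih =>
  by_cases e : X ≤ ⁅X, X⁆
  · exact h.trans (sup_le_sup_left (le_pc le_rfl e) _)
  refine (ih _ (lt_of_le_not_ge (der1_le X) e) ((hY.trans (der1_mono h)).trans ?_)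
    ((der1_le X).trans hn)).trans (sup_le_sup_left (pc_mono (der1_le X)) _)
  rw [der1_sup _ _ hn]
  exact sup_le_sup_right (sup_le (der1_le N) (comm_le_left hn)) _

theorem pc_odd (h : Odd #|X|) : pc X = ⊥ := perf_bot (pc_perf X) (sol_of_odd (odd_of_le h pc_le))

theorem perf_le_odd (hY : Y ≤ ⁅Y, Y⁆) (h : Y ≤ N ⊔ X) (hn : X ≤ 𝐍(N)) (ho : Odd #|X|) : Y ≤ N := by
  simpa [pc_odd ho] using perf_le hY h hn

end

variable {G : Type} [Group G] [Finite G] [IsSimpleGroup G] (S : Sys G)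

/-- automorphisms centralising `Q₀` -/
def A0 : Subgroup (MulAut G) where
  carrier := {α | ∀ x ∈ S.Q0, α x = x}
  one_mem' _ _ := rfl
  mul_mem' {α β} ha hb x hx := by rw [MulAut.mul_apply, hb x hx, ha x hx]
  inv_mem' {α} ha x hx := by rw [MulAut.inv_apply, MulEquiv.symm_apply_eq, ha x hx]

variable {S} {α β γ : MulAut G} {x y k : G}

theorem autH (h0 : α ∈ A0 S) (hx : x ∈ S.H) : α x ∈ S.H := S.mem_H_of_conj S.sQ S.s1 (by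
  have m := le_norm_iff.1 S.Q0_norm x hx _ ⟨S.sQ, S.ss⟩
  rw [← h0 _ ⟨S.sQ, S.ss⟩, ← map_inv, ← map_mul, ← map_mul, h0 _ m]
  exact S.QH m.1)

theorem sq_Q0 (hx : x ∈ S.Q) : x * x ∈ S.Q0 := ⟨S.Q.mul_mem hx hx, by
  rw [← S.rk2_of_simple.good.1 x hx, ← pow_two, ← pow_two, ← pow_mul]⟩

theorem autQ (h0 : α ∈ A0 S) (hx : x ∈ S.Q) : α x ∈ S.Q :=
  S.mem_Q_of_sq (autH h0 (S.QH hx)) (by rw [← map_mul, h0 _ (sq_Q0 hx)]; exact S.Q.mul_mem hx hx)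

theorem K_mul {a b : G} (ha : S.IsK a) (hb : S.IsK b) : S.IsK (a * b) ∧ a * b = b * a := by
  obtain ⟨F, _, _, ⟨c⟩⟩ := S.rk2_of_simple.exists_co
  obtain ⟨a, rfl⟩ := c.κ_surj a ha
  obtain ⟨b, rfl⟩ := c.κ_surj b hb
  exact ⟨map_mul c.κ a b ▸ c.κ_K _, by rw [← map_mul, mul_comm, map_mul]⟩

theorem isK_of_sq (hk : k ∈ S.H) (h : S.t * k * (S.t * k) = 1) : S.IsK k :=
  ⟨hk, eq_inv_of_mul_eq_one_left (by rwa [← mul_assoc] at h)⟩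

theorem isK_t (ht : S.t * α S.t ∈ S.H) : S.IsK (S.t * α S.t) :=
  isK_of_sq ht (by rw [S.tt', ← map_mul, S.tt, map_one])

theorem autK (h0 : α ∈ A0 S) (ht : S.t * α S.t ∈ S.H) (hk : S.IsK k) : α k = k := by
  have h1 : S.IsK (S.t * α S.t * α k) := isK_of_sq (S.H.mul_mem ht (autH h0 hk.1)) (by
    rw [mul_assoc S.t (α S.t), S.tt', ← map_mul, ← map_mul, ← mul_assoc, hk.2, inv_mul_cancel,
      map_one])
  have h2 := (K_mul (isK_t ht).inv h1).1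
  rw [inv_mul_cancel_left] at h2
  refine S.K_conj_inj h2 hk ?_
  rw [← h0 _ (le_norm_iff.1 S.Q0_norm k hk.1 _ ⟨S.sQ, S.ss⟩), map_mul, map_mul, map_inv,
    h0 _ ⟨S.sQ, S.ss⟩]

variable (S) in
/-- those fixing the second point -/
def A1 : Subgroup (MulAut G) where
  carrier := {α | α ∈ A0 S ∧ S.t * α S.t ∈ S.H}
  one_mem' := ⟨one_mem _, by simp [S.H.one_mem]⟩
  mul_mem' {α β} ha hb := ⟨mul_mem ha.1 hb.1, by
    simpa [mul_assoc, ← map_mul] using S.H.mul_mem ha.2 (autH ha.1 hb.2)⟩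
  inv_mem' {α} ha := ⟨inv_mem ha.1, by
    simpa [mul_assoc, ← map_inv] using S.H.inv_mem (autH (inv_mem ha.1) ha.2)⟩

variable (S) in
/-- those fixing `t` -/
def A2 : Subgroup (MulAut G) where
  carrier := {α | α ∈ A0 S ∧ α S.t = S.t}
  one_mem' := ⟨one_mem _, rfl⟩
  mul_mem' {α β} ha hb := ⟨mul_mem ha.1 hb.1, by rw [MulAut.mul_apply, hb.2, ha.2]⟩
  inv_mem' {α} ha := ⟨inv_mem ha.1, by rw [MulAut.inv_apply, MulEquiv.symm_apply_eq, ha.2]⟩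

theorem A2_K (h : α ∈ A2 S) (hk : S.IsK k) : α k = k :=
  autK h.1 (by rw [h.2, S.tt]; exact one_mem _) hk

theorem der_A1 : ⁅A1 S, A1 S⁆ ≤ A2 S := commutator_le.2 fun α ha β hb => by
  refine ⟨B9.commEl_mem ha.1 hb.1, ?_⟩
  have e : ∀ α ∈ A1 S, ∀ β ∈ A1 S, (α * β) S.t = S.t * (S.t * α S.t * (S.t * β S.t)) :=
    fun α ha β hb => by
      rw [← autK ha.1 ha.2 (isK_t hb.2), MulAut.mul_apply, mul_assoc, S.tt', ← map_mul, S.tt']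
  have := e _ (inv_mem hb) _ (inv_mem ha)
  rw [(K_mul (isK_t (inv_mem hb).2) (isK_t (inv_mem ha).2)).2, ← e _ (inv_mem ha) _ (inv_mem hb)]
    at this
  rw [commutatorElement_def, mul_assoc, MulAut.mul_apply, ← this, ← MulAut.mul_apply,
    ← mul_inv_rev, mul_inv_cancel, MulAut.one_apply]

theorem A2_fix (h : α ∈ A2 S) (h1 : α ≠ 1) :
    (∀ x ∈ S.Q, α x = x → x ∈ S.Q0) ∧ ¬ S.Q ≤ S.Q0 := by
  let L : Subgroup G := α.toMonoidHom.eqLocus (MonoidHom.id G)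
  have ht : S.t ∈ L := h.2
  have hL : ¬ S.Q ≤ L := fun e => h1 (MulEquiv.ext fun g => (S.eq_top e ht).ge (mem_top g))
  refine ⟨fun x hx e => ?_, fun e => hL fun x hx => h.1 x (e hx)⟩
  have hb : ∀ x ∈ S.Q, ∀ y ∈ S.H, x * S.t * y ∈ L → x ∈ L := fun x hx y hy e => by
    have e' : α (x * S.t * y) = x * S.t * y := e
    rw [map_mul, map_mul, h.2] at e'
    exact (S.bru_unique (autQ h.1 hx) hx (autH h.1 hy) hy e').1
  have hs : S.s ∈ L := h.1 _ ⟨S.sQ, S.ss⟩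
  have hr : S.r ∈ L := hb _ S.rQ _ (S.H.inv_mem (S.QH S.rQ))
    (S.str ▸ L.mul_mem (L.mul_mem ht hs) ht)
  have h2 : (S.sub L ht hs hr hb).Rk2 := by
    obtain ⟨u, hu, u2, u1, us⟩ := S.rk2_of_simple
    exact ⟨⟨u, h.1 u ⟨hu, u2⟩⟩, hu, Subtype.ext u2, fun e => u1 (congrArg Subtype.val e),
      fun e => us (congrArg Subtype.val e)⟩
  obtain ⟨-, l, hl, h3⟩ := S.sub_good h2.good
  have el : l = S.q := hl.trans (Nat.card_congr (Equiv.subtypeEquivRight fun x =>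
    ⟨fun e => ⟨e.1.1, e.2⟩, fun e => ⟨⟨e.1, h.1 x e⟩, e.2⟩⟩))
  have st : ¬ ((S.s * S.t) ^ 3 = 1 ∧ (S.s * S.t) ^ 5 = 1) := fun e => S.tH (by
    have := Nat.eq_one_of_dvd_coprimes (by norm_num : Nat.Coprime 3 5)
      (orderOf_dvd_of_pow_eq_one e.1) (orderOf_dvd_of_pow_eq_one e.2)
    rw [← inv_eq_of_mul_eq_one_right (orderOf_eq_one_iff.1 this)]; exact inv_mem (S.QH S.sQ))
  have k1 : #|S.Q ⊓ L| ≠ #|S.Q| := fun e =>
    hL ((eq_of_le_of_card_le inf_le_left e.ge).ge.trans inf_le_right)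
  have k2 : #|S.Q ⊓ L| = S.q → x ∈ S.Q0 := fun e' =>
    (eq_of_le_of_card_le (le_inf S.Q0_le fun x hx => h.1 x hx) e'.le).ge ⟨hx, e⟩
  subst el
  obtain ⟨-, ⟨-, a2⟩ | ⟨a1, a2⟩ | ⟨a1, a2⟩⟩ := S.rk2_of_simple.good
  · exact (eq_of_le_of_card_le S.Q0_le a2.le).ge hx
  all_goals rcases h3 with ⟨b1, b2⟩ | ⟨b1, b2⟩ | ⟨b1, b2⟩
  all_goals first
    | exact k2 b2
    | exact (st ⟨a1, b1⟩).elim
    | exact (st ⟨b1, a1⟩).elim
    | exact (k1 (b2.trans a2.symm)).elim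

theorem A2_tr (h : α ∈ A2 S) (h1 : α ≠ 1) (hx : x ∈ S.Q) (x0 : x ∉ S.Q0) (x1 : x⁻¹ * α x ∈ S.Q0)
    (hy : y ∈ S.Q) (y0 : y ∉ S.Q0) (y1 : y⁻¹ * α y ∈ S.Q0) :
    ∃ k, S.IsK k ∧ (k * x * k⁻¹)⁻¹ * y ∈ S.Q0 := by
  have f := (A2_fix h h1).1
  obtain ⟨a, ha, e1⟩ := S.exists_K_conj x1.1 (fun e => x0 (f x hx (inv_mul_eq_one.1 e).symm)) x1.2
  obtain ⟨b, hb, e2⟩ := S.exists_K_conj y1.1 (fun e => y0 (f y hy (inv_mul_eq_one.1 e).symm)) y1.2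
  have hk := (K_mul hb ha.inv).1
  have m := S.Q.mul_mem (S.Q.inv_mem (S.Qn _ hk.1 x hx)) hy
  refine ⟨_, hk, f _ m ?_⟩
  have c := mem_cent.1 (S.Q0_cent y1) _ m
  rw [inv_mul_eq_iff_eq_mul] at e1
  rw [e2] at c
  rw [inv_mul_eq_iff_eq_mul] at e2
  rw [map_mul, map_inv, map_mul, map_mul, map_inv, A2_K h hk, e1, e2]
  calc _ = (b * S.s * b⁻¹)⁻¹ * ((b * a⁻¹ * x * (b * a⁻¹)⁻¹)⁻¹ * y * (b * S.s * b⁻¹)) := by group
    _ = _ := by rw [c, inv_mul_cancel_left]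

theorem A2_mem (h : α ∈ A2 S) (h1 : α ≠ 1) (hx : x ∈ S.Q) (x0 : x ∉ S.Q0) (x1 : x⁻¹ * α x ∈ S.Q0)
    (hβ : β ∈ A0 S) (hγ : γ ∈ A0 S) (e : α * β = β * γ) (h2 : x⁻¹ * γ x ∈ S.Q0) :
    x⁻¹ * β x ∈ S.Q0 := by
  obtain ⟨k, hk, m⟩ := A2_tr h h1 hx x0 x1 (autQ hβ hx) (fun e => x0 (β.injective (hβ _ e) ▸ e))
    (by rw [← MulAut.mul_apply, e, MulAut.mul_apply, ← map_inv, ← map_mul, hβ _ h2]; exact h2)
  have c := mem_cent.1 (S.Q0_cent m) _ (S.Qn _ hk.1 x hx)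
  have e1 : k * (x * x) * k⁻¹ = x * x := by
    have h3 := m.2
    have h4 := mul_inv_cancel_left (k * x * k⁻¹) (β x)
    generalize (k * x * k⁻¹)⁻¹ * β x = u at *
    conv_rhs => rw [← hβ _ (sq_Q0 hx), map_mul, ← h4, mul_assoc, ← mul_assoc u, ← c, mul_assoc _ u, h3]
    group
  by_cases k1 : k = 1
  · simpa [k1] using m
  · exact (x0 ⟨hx, S.K_free' hk k1 (S.Q.mul_mem hx hx) e1⟩).elim

theorem A2_comm (hx : x ∈ S.Q) (x0 : x ∉ S.Q0) (hβ : β ∈ A2 S) (hγ : γ ∈ A2 S)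
    (h1 : x⁻¹ * β x ∈ S.Q0) (h2 : x⁻¹ * γ x ∈ S.Q0) : β * γ = γ * β := by
  by_contra e
  refine x0 ((A2_fix (mul_mem (inv_mem (mul_mem hγ hβ)) (mul_mem hβ hγ))
    fun e' => e (inv_mul_eq_one.1 e').symm).1 x hx ?_)
  have k : ∀ β γ : MulAut G, β ∈ A2 S → x⁻¹ * γ x ∈ S.Q0 →
      (β * γ) x = x * (x⁻¹ * β x * (x⁻¹ * γ x)) := fun β γ hβ h => by
    rw [← hβ.1 _ h, ← mul_assoc, mul_inv_cancel_left, ← map_mul, mul_inv_cancel_left]; rfl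
  rw [MulAut.mul_apply, MulAut.inv_apply, MulEquiv.symm_apply_eq, k _ _ hβ h2, k _ _ hγ h1,
    mem_cent.1 (S.Q0_cent h1) _ h2.1]

theorem A2_perf {Y : Subgroup (MulAut G)} (hY : Y ≤ ⁅Y, Y⁆) (h : Y ≤ A2 S) : Y = ⊥ := by
  obtain ⟨P, hP⟩ := exists_isSylowIn 2 Y
  have od : P = ⊥ → Y = ⊥ := fun e => perf_bot hY (sol_of_odd (by
    rw [← Nat.not_even_iff_odd, even_iff_two_dvd]; exact (sylow_eq_bot_iff Nat.prime_two hP).1 e))
  by_cases P1 : P = ⊥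
  · exact od P1
  obtain ⟨α, ha, a0⟩ := exists_mem_orderOf_eq Nat.prime_two (pgroup_dvd_card Nat.prime_two
    (hP.isPGroup.to_le (zent_le P)) (zent_ne_bot (pgroup_nil Nat.prime_two hP.isPGroup) P1))
  have a1 : α ≠ 1 := fun e => by simp [e] at a0
  have a2 : α * α = 1 := by rw [← sq, ← a0, pow_orderOf_eq_one]
  have hα := h (hP.le ha.1)
  obtain ⟨x, hx, x0, x1⟩ : ∃ x ∈ S.Q, x ∉ S.Q0 ∧ x⁻¹ * α x ∈ S.Q0 := by
    obtain ⟨x, hx, x0⟩ := SetLike.not_le_iff_exists.1 (A2_fix hα a1).2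
    by_cases x1 : x⁻¹ * α x ∈ S.Q0
    · exact ⟨x, hx, x0, x1⟩
    have m := S.Q.mul_mem (S.Q.inv_mem hx) (autQ hα.1 hx)
    refine ⟨_, m, x1, ?_⟩
    rw [map_mul, map_inv, show α (α x) = x from DFunLike.congr_fun a2 x]
    simpa [mul_assoc] using sq_Q0 (S.Q.inv_mem m)
  have k1 : ∀ β ∈ P, x⁻¹ * β x ∈ S.Q0 := fun β hβ =>
    A2_mem hα a1 hx x0 x1 (h (hP.le hβ)).1 hα.1 (mem_cent.1 ha.2 β hβ).symm x1
  have k2 : Y ⊓ 𝐍(P) ≤ 𝐂(P) := fun β hβ => mem_cent.2 fun γ hγ => by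
    have m := conj_mem_of_mem_normalizer' hβ.2 ha.1
    exact A2_comm hx x0 (h (hP.le hγ)) (h hβ.1) (k1 γ hγ) (A2_mem hα a1 hx x0 x1 (h hβ.1).1
      (h (hP.le m)).1 (by group) (k1 _ m))
  exact perf_bot hY (sol_of_odd (odd_of_le (odd_OO Y) (hY.trans ((B1.burnside_normal_complement
    Nat.prime_two hP k2).der1_le (comm_iff_le_cent.2 ((le_inf hP.le le_normalizer).trans k2))))))

/-- a perfect group of automorphisms centralising `Q₀` is trivial -/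
theorem A0_perf {Y : Subgroup (MulAut G)} (hY : Y ≤ ⁅Y, Y⁆) (h : Y ≤ A0 S) : Y = ⊥ := by
  have h1 : A0 S ≤ S.Q.map MulAut.conj ⊔ A1 S := fun α ha => by
    obtain ⟨x, hx, y, hy, e⟩ := S.bru (α S.t) fun H => S.tH (by simpa using autH (inv_mem ha) H)
    rw [← mul_inv_cancel_left (MulAut.conj x) α]
    refine mul_mem_sup (mem_map_of_mem _ hx) ⟨mul_mem (fun z hz => ?_) ha, ?_⟩
    · simp [mul_assoc, ← mem_cent.1 (S.Q0_cent hz) x hx]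
    · simpa [e, mul_assoc] using S.H.mul_mem hy (S.QH hx)
  have h2 := perf_le hY (h.trans h1) (le_norm_iff.2 (by
    rintro α ha _ ⟨x, hx, rfl⟩
    exact ⟨α x, autQ ha.1 hx, by ext; simp⟩))
  rw [A2_perf (pc_perf _) (((pc_perf _).trans (der1_mono pc_le)).trans der_A1), sup_bot_eq] at h2
  exact perf_bot hY (sol_of_pgroup Nat.prime_two ((S.rk2_of_simple.good.pgroup.map _).to_le h2))

end Cfsg.Agent.Go
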