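import Cfsg.Agent.Sz.Main

/-! Rank one systems with four central involutions-and-identity (fact (F4) of notes/goldschmidt.md). -/

set_option autoImplicit false
set_option linter.unusedSectionVars false
set_option linter.style.haveILetI false

namespace Cfsg.Agent.Sz

open Subgroup Cfsg.Agent.H1 Cfsg.Agent.L Cfsg.Agent.FT Cfsg.Agent.FT.B1
open scoped Pointwise commutatorElement

variable {G : Type} [Group G] [Finite G]

theorem card_modEq_cent1 {X : Subgroup G} {v : G} {r : ℕ} (hr : r.Prime) (hv : orderOf v = r)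
    (hn : v ∈ 𝐍(X)) : #|X| ≡ #|X ⊓ 𝐂[v]| [MOD r] := by
  haveI := Fact.mk hr
  have hp : IsPGroup r (zpowers v) := pgroup_of_card_prime (by rw [Nat.card_zpowers, hv])
  letI : MulAction (zpowers v) X := MulAction.compHom X (B1.conjHom (zpowers_le.2 hn))
  refine (hp.card_modEq_card_fixedPoints X).trans ?_
  rw [Nat.card_congr (β := (X ⊓ 𝐂[v] : Subgroup G))
    { toFun := fun x => ⟨x.1, x.1.2, mem_cent1.2 (by
        have := congrArg Subtype.val (x.2 ⟨v, mem_zpowers v⟩)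
        exact (mul_inv_eq_iff_eq_mul.1 this).symm)⟩
      invFun := fun x => ⟨⟨x.1, x.2.1⟩, fun g => Subtype.ext (mul_inv_eq_iff_eq_mul.2
        (mem_cent1.1 (zpowers_le.2 (mem_cent1_comm.1 x.2.2) g.2)))⟩
      left_inv := fun _ => rfl
      right_inv := fun _ => rfl }]

theorem Sys.V_ne_bot [IsSimpleGroup G] (S : Sys G) (h1 : #|S.Q| = 64) (h2 : #|S.D| = 3) : False := by
  haveI : Fact (Nat.Prime 13) := ⟨by norm_num⟩
  have hH : #|S.H| = 192 := by rw [S.card_H, h1, h2]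
  have hG : Nat.card G = 12480 := by rw [S.card_G, h1, hH]
  obtain ⟨P⟩ := (inferInstance : Nonempty (Sylow 13 G))
  have hP : #|(P : Subgroup G)| = 13 := by
    rw [P.card_eq_multiplicity, hG, show 12480 = 13 ^ 1 * 960 by norm_num,
      Nat.factorization_mul (by norm_num) (by norm_num), Nat.Prime.factorization_pow (by norm_num)]
    simp [Nat.factorization_eq_zero_of_not_dvd (show ¬ 13 ∣ 960 by norm_num)]
  have ho : Odd #|𝐂((P : Subgroup G)) ⊓ 𝐍((P : Subgroup G))| := by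
    by_contra h
    rw [Nat.not_odd_iff_even, even_iff_two_dvd] at h
    obtain ⟨u, hu, ou⟩ := exists_mem_orderOf_eq Nat.prime_two h
    obtain ⟨g, hg⟩ := S.exists_conj_Q (v := u) (by rw [← pow_two, ← ou, pow_orderOf_eq_one])
    have : g ⋆ (P : Subgroup G) ≤ S.H := fun x hx => by
      obtain ⟨y, hy, rfl⟩ := mem_conj'.1 hx
      refine S.mem_H_of_comm hg (conj_ne_one (by rintro rfl; simp at ou)) ?_
      rw [conj_mul, conj_mul, mem_cent.1 hu.1 y hy]
    have := card_dvd_of_le' this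
    rw [card_conj, hP, hH] at this
    exact absurd this (by norm_num)
  have h3 := (relIndex_cent_prime_dvd (by norm_num) hP le_rfl).1
  have h4 := card_sylow_modEq_one 13 G
  have h5 := P.card_dvd_index
  rw [P.card_eq_index_normalizer, show normalizer (P : Set G) = 𝐍((P : Subgroup G)) from rfl] at h4 h5
  have h6 := (P : Subgroup G).card_mul_index
  have h7 := (𝐍((P : Subgroup G))).card_mul_index
  have h8 := card_inf_mul_relIndex 𝐂((P : Subgroup G)) 𝐍((P : Subgroup G))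
  rw [hP, hG] at h6
  rw [show (P : Subgroup G).index = 960 by omega] at h5
  rw [hG, ← h8] at h7
  generalize (𝐍((P : Subgroup G))).index = n at *
  obtain ⟨e, he⟩ := h3
  have h9 : 16 ∣ n := by
    refine (Nat.Coprime.mul_right (by norm_num : Nat.Coprime 16 3) (Nat.Coprime.pow_left 4
      (Nat.coprime_two_left.2 ho))).dvd_of_dvd_mul_left (Nat.dvd_of_mul_dvd_mul_left
        (by norm_num : 0 < 4) ?_)
    refine ⟨195 * e, ?_⟩
    calc _ = (13 - 1) * #|𝐂((P : Subgroup G)) ⊓ 𝐍((P : Subgroup G))| * n := by ring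
      _ = 12480 * e := by rw [he, ← h7]; ring
      _ = _ := by ring
  obtain ⟨k, rfl⟩ := h9
  have h10 : k ∣ 60 := Nat.dvd_of_mul_dvd_mul_left (by norm_num : 0 < 16) h5
  have := Nat.le_of_dvd (by norm_num) h10
  interval_cases k <;> first | exact absurd h4 (by decide) | exact absurd h10 (by decide)

/-- (F4) -/
theorem Sys.f4 [IsSimpleGroup G] (S : Sys G) (hq : #|S.Q0| = 4) : S.Q = S.Q0 ∨
    (#|S.Q| = 64 ∧ phi S.Q = S.Q0 ∧ ∃ δ ∈ S.V, orderOf δ = 5 ∧ δ ∈ 𝐂(S.Q0) ∧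
      S.Q ⊓ 𝐂[δ] = S.Q0 ∧ ∀ X, S.Q0 ≤ X → X ≤ S.Q → δ ∈ 𝐍(X) → X = S.Q0 ∨ X = S.Q) := by
  obtain ⟨F, _, _, ⟨c⟩⟩ := S.rk2_of_simple.exists_co
  have hF : Fintype.card F = 4 := by rw [← c.q_eq, ← S.card_Q0, hq]
  obtain ⟨h4, ⟨-, e⟩ | ⟨h5, e⟩ | ⟨-, e⟩⟩ := S.rk2_of_simple.good
  · exact Or.inl (eq_of_le_of_card_le S.Q0_le e.le).symm
  · exfalso
    obtain ⟨-, m, hm, h⟩ := c.typeSz h5 (c.q_eq ▸ e)
    rw [S.card_G, S.card_H, e, c.q_eq, hF, show (4 ^ 2 + 1) * (4 ^ 2 * #|S.D|) = 272 * #|S.D| by ring] at h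
    obtain ⟨j, rfl⟩ : ∃ j, m = j + 1 := ⟨m - 1, by omega⟩
    obtain ⟨d, hd⟩ := S.odd_card_D
    rw [hd, show 2 * (j + 1) + 1 = 2 * j + 3 by ring, pow_add, mul_pow, mul_assoc, mul_assoc] at h
    generalize ((2 ^ (2 * j)) ^ 2 : ℕ) = a at h
    generalize (a * (2 ^ 3) ^ 2 + 1) * (2 ^ (2 * j) * 2 ^ 3 - 1) = b at h
    rw [mul_left_comm] at h
    generalize a * b = c at h
    omega
  right
  rw [c.q_eq, hF] at e
  have hQ : ¬ S.Q ≤ S.Q0 := fun h => by have := card_le_of_le' h; omega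
  have h2 : IsPGroup 2 S.Q := pgroup_of_card (n := 6) e
  have h4' : ∀ x ∈ S.Q, x * x * (x * x) = 1 := fun x hx => by
    rw [← h4 x hx, ← pow_two, ← pow_two, ← pow_mul]
  have sq : ∀ x ∈ S.Q, x * x ∈ S.Q0 := fun x hx => ⟨S.Q.mul_mem hx hx, h4' x hx⟩
  have nQ := S.Q_normal.norm
  have hphi : phi S.Q ≤ S.Q0 := phi_le_of_elem Nat.prime_two (commutator_le.2 fun x hx y hy =>
    S.mem_Q0.2 ⟨B9.commEl_mem hx hy, (c.toHig h2).comm_sq h4' hx hy⟩)
      fun x hx => pow_two x ▸ sq x hx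
  refine ⟨e, ?_, ?_⟩
  · obtain ⟨x, hx, hx0⟩ := SetLike.not_le_iff_exists.1 hQ
    obtain ⟨i, hi⟩ := c.card_pow (phi_le _) (c.K_le_H.trans (nQ.trans (norm_le_norm_phi _)))
      (IsPGroup.le' h2 (phi_le _))
    refine eq_of_le_of_card_le hphi ?_
    rw [hq, hi, hF]
    refine Nat.le_self_pow (fun e => hx0 ⟨hx, ?_⟩) 4
    rw [e, pow_zero, card_eq_one] at hi
    exact pow_two x ▸ mem_bot.1 (hi ▸ pow_mem_phi Nat.prime_two h2 hx)
  have hV : S.V ≠ ⊥ := fun h => S.V_ne_bot e (by rw [c.card_D, h, hF, card_bot])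
  obtain ⟨w, hw, w1⟩ := exists_mem_ne_one hV
  obtain ⟨v, hv, hr⟩ := exists_prime_order_mem_zpowers w1
  replace hv := zpowers_le.2 hw hv
  have v1 : v ≠ 1 := fun e => by rw [e, orderOf_one] at hr; exact Nat.not_prime_one hr
  have ov := S.D_odd (S.VD hv)
  have r3 : 3 ≤ orderOf v := lt_of_le_of_ne hr.two_le fun e => by
    rw [← e] at ov; exact absurd ov (by decide)
  have h0 : S.Q0 ≤ 𝐂[v] := by
    by_contra h
    have h1 := c.card_eq_pow hv hr h
    rw [hF] at h1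
    rcases Nat.lt_or_ge #|S.Q0 ⊓ 𝐂[v]| 2 with h3 | h3
    · have h5 : 0 < #|S.Q0 ⊓ 𝐂[v]| := Nat.card_pos
      rw [show #|S.Q0 ⊓ 𝐂[v]| = 1 by omega, one_pow] at h1; omega
    · have := (Nat.pow_le_pow_right two_pos r3).trans (Nat.pow_le_pow_left h3 _); omega
  have hK := c.K_cent hv h0
  have hX : S.Q ⊓ 𝐂[v] = S.Q0 := by
    obtain ⟨i, hi⟩ := c.card_pow (inf_le_left : S.Q ⊓ 𝐂[v] ≤ _) (le_normalizer_inf
      (c.K_le_H.trans nQ) (hK.trans le_normalizer)) (IsPGroup.le' h2 inf_le_left)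
    have h1 := c.card_ne_of_cent h4' hv h0
    have h3 := card_lt_of_lt (lt_of_le_of_ne (inf_le_left : S.Q ⊓ 𝐂[v] ≤ _) fun e =>
      S.not_le_cent (S.VD hv) v1 (e.ge.trans inf_le_right))
    refine (eq_of_le_of_card_le (le_inf S.Q0_le h0) ?_).symm
    rw [hi, e, hF] at *
    have : i < 3 := (Nat.pow_lt_pow_iff_right (by norm_num)).1 h3
    rw [hq]
    interval_cases i <;> simp at h1 ⊢
  have hm : ∀ X, S.Q0 ≤ X → X ≤ S.Q → v ∈ 𝐍(X) → #|X| ≡ 4 [MOD orderOf v] := fun X h1 h2 h3 => by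
    have := card_modEq_cent1 hr rfl h3
    rwa [le_antisymm ((inf_le_inf_right _ h2).trans hX.le) (le_inf h1 h0), hq] at this
  have r5 : orderOf v = 5 := by
    have h1 := hm _ S.Q0_le le_rfl (nQ (S.VH hv))
    rw [e] at h1
    have h3 : orderOf v ∣ 60 := (Nat.modEq_iff_dvd' (by norm_num)).1 h1.symm
    by_contra h5
    have r3' : orderOf v = 3 := by
      rcases (hr.dvd_mul (m := 4) (n := 15)).1 h3 with h | h
      · exact absurd ((Nat.prime_dvd_prime_iff_eq hr Nat.prime_two).1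
          (hr.dvd_of_dvd_pow (n := 2) h)) (by omega)
      · exact (Nat.prime_dvd_prime_iff_eq hr Nat.prime_three).1 (((hr.dvd_mul (m := 3) (n := 5)).1
          h).resolve_right fun h => h5 ((Nat.prime_dvd_prime_iff_eq hr Nat.prime_five).1 h))
    have cK : #|c.K| = 3 := by rw [c.card_K, hF]
    have cv : #|zpowers v| = 3 := by rw [Nat.card_zpowers, r3']
    have hc : zpowers v ≤ 𝐂(c.K) := le_cent_symm (by rwa [cent_zpowers])
    have dp : DProd c.K (zpowers v) (c.K ⊔ zpowers v) := ⟨hc, eq_bot_iff.2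
      ((inf_le_inf_left _ (zpowers_le.2 hv)).trans c.sdKV.disj.le), rfl⟩
    have ab := abelem_sup (abelem_of_card_prime Nat.prime_three cK)
      (abelem_of_card_prime Nat.prime_three cv) hc
    refine hQ (coprime_abelian_gen_cent ab.1 ((sup_le c.K_le_H (zpowers_le.2 (S.VH hv))).trans nQ)
      (by rw [dp.card, cK, cv, e]; norm_num) fun B hB hcy x hx => ?_)
    obtain ⟨b, hb, b1⟩ := exists_mem_ne_one (show B ≠ ⊥ from fun e0 => by
      have := card_of_abelem_of_cyclic Nat.prime_three ab (cycMod_bot.1 (e0 ▸ hcy))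
        (ne_bot_of_le c.K_ne_bot le_sup_left)
      rw [dp.card, cK, cv] at this; omega)
    obtain ⟨_, ⟨a, rfl⟩, z, hz, rfl⟩ := dp.mem_iff.1 (hB hb)
    have xb := cent_le_cent1 hb hx.2
    by_contra hx0
    have m := sq x hx.1
    have a1 := c.κ_free m.1 (a := a) (mul_inv_eq_iff_eq_mul.2 (mem_cent1.1 ((mul_mem_cancel_right
      (zpowers_le.2 (mem_cent1_comm.1 (h0 m)) hz)).1 (mem_cent1_comm.1 (mul_mem xb xb)))))
      fun e => hx0 ⟨hx.1, e⟩
    rw [a1, map_one, one_mul] at b1 xb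
    rw [cent1_eq_cent_of_prime (cv ▸ Nat.prime_three) hz b1, cent_zpowers] at xb
    exact hx0 (hX.le ⟨hx.1, xb⟩)
  refine ⟨v, hv, r5, le_cent1_iff.1 h0, hX, fun X h1 h2 h3 => ?_⟩
  have h5 := hm X h1 h2 h3
  have h6 := card_dvd_of_le' h2
  rw [e, show (4 : ℕ) ^ 3 = 2 ^ 6 from rfl, Nat.dvd_prime_pow Nat.prime_two] at h6
  obtain ⟨i, hi, h7⟩ := h6
  rw [r5, h7] at h5
  interval_cases i
  all_goals first | exact absurd h5 (by decide) | skip
  · exact Or.inl (eq_of_le_of_card_le h1 (by omega)).symm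
  · exact Or.inr (eq_of_le_of_card_le h2 (by omega))

end Cfsg.Agent.Sz
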