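import Cfsg.Agent.Go.St3
import Cfsg.Agent.Go.F4
import Cfsg.Agent.H6.Transfer

/-! Goldschmidt, Part II: the structure `CP` of a component. -/

set_option autoImplicit false
set_option linter.unusedSectionVars false

namespace Cfsg.Agent.Go

open Subgroup Cfsg Cfsg.Agent.H1 Cfsg.Agent.L Cfsg.Agent.FT Cfsg.Agent.FT.B1 Cfsg.Agent.Sg
  Cfsg.Agent.R1 Cfsg.Agent.H6
open scoped Pointwise commutatorElement

variable {Y : Type*} [Group Y] [Finite Y] {A K P : Subgroup Y}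

/-- transfer: the centre of a perfect group meets a Sylow subgroup inside its derived group -/
theorem inf_cent_le_der (hK : ⁅K, K⁆ = K) (hP : P ≤ K) (h2 : IsPGroup 2 P)
    (ho : Odd (P.relIndex K)) : P ⊓ 𝐂(K) ≤ ⁅P, P⁆ := fun z hz => by
  by_contra hn
  refine not_mem_commutator_of_controlled (p := 2) (P.subgroupOf K) (⁅P, P⁆.subgroupOf K)
    ⟨fun x hx g => ?_⟩ (fun x hx y hy => commutator_mem_commutator (G := Y) hx hy)
    (Nat.coprime_two_left.2 ho) ⟨z, hP hz.1⟩ hz.1 hn ?_ (fun m a _ => ?_) ?_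
  · exact le_norm_iff.1 (left_le_norm_comm P P) _ g.2 _ hx
  · obtain ⟨k, hk⟩ := h2 ⟨z, hz.1⟩
    exact ⟨k, Subtype.ext (by simpa using congrArg Subtype.val hk)⟩
  · have : a * ⟨z, hP hz.1⟩ ^ m = ⟨z, hP hz.1⟩ ^ m * a :=
      Subtype.ext (mem_cent.1 (pow_mem hz.2 m) a a.2)
    rw [this]; simp
  · rw [_root_.commutator_def, ← subgroupOf_self, ← subOf_comm le_rfl le_rfl, hK]; exact hP hz.1

theorem CK.zc (ck : CK A K) : K ⊓ 𝐂(K) ≤ 𝐂(A) :=
  le_cent_symm (ck.as.trans (sup_le (inf_le_right.trans (le_cent_symm inf_le_right))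
    (inf_le_right.trans (cent_anti inf_le_left))))

variable {X : Type*} [Group X] [Finite X] {π : K →* X}

theorem Pr.mpre_mim_eq (p : Pr K π) : mpre π (mim π A) = A ⊓ K ⊔ K ⊓ 𝐂(K) := by
  rw [← mim_inf_dom, mpre_mim π inf_le_right, p.ker]

theorem Pr.mpre_norm (p : Pr K π) (sc : SC A) (ck : CK A K) :
    mpre π 𝐍(mim π A) = K ⊓ 𝐍(A) := by
  refine le_antisymm (le_inf (mpre_le _ _) ?_)
    (le_mpre_of_mim_le inf_le_left (mim_le_norm π inf_le_right))
  have h1 : mpre π (mim π A) ≤ 𝐍(A) := p.mpre_mim_eq ▸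
    sup_le (inf_le_left.trans le_normalizer) (ck.zc.trans (cent_le_norm _))
  have h2 : mpre π 𝐍(mim π A) ≤ 𝐍(A ⊓ K ⊔ A ⊓ 𝐂(K)) := le_normalizer_sup
    (le_norm_iff.2 fun k hk a ha => ⟨sc.mem a ha.1 k (h1 (le_norm_iff.1
      (mpre_le_norm π le_rfl) k hk a (le_mpre_of_mim_le inf_le_right (mim_mono π inf_le_left) ha))),
      le_norm_iff.1 le_normalizer k (mpre_le _ _ hk) a ha.2⟩)
    ((mpre_le _ _).trans ((le_cent_symm inf_le_right).trans (cent_le_norm _)))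
  rwa [← le_antisymm ck.as (sup_le inf_le_left inf_le_left)] at h2

theorem Pr.card (p : Pr K π) (sq : Sq A) (ck : CK A K) : #|mim π A| = (𝐂(K)).relIndex A :=
  calc #|mim π A| = (K ⊓ 𝐂(K)).relIndex (A ⊓ K) := by
        rw [← mim_inf_dom, card_mim π inf_le_right, p.ker]
    _ = (A ⊓ 𝐂(K)).relIndex (A ⊓ K) := by
        rw [← inf_relIndex_right, ← inf_relIndex_right (A ⊓ 𝐂(K))]; congr 1; ext; simp; tauto
    _ = (A ⊓ 𝐂(K)).relIndex (A ⊓ 𝐂(K) ⊔ A ⊓ K) := (relIndex_sup_of_norm (inf_le_left.trans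
        ((sq.cent.trans (cent_anti inf_le_left)).trans (cent_le_norm _)))).symm
    _ = _ := by
        rw [sup_comm, ← le_antisymm ck.as (sup_le inf_le_left inf_le_left), inf_comm,
          inf_relIndex_right]

theorem Pr.cp_of (p : Pr K π) (hO : core {2}ᶜ (⊤ : Subgroup Y) = ⊥) (sc : SC A) (sq : Sq A)
    (hK : IsComponent K) (ck : CK A K) {Q : Subgroup X}
    (h1 : Q ⊴ 𝐍(mim π A)) (h2 : IsPGroup 2 Q) (h3 : Odd Q.index)
    (h4 : ∀ y ∈ Q, y ∈ mim π A ∨ (y * y ∈ mim π A ∧ y * y ≠ 1))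
    (h5 : #|mim π A| = 4 → Q = mim π A ∨ (#|Q| = 64 ∧ phi Q = mim π A ∧
      ∃ δ ∈ 𝐂(mim π A), orderOf δ = 5 ∧ Q ⊓ 𝐂[δ] = mim π A)) : CP A K (mpre π Q) := by
  have top := p.top
  have hk := p.ker
  have hZ : IsPGroup 2 (mker π) := hk ▸ zent_two hO hK
  have P2 := pgroup_mpre h2 hZ
  have mQ : mim π (mpre π Q) = Q := mim_mpre (top ▸ le_top)
  have hV := p.mpre_mim_eq (A := A)
  have cV : mpre π (mim π A) ≤ 𝐂(A) := hV ▸ sup_le (inf_le_left.trans sc.comm) ck.zc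
  have hd : mker π ≤ ⁅mpre π Q, mpre π Q⁆ := (le_inf (mker_le_mpre π Q)
    (hk.le.trans inf_le_right)).trans (inf_cent_le_der (qs_commutator hK.2) (mpre_le _ _) P2
      (by rwa [relIndex_mpre π Q le_rfl, top, relIndex_top_right]))
  refine ⟨p.mpre_norm sc ck ▸ h1.mpre π, P2, ?_, fun x hx => ?_, fun h => ?_⟩
  · rw [← p.mpre_norm sc ck, relIndex_mpre_mpre Q (top ▸ le_top : _ ≤ mim π K)]
    exact h3.of_dvd_nat (relIndex_dvd_index_of_le h1.le)
  · obtain ⟨xK, hx'⟩ := mem_mpre.1 hx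
    rcases h4 _ hx' with h | ⟨⟨a, ha, e⟩, h⟩
    · obtain ⟨a, ha, a1⟩ := SetLike.not_le_iff_exists.1 fun h : A ≤ 𝐂(K) => by
        have := ck.q4; rw [relIndex_eq_one.2 h] at this; omega
      exact ⟨a, ha, a1, (mem_cent.1 (cV (mem_mpre.2 ⟨xK, h⟩)) a ha).symm⟩
    · refine ⟨a, ha, fun a1 => h (e ▸ p.eq_one.2 a1), ?_⟩
      have := mem_cent.1 (p.eq_one.1 (show π (a⁻¹ * (⟨x, xK⟩ * ⟨x, xK⟩)) = 1 by
        rw [map_mul, map_inv, e, map_mul, inv_mul_cancel])) x xK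
      simp only [coe_mul, coe_inv] at this
      calc x * a = a * ((a : Y)⁻¹ * (x * x) * x) * (x * x)⁻¹ * a := by group
        _ = _ := by rw [← this]; group
  · have c4 := (p.card sq ck).trans h
    rcases h5 c4 with e | ⟨e1, e2, d, dc, d5, e3⟩
    · left
      have hc : mpre π Q ≤ 𝐂(mpre π Q) := by
        rw [e]
        nth_rewrite 2 [hV]
        rw [cent_sup]
        exact le_inf (cV.trans (cent_anti inf_le_left)) ((mpre_le _ _).trans
          (le_cent_symm inf_le_right))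
      rw [comm_eq_bot_iff.2 hc, hk] at hd
      rw [e, hV]
      exact sup_le inf_le_left (hd.trans bot_le)
    · right
      have hp : mker π ≤ phi (mpre π Q) := hd.trans (B9.der1_le_phi Nat.prime_two P2)
      have mp : mim π (phi (mpre π Q)) = mim π A := by
        rw [mim_phi Nat.prime_two P2 π (mpre_le _ _), mQ, e2]
      obtain ⟨d0, rfl⟩ := p.surj d
      obtain ⟨j, hj⟩ := hZ ⟨_, coe_mem_mker.2 (show π (d0 ^ 5) = 1 by
        rw [map_pow, ← d5, pow_orderOf_eq_one])⟩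
      have e5 : ((d0 ^ 2 ^ j : K) : Y) ^ 5 = 1 := by
        rw [coe_pow, ← pow_mul, mul_comm, pow_mul]; simpa using congrArg Subtype.val hj
      have hδ : π (d0 ^ 2 ^ j) ∈ 𝐂(mim π A) := map_pow π d0 _ ▸ pow_mem dc _
      have zK : zpowers ((d0 ^ 2 ^ j : K) : Y) ≤ K := zpowers_le.2 (d0 ^ 2 ^ j).2
      have co : ∀ R : Subgroup Y, IsPGroup 2 R → (#|R|).Coprime #|zpowers ((d0 ^ 2 ^ j : K) : Y)| :=
        fun R hR => pgroup_coprime Nat.prime_two hR fun h => by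
          rw [Nat.card_zpowers] at h
          exact absurd (h.trans (orderOf_dvd_of_pow_eq_one e5)) (by decide)
      refine ⟨?_, _, ⟨(d0 ^ 2 ^ j).2, ?_⟩, ⟨1, e5⟩, fun hc => ?_⟩
      · rw [← relIndex_mim ((phi_le _).trans (mpre_le _ _)) (mpre_le _ _) hp, mp, mQ]
        have := card_mul_relIndex_of_le (e2 ▸ phi_le Q : mim π A ≤ Q)
        rw [c4, e1] at this
        omega
      · have h6 := stable_factor_cent (H := mpre π (mim π A)) ⟨mker_le_mpre _ _,
          (mpre_le _ _).trans (dom_le_norm_mker π)⟩ (le_norm_mpre zK (by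
            rw [mim_zpowers]; exact zpowers_le.2 (cent_le_norm _ hδ)))
          (zK.trans (le_cent_symm (hk.le.trans inf_le_right)))
          ((comm_le_mker_iff (mpre_le _ _) zK).2 ((mim_mpre_le _ _).trans (le_cent_symm (by
            rw [mim_zpowers]; exact zpowers_le.2 hδ)))) (co _ (pgroup_mpre (pgroup_mim sc.two π) hZ))
        refine cent_anti ck.as ?_
        rw [cent_sup]
        exact ⟨cent_anti (hV ▸ le_sup_left) (h6 (mem_zpowers _)),
          le_cent_symm inf_le_right (d0 ^ 2 ^ j).2⟩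
      · have h6 := mim_le_cent π (coprime_cent_phi Nat.prime_two P2 (le_norm_mpre zK (by
          rw [mim_zpowers]; exact zpowers_le.2 (h1.norm (cent_le_norm _ hδ)))) (co _ P2) hc)
        rw [mQ, mim_zpowers, zpowers_le, map_pow] at h6
        have h7 := B9.mem_of_pow_mem_coprime h6 (by
          rw [d5]; exact Nat.Coprime.pow_left _ (by decide))
        rw [inf_eq_left.2 (le_cent1_iff.2 h7)] at e3
        rw [e3] at e1; omega

theorem Pr.cp (hO : core {2}ᶜ (⊤ : Subgroup Y) = ⊥) (sc : SC A) (sq : Sq A) (hK : IsComponent K)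
    (ck : CK A K) {X : Type} [Group X] [Finite X] [IsSimpleGroup X] {π : K →* X} (p : Pr K π)
    (h : (∃ S : Sz.Sys X, S.Q0 = mim π A) ∨ L.IsSylowIn 2 (mim π A) ⊤) : ∃ P, CP A K P := by
  rcases h with ⟨S, e⟩ | h
  · have g := S.rk2_of_simple.good'
    have hN : 𝐍(S.Q0) = S.H := le_antisymm (fun n hn => S.mem_H_of_conj S.sQ S.s1
      (S.QH (S.Q0_le (le_norm_iff.1 le_rfl n hn _ (S.mem_Q0.2 ⟨S.sQ, S.ss⟩))))) S.Q0_norm
    have p2 : IsPGroup 2 S.Q := fun x => ⟨2, Subtype.ext (g.1 x x.2)⟩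
    refine ⟨_, p.cp_of hO sc sq hK ck (Q := S.Q) (by rw [← e, hN]; exact S.Q_normal) p2 ?_
      (fun y hy => ?_) fun h => ?_⟩
    · have h1 := S.Q.card_mul_index
      rw [S.card_G, S.card_H, mul_left_comm] at h1
      rw [Nat.eq_of_mul_eq_mul_left Nat.card_pos h1]
      exact (Even.add_one (even_iff_two_dvd.2 (pgroup_dvd_card Nat.prime_two p2
        (ne_bot_of_mem S.sQ S.s1)))).mul S.odd_card_D
    · rw [← e]
      by_cases h : y * y = 1
      · exact Or.inl ⟨hy, h⟩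
      · exact Or.inr ⟨⟨mul_mem hy hy, by rw [← g.1 y hy]; simp only [pow_succ, pow_zero, one_mul, mul_assoc]⟩, h⟩
    · rw [← e] at h ⊢
      rcases S.f4 h with h | ⟨h1, h2, δ, -, h3, h4, h5, -⟩
      exacts [Or.inl h, Or.inr ⟨h1, h2, δ, h4, h3, h5⟩]
  · refine ⟨_, p.cp_of hO sc sq hK ck (NormalIn.self_norm _) (pgroup_mim sc.two π) ?_
      (fun y hy => Or.inl hy) fun _ => Or.inl rfl⟩
    have := IsPiNum.not_dvd' (sylow_hall Nat.prime_two h).index Nat.prime_two (by simp)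
    rwa [relIndex_top_right, ← even_iff_two_dvd, Nat.not_even_iff_odd] at this

/-- `CP` for every component not centralised by `A`, under the induction hypothesis -/
theorem IH.cp [Be.BeI] {Y : Type} [Group Y] [Finite Y] {A K : Subgroup Y} {n : ℕ} (ih : IH n)
    (hY : Nat.card Y < n) (h : SC A) (sq : Sq A) (hO : core {2}ᶜ (⊤ : Subgroup Y) = ⊥)
    (hK : IsComponent K) (hc : ¬ A ≤ 𝐂(K)) : ∃ P, CP A K P :=
  haveI := hK.2.2
  (pr_mk K).cp hO h sq hK ((pr_mk K).ck' (ih.comp hY hK) h sq hO hK hc)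
    (((pr_mk K).dich (ih.comp hY hK) h sq hO hK hc).imp (fun ⟨S, e, _⟩ => ⟨S, e⟩) AB.syl)

theorem IH.stP [Be.BeI] {G : Type} [Group G] [Finite G] [IsSimpleGroup G] {A : Subgroup G}
    (ih : IH (Nat.card G)) (hn : ¬ ∀ x y : G, x * y = y * x) (h : SC A) (sq : Sq A) : StP A :=
  fun _ hg g1 _ _ _ f l _ => ih.cp (l.card_lt hn g1)
    ((h.sci.mono (sq.cent1 hg) le_top).sub.map f l.surj) (sq.mim f) l.core_bot

end Cfsg.Agent.Go
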