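import Cfsg.Agent.Go.Loc
import Cfsg.Agent.Go.Sm2
import Cfsg.Agent.GW.P2b
import Cfsg.Agent.Sg.SFT
import Cfsg.Agent.Be.Cor3
import Cfsg.Agent.FT.Main

/-! Goldschmidt's theorem, Part I: `θ`-subgroups, rank at least four, maximal overgroups. -/

set_option autoImplicit false
set_option linter.unusedSectionVars false

namespace Cfsg.Agent.Go

open Subgroup Cfsg Cfsg.Agent.H1 Cfsg.Agent.L Cfsg.Agent.FT Cfsg.Agent.Sg Cfsg.Agent.R1
open scoped Pointwise commutatorElement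

variable {G : Type} [Group G] [Finite G] {A B T H M W X Y : Subgroup G} {a b c g n : G}

/-- the hypothesis of Part I -/
structure H0 (A : Subgroup G) : Prop where
  sc : SC A
  sq : Sq A
  four : 4 ≤ #|A|
  hyp : Hyp0 A

/-- `θ`-subgroups -/
structure Th (A X : Subgroup G) : Prop where
  odd : Odd #|X|
  norm : A ≤ 𝐍(X)
  fix : X ⊓ 𝐂(A) ≤ OO 𝐂(A)

/-- the largest `θ`-subgroup of `W` -/
def thS (A W : Subgroup G) : Subgroup G := ⁅W, A⁆ ⊔ W ⊓ OO 𝐂(A)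

theorem le_odd_of_sup (h2 : IsPGroup 2 A) (o : Odd #|W|) (hn : A ≤ 𝐍(W)) (hX : X ≤ A ⊔ W)
    (oX : Odd #|X|) : X ≤ W := by
  have sd := SDProd.mk_sup hn (inf_eq_bot_of_two h2 o)
  exact (sd.hall_left (odd_iff_piGrp.1 o) (piGrp_of_isPGroup Nat.prime_two h2 (by simp))).le_of_piGrp
    sd.normal.norm (sup_comm A W ▸ hX) (odd_iff_piGrp.1 oX)

theorem Th.of_le (h : Th A X) (hY : Y ≤ X) (hn : A ≤ 𝐍(Y)) : Th A Y :=
  ⟨odd_of_le h.odd hY, hn, (inf_le_inf_right _ hY).trans h.fix⟩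

theorem Th.conj (h : Th A X) (hg : g ∈ 𝐂(A)) : Th A (g ⋆ X) :=
  ⟨(card_conj g X).symm ▸ h.odd, norm_conj_of_cent hg h.norm, by
    have := conj_mono g h.fix
    rwa [conj_inf, conj_of_mem hg, (core_normal _ _).conj_eq hg] at this⟩

theorem th_of_norm (sq : Sq A) (o : Odd #|X|) (hn : 𝐂(A) ≤ 𝐍(X)) : Th A X :=
  ⟨o, sq.cent.trans hn, le_core (inf_comm X _ ▸ NormalIn.inf_of_norm hn)
    (odd_iff_piGrp.1 (odd_of_le o inf_le_left))⟩

theorem thS_le (hn : A ≤ 𝐍(W)) : thS A W ≤ W := sup_le (comm_le_left hn) inf_le_left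

theorem norm_thS (h1 : T ≤ 𝐍(W)) (h2 : T ≤ 𝐍(A)) : T ≤ 𝐍(thS A W) :=
  le_normalizer_sup (le_normalizer_commutator h1 h2)
    (le_normalizer_inf h1 (le_norm_core (le_norm_cent h2) _))

theorem Th.le_thS (h : Th A X) (sq : Sq A) (hX : X ≤ W) : X ≤ thS A W :=
  (split_two sq.two h.odd h.norm).trans (sup_le_sup (commutator_mono hX le_rfl)
    (le_inf (inf_le_left.trans hX) h.fix))

namespace H0

variable (h : H0 A)
include h

theorem nO (ha : a ∈ A) : A ≤ 𝐍(OO 𝐂[a]) := (h.sq.cent1 ha).trans (core_normal _ _).norm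

theorem comm_le (ha : a ∈ A) (a1 : a ≠ 1) (hX : X ≤ 𝐂[a]) (o : Odd #|X|) (hn : A ≤ 𝐍(X)) :
    ⁅X, A⁆ ≤ OO 𝐂[a] :=
  le_odd_of_sup h.sq.two (odd_OO _) (h.nO ha) ((commutator_mono le_rfl le_sup_left).trans
    (comm_le_right (hX.trans (h.hyp a ha a1)))) (odd_of_le o (comm_le_left hn))

theorem cent_le (ha : a ∈ A) (a1 : a ≠ 1) : 𝐂[a] ≤ OO 𝐂[a] ⊔ 𝐂[a] ⊓ 𝐍(A) := fun g hg => by
  have le : A ⊔ OO 𝐂[a] ≤ 𝐂[a] := sup_le (h.sq.cent1 ha) (core_le _ _)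
  obtain ⟨c, hc, e⟩ := h.sc.conj_eq (le_sup_left : A ≤ A ⊔ OO 𝐂[a])
    (conj_le_of_mem_norm (h.hyp a ha a1 hg) le_sup_left)
  obtain ⟨o, ho, x, hx, rfl⟩ := ((core_normal {2}ᶜ 𝐂[a]).mem_sup (h.sq.cent1 ha)).1
    (sup_comm A _ ▸ hc)
  rw [mul_conj, conj_of_mem hx, eq_comm, conj_eq_conj_iff_norm] at e
  simpa using mul_mem (mem_sup_left ho)
    (mem_sup_right (mem_inf.2 ⟨mul_mem (inv_mem (core_le _ _ ho)) hg, e⟩))

theorem OC_le (ha : a ∈ A) (a1 : a ≠ 1) : OO 𝐂(A) ≤ OO 𝐂[a] := by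
  have n := (core_normal {2}ᶜ 𝐂[a]).norm
  have l := (core_le {2}ᶜ 𝐂(A)).trans (cent_le_cent1 ha)
  refine le_sup_right.trans (le_core ⟨sup_le (core_le _ _) l, (h.cent_le ha a1).trans (sup_le
    (le_sup_left.trans le_normalizer) (le_normalizer_sup (inf_le_left.trans n)
      (le_norm_core (le_norm_cent inf_le_right) _)))⟩
    ((core_pi _ _).sup (core_pi _ _) (Or.inr (l.trans n))))

theorem le_O (hX : Th A X) (ha : a ∈ A) (a1 : a ≠ 1) (hc : X ≤ 𝐂[a]) : X ≤ OO 𝐂[a] :=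
  (split_two h.sq.two hX.odd hX.norm).trans (sup_le (h.comm_le ha a1 hc hX.odd hX.norm)
    (hX.fix.trans (h.OC_le ha a1)))

theorem inf_le_O (hX : Th A X) (ha : a ∈ A) (a1 : a ≠ 1) : X ⊓ 𝐂[a] ≤ OO 𝐂[a] :=
  h.le_O (hX.of_le inf_le_left (le_normalizer_inf hX.norm ((h.sq.cent1 ha).trans le_normalizer)))
    ha a1 inf_le_right

theorem th_O (ha : a ∈ A) : Th A (OO 𝐂[a]) := ⟨odd_OO _, h.nO ha, OO_inf_cent_le ha⟩

theorem th_thS (o : Odd #|W|) (hn : A ≤ 𝐍(W)) : Th A (thS A W) := by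
  have l : W ⊓ OO 𝐂(A) ≤ W ⊓ 𝐂(A) := inf_le_inf_left _ (core_le _ _)
  refine ⟨odd_of_le o (thS_le hn), norm_thS hn le_normalizer, ?_⟩
  rw [thS, sup_inf_modular' (l.trans inf_le_right) (Or.inl (inf_le_left.trans (left_le_norm_comm _ _)))]
  refine sup_le ((cent_comm_le h.sq h.four o hn l (le_normalizer_inf (inf_le_left.trans le_normalizer)
    (inf_le_right.trans (core_normal _ _).norm)) fun c hc c1 => ?_).trans inf_le_right) inf_le_right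
  have n := le_normalizer_inf hn ((h.sq.cent1 hc).trans le_normalizer)
  exact le_inf (inf_le_left.trans ((comm_le_left n).trans inf_le_left)) ((inf_le_inf_right _
    (h.comm_le hc c1 inf_le_right (odd_of_le o inf_le_left) n)).trans (OO_inf_cent_le hc))

theorem th_comm (o : Odd #|W|) (hn : A ≤ 𝐍(W)) : Th A ⁅W, A⁆ :=
  (h.th_thS o hn).of_le le_sup_left (right_le_norm_comm _ _)

variable [IsSimpleGroup G]

theorem ne_top_of_comm (hX : X ≤ 𝐂(X)) : X ≠ ⊤ := fun e => by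
  have c : ∀ x y : G, x * y = y * x := fun x y => mem_cent.1 (hX (e ▸ mem_top y)) x (e ▸ mem_top x)
  obtain ⟨a, ha, a1, -⟩ := exists_third h.four 1
  have t := (⟨fun x hx g => by rwa [c g x, mul_inv_cancel_right]⟩ :
    (zpowers a).Normal).eq_bot_or_eq_top.resolve_left (zpowers_ne_bot.2 a1)
  have := card_le_of_le' (le_top.trans t.ge : A ≤ zpowers a)
  have := card_zpowers_le_two (h.sq a ha)
  have := h.four
  omega

theorem norm_ne (h1 : X ≠ ⊥) (h2 : X ≠ ⊤) : 𝐍(X) ≠ ⊤ := fun e =>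
  (normalizer_eq_top_iff.1 e).eq_bot_or_eq_top.elim h1 h2

theorem ne_top_of_odd (o : Odd #|X|) : X ≠ ⊤ := fun e => by
  have := card_eq_one.2 (inf_eq_bot_of_two h.sq.two o)
  rw [e, top_inf_eq] at this
  have := h.four
  omega

theorem norm_ne_odd (h1 : X ≠ ⊥) (o : Odd #|X|) : 𝐍(X) ≠ ⊤ := h.norm_ne h1 (h.ne_top_of_odd o)

theorem normA_ne : 𝐍(A) ≠ ⊤ :=
  h.norm_ne (fun e => by have := h.four; rw [e, card_bot] at this; omega) (h.ne_top_of_comm h.sq.cent)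

theorem cent_ne (ha : a ∈ A) (a1 : a ≠ 1) : 𝐂[a] ≠ ⊤ := fun e =>
  h.norm_ne (zpowers_ne_bot.2 a1) (h.ne_top_of_comm (cent_zpowers a ▸ zpowers_le_cent1 a))
    (top_le_iff.1 (e ▸ le_norm_zpowers_of_cent le_rfl))

/-- rank at least four -/
theorem done (h16 : 16 ≤ #|A|) : Done A := by
  obtain ⟨W, m, hW⟩ := SF.complete (A := A) (θ := fun a => OO 𝐂[a]) ⟨h.sq, h16,
    fun _ _ _ => odd_OO _, fun _ _ _ => core_le _ _, fun _ ha _ => h.nO ha,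
    fun _ ha _ _ hb b1 => h.inf_le_O (h.th_O ha) hb b1⟩
  have l : ∀ a ∈ A, OO 𝐂[a] ≤ W := fun a ha =>
    hW _ ⟨odd_OO _, h.nO ha, fun _ hb b1 => h.inf_le_O (h.th_O ha) hb b1⟩
  by_cases w : W = ⊥
  · exact ⟨_, h.normA_ne, fun a ha a1 => (h.cent_le ha a1).trans
      (sup_le ((l a ha).trans (w.le.trans bot_le)) inf_le_right)⟩
  refine ⟨_, h.norm_ne_odd w m.odd, fun a ha a1 => (h.cent_le ha a1).trans (sup_le
    ((l a ha).trans le_normalizer) (inf_le_right.trans (le_norm_of_conj fun n hn => ?_)))⟩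
  refine conj_le_iff.2 (m.le_of h.sq le_rfl h.four fun b hb b1 => conj_le_iff.1 ?_)
  rw [conj_core, conj_cent1]
  exact l _ ((mem_normalizer_iff.1 hn b).1 hb)

omit [IsSimpleGroup G] in
/-- `Z*` -/
theorem zs (hY : A ≤ Y) (ha : a ∈ A) (iso : Y ⊓ 𝐍(A) ≤ 𝐂[a]) : Y ≤ OO Y ⊔ Y ⊓ 𝐂[a] := by
  haveI := Fact.mk Nat.prime_two
  obtain ⟨S, hS, l⟩ := exists_isSylowIn_ge h.sq.two hY
  obtain ⟨O, o1, o2, o3, o4⟩ := Be.zs_in hS (l ha) fun g hg m => by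
    obtain ⟨n, hn, e⟩ := fusion_in h.sc hY ha hg
      (h.sc.mem a ha g (h.sc.sci.le_norm hS.isPGroup l le_top m))
    rw [← e, mem_cent1.1 (iso hn), mul_inv_cancel_right]
  have : O ≤ OO Y := le_core ⟨o1, le_norm_iff.2 o3⟩ (piGrp_of_forall fun x hx p hp hd e => by
    obtain rfl : p = 2 := e
    exact (Nat.not_even_iff_odd.2 (o2 x hx)) (even_iff_two_dvd.2 hd))
  intro g hg
  obtain ⟨o, ho, e⟩ := o4 g hg
  simpa using mul_mem (mem_sup_left (this ho))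
    (mem_sup_right (mem_inf.2 ⟨mul_mem (inv_mem (o1 ho)) hg, mem_cent1.2 e⟩))

end H0

open Sm Be.P1 in
theorem ncard_orbN (a : G) : {x | ∃ n ∈ 𝐍(A), n * a * n⁻¹ = x}.ncard = (𝐂[a]).relIndex 𝐍(A) := by
  rw [← st_cj, ← ncard_orb]; rfl

theorem orb_large (sq : Sq A) (h4 : 4 ≤ #|A|) (irr : ∀ U ≤ A, 𝐍(A) ≤ 𝐍(U) → U = ⊥ ∨ U = A)
    (ha : a ∈ A) (a1 : a ≠ 1) : 3 ≤ (𝐂[a]).relIndex 𝐍(A) ∧
      (4 < #|A| → 4 ≤ (𝐂[a]).relIndex 𝐍(A)) := by
  rw [← ncard_orbN]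
  set D := {x | ∃ n ∈ 𝐍(A), n * a * n⁻¹ = x} with hD
  have DA : ∀ x ∈ D, x ∈ A := by rintro _ ⟨n, hn, rfl⟩; exact (mem_normalizer_iff.1 hn a).1 ha
  have D1 : ∀ x ∈ D, x ≠ 1 := by rintro _ ⟨n, -, rfl⟩ e; exact a1 (conj_eq_one_iff.1 e)
  have Dn : ∀ n ∈ 𝐍(A), ∀ x ∈ D, n * x * n⁻¹ ∈ D := by
    rintro n hn _ ⟨m, hm, rfl⟩; exact ⟨n * m, mul_mem hn hm, by group⟩
  have fix : ∀ w ∈ A, (∀ n ∈ 𝐍(A), n * w * n⁻¹ = w) → w = 1 := fun w hw e => by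
    rcases irr _ (zpowers_le.2 hw) (le_norm_zpowers_of_cent fun n hn =>
      mem_cent1.2 (mul_inv_eq_iff_eq_mul.1 (e n hn))) with c | c
    · exact zpowers_eq_bot.1 c
    · have := card_zpowers_le_two (sq w hw); rw [c] at this; omega
  have cm : ∀ x ∈ D, ∀ y ∈ D, x * y = y * x := fun x hx y hy => mem_cent.1 (sq.cent (DA y hy)) x (DA x hx)
  have inj : ∀ {n x y : G}, x ≠ y → n * x * n⁻¹ ≠ n * y * n⁻¹ := fun h e => h (by simpa using e)
  have n0 : D.ncard ≠ 0 := Set.ncard_ne_zero_of_mem (a := a) ⟨1, one_mem _, by simp⟩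
  have n1 : D.ncard ≠ 1 := fun e => by
    obtain ⟨x, e⟩ := Set.ncard_eq_one.1 e
    have m : x ∈ D := e ▸ rfl
    exact D1 x m (fix x (DA x m) fun n hn => by have := Dn n hn x m; rwa [e] at this)
  have n2 : D.ncard ≠ 2 := fun e => by
    obtain ⟨x, y, xy, e⟩ := Set.ncard_eq_two.1 e
    have m : x ∈ D := by simp [e]
    have m' : y ∈ D := by simp [e]
    have := fix (x * y) (mul_mem (DA x m) (DA y m')) fun n hn => by
      have h1 := Dn n hn x m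
      have h2 := Dn n hn y m'
      have h3 := inj (n := n) xy
      rw [← conj_mul]
      rw [e] at h1 h2
      rcases h1 with h1 | h1 <;> rcases h2 with h2 | h2 <;> rw [h1, h2] at h3 ⊢ <;>
        first | exact absurd rfl h3 | exact cm _ m' _ m
    exact xy ((eq_inv_of_mul_eq_one_left this).trans (sq.inv (DA y m')))
  refine ⟨by omega, fun h5 => ?_⟩
  suffices D.ncard ≠ 3 by omega
  intro e
  obtain ⟨x, y, z, xy, xz, yz, e⟩ := Set.ncard_eq_three.1 e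
  have m : x ∈ D := by simp [e]
  have m' : y ∈ D := by simp [e]
  have m'' : z ∈ D := by simp [e]
  have c1 : Commute y x := cm _ m' _ m
  have c2 : Commute z x := cm _ m'' _ m
  have c3 : Commute z y := cm _ m'' _ m'
  have w := fix (x * y * z) (mul_mem (mul_mem (DA x m) (DA y m')) (DA z m'')) fun n hn => by
    have h1 := Dn n hn x m
    have h2 := Dn n hn y m'
    have h3 := Dn n hn z m''
    have i1 := inj (n := n) xy
    have i2 := inj (n := n) xz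
    have i3 := inj (n := n) yz
    rw [← conj_mul, ← conj_mul]
    rw [e] at h1 h2 h3
    rcases h1 with h1 | h1 | h1 <;> rcases h2 with h2 | h2 | h2 <;> rcases h3 with h3 | h3 | h3 <;>
      rw [h1] at i1 i2 <;> rw [h2] at i1 i3 <;> rw [h3] at i2 i3 <;> rw [h1, h2, h3] <;>
      first | exact absurd rfl i1 | exact absurd rfl i2 | exact absurd rfl i3 |
        simp only [mul_assoc, c1.eq, c2.eq, c3.eq, c1.left_comm, c2.left_comm, c3.left_comm]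
  have mem : ∀ u ∈ D, u ∈ zpowers x ⊔ zpowers y := fun u hu => by
    have hx : x ∈ zpowers x ⊔ zpowers y := mem_sup_left (mem_zpowers x)
    have hy : y ∈ zpowers x ⊔ zpowers y := mem_sup_right (mem_zpowers y)
    rw [e] at hu
    rcases hu with rfl | rfl | rfl
    exacts [hx, hy, eq_inv_of_mul_eq_one_right w ▸ inv_mem (mul_mem hx hy)]
  rcases irr _ (sup_le (zpowers_le.2 (DA x m)) (zpowers_le.2 (DA y m'))) (le_norm_of_conj fun n hn => by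
    rw [conj_sup, conj_zpowers, conj_zpowers]
    exact sup_le (zpowers_le.2 (mem _ (Dn n hn x m))) (zpowers_le.2 (mem _ (Dn n hn y m')))) with c | c
  · exact D1 x m (mem_bot.1 (c ▸ mem x m))
  have h6 := (setProd_sup (Or.inl (le_norm_zpowers_of_cent (zpowers_le.2 (mem_cent1.2 c1.eq))))).card
  have := Nat.mul_le_mul (card_zpowers_le_two (sq x (DA x m))) (card_zpowers_le_two (sq y (DA y m')))
  have : 0 < #|zpowers x ⊓ zpowers y| := Nat.card_pos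
  rw [c] at h6
  nlinarith

theorem ncard_sharp (A : Subgroup G) : ((A : Set G) \ (⊥ : Subgroup G)).ncard = #|A| - 1 := by
  have := Sm.ncard_diff (bot_le (a := A))
  rw [card_bot] at this
  omega

theorem trN_of_irr (sq : Sq A) (h4 : 4 ≤ #|A|) (h8 : #|A| ≤ 8)
    (irr : ∀ U ≤ A, 𝐍(A) ≤ 𝐍(U) → U = ⊥ ∨ U = A) : TrN A :=
  fun a ha b hb a1 b1 => by_contra fun c => by
  have h1 := orb_large sq h4 irr ha a1
  have h2 := orb_large sq h4 irr hb b1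
  rw [← ncard_orbN] at h1 h2
  have sub : ∀ a ∈ A, a ≠ 1 → {x | ∃ n ∈ 𝐍(A), n * a * n⁻¹ = x} ⊆ (A : Set G) \ (⊥ : Subgroup G) := by
    rintro a ha a1 _ ⟨n, hn, rfl⟩
    exact ⟨(mem_normalizer_iff.1 hn a).1 ha, fun e => a1 (conj_eq_one_iff.1 e)⟩
  have := Set.ncard_le_ncard (Set.union_subset (sub a ha a1) (sub b hb b1)) (Set.toFinite _)
  rw [Set.ncard_union_eq (Set.disjoint_left.2 (by
    rintro _ ⟨n, hn, rfl⟩ ⟨m, hm, e⟩
    exact c ⟨m⁻¹ * n, mul_mem (inv_mem hm) hn, by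
      rw [show b = m⁻¹ * (m * b * m⁻¹) * m by group, e]; group⟩)) (Set.toFinite _) (Set.toFinite _),
    ncard_sharp] at this
  omega

/-- the setting for rank two and three -/
structure PC (A T : Subgroup G) : Prop extends H0 A where
  le : A ≤ T
  cent : T ≤ 𝐂(A)
  two : IsPGroup 2 T
  loc : ∀ H : Subgroup G, H ≠ ⊤ → T ≤ H → ∀ a ∈ A, OO 𝐂[a] ⊓ H ≤ OO H
  nd : ¬ Done A
  tr : TrN A
  pr : (#|A| - 1).Prime

namespace PC

variable (h : PC A T)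
include h

theorem th_le (hX : Th A X) (hH : H ≠ ⊤) (hT : T ≤ H) (hXH : X ≤ H) : X ≤ OO H :=
  gen1 h.sq h.four hX.norm hX.odd fun b hb b1 =>
    (le_inf (h.inf_le_O hX hb b1) (inf_le_left.trans hXH)).trans (h.loc H hH hT b hb)

theorem T_le (ha : a ∈ A) : T ≤ 𝐂[a] := h.cent.trans (cent_le_cent1 ha)

theorem relIndex (ha : a ∈ A) (a1 : a ≠ 1) : (𝐂[a]).relIndex 𝐍(A) = #|A| - 1 := by
  rw [← ncard_orbN, ← ncard_sharp]
  congr 1
  ext x
  constructor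
  · rintro ⟨n, hn, rfl⟩
    exact ⟨(mem_normalizer_iff.1 hn a).1 ha, fun e => a1 (conj_eq_one_iff.1 e)⟩
  · exact fun hx => h.tr a ha x hx.1 a1 hx.2

/-- `N(A)` is primitive on `A#` -/
theorem prim_norm (ha : a ∈ A) (a1 : a ≠ 1) (h1 : 𝐍(A) ⊓ 𝐂[a] ≤ X) :
    𝐍(A) ⊓ X ≤ 𝐂[a] ∨ 𝐍(A) ≤ X := by
  have e := relIndex_mul_relIndex _ _ _ (le_inf inf_le_left h1) (inf_le_left : 𝐍(A) ⊓ X ≤ _)
  rw [inf_relIndex_left, inf_relIndex_left, h.relIndex ha a1] at e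
  rcases (Nat.prime_mul_iff.1 (e ▸ h.pr)) with c | c
  · exact Or.inr (relIndex_eq_one.1 c.2)
  · exact Or.inl ((relIndex_eq_one.1 c.2).trans inf_le_right)

theorem norm_inf (ha : a ∈ A) (a1 : a ≠ 1) (hM : M ≠ ⊤) (le : 𝐂[a] ≤ M) : M ⊓ 𝐍(A) ≤ 𝐂[a] :=
  inf_comm M _ ▸ (h.prim_norm ha a1 (inf_le_right.trans le)).resolve_right fun c =>
    h.nd ⟨M, hM, fun b hb b1 => by
      obtain ⟨n, hn, rfl⟩ := h.tr a ha b hb a1 b1
      rw [← conj_cent1]; exact conj_le_of_mem (c hn) le⟩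

theorem dec (ha : a ∈ A) (a1 : a ≠ 1) (hM : M ≠ ⊤) (le : 𝐂[a] ≤ M) : M ≤ OO M ⊔ 𝐂[a] :=
  (h.zs ((h.sq.cent1 ha).trans le) ha (h.norm_inf ha a1 hM le)).trans
    (sup_le_sup_left inf_le_right _)

/-- a proper subgroup contains at most one `C(a)` -/
theorem eq_of_le (ha : a ∈ A) (a1 : a ≠ 1) (hM : M ≠ ⊤) (le : 𝐂[a] ≤ M) (hn : n ∈ 𝐍(A))
    (e : n ∈ M) : n * a * n⁻¹ = a := by
  rw [mem_cent1.1 (h.norm_inf ha a1 hM le ⟨e, hn⟩), mul_inv_cancel_right]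

end PC

/-- Step P: the centralisers are maximal subgroups -/
class PMax : Prop where
  main : ∀ {G : Type} [Group G] [Finite G] [IsSimpleGroup G] {A T : Subgroup G} {a : G},
    PC A T → a ∈ A → a ≠ 1 → IsCoatom 𝐂[a]

/-- Step 2: the TI configuration -/
class PTI : Prop where
  main : ∀ {G : Type} [Group G] [Finite G] [IsSimpleGroup G] {A T : Subgroup G},
    PC A T → #|A| ≤ 8 → (∀ a ∈ A, a ≠ 1 → IsCoatom 𝐂[a]) →
    #|A| = 4 ∧ (Odd (𝐂(A)).index → TIc A)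

end Cfsg.Agent.Go
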