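import Cfsg.Agent.Go.A1

/-! Goldschmidt's theorem, Part I: the centralisers `C(a)` are maximal subgroups. -/

set_option autoImplicit false
set_option linter.unusedSectionVars false

namespace Cfsg.Agent.Go

open Subgroup Cfsg Cfsg.Agent.H1 Cfsg.Agent.L Cfsg.Agent.FT Cfsg.Agent.Sg Cfsg.Agent.R1
open Cfsg.Agent.GW (Prim Iv odd_pgp ben1 ben2 ben4 bl dec inv_of_fpf sq_cent sq_eq_comm
  comm_cent_of_inv cent_core zent_core_le)
open scoped Pointwise commutatorElement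

variable {G : Type} [Group G] [Finite G] {A B T H M M' N P R S U V W X Y : Subgroup G}
  {a b c d g n : G} {p q r l : ℕ}

/-- `T`-invariant `θ`-subgroups that are `p`-groups -/
structure TP (A T : Subgroup G) (p : ℕ) (X : Subgroup G) : Prop where
  th : Th A X
  norm : T ≤ 𝐍(X)
  pg : IsPGroup p X

structure MT (A T : Subgroup G) (p : ℕ) (X : Subgroup G) : Prop extends TP A T p X where
  max : ∀ Y, TP A T p Y → X ≤ Y → Y = X

theorem TP.exists_mt (h : TP A T p X) : ∃ S, MT A T p S ∧ X ≤ S := by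
  obtain ⟨S, ⟨h1, h3⟩, h4⟩ := wellFounded_gt.has_min {S | TP A T p S ∧ X ≤ S} ⟨X, h, le_rfl⟩
  exact ⟨S, ⟨h1, fun T a c => (c.eq_of_not_lt (h4 T ⟨a, h3.trans c⟩)).symm⟩, h3⟩

theorem H0.prim [IsSimpleGroup G] (h : H0 A) (hM : IsCoatom M) : Prim M := fun _ hX n =>
  ((hM.le_iff.1 hX.norm).resolve_left (h.norm_ne n fun c => hM.1 (top_le_iff.1 (c ▸ hX.le)))).le

theorem core_bot_of (o : Odd #|W|) (h : ∀ q : ℕ, q.Prime → q ≠ 2 → q ≠ p → core {q} W = ⊥) :
    core {p}ᶜ W = ⊥ := by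
  have := BG1.cent_sub_fitting (sol_of_odd (odd_of_le o (core_le {p}ᶜ W)))
  rwa [show fit (core {p}ᶜ W) = ⊥ from eq_bot_iff.2 (fit_le_of_core_le fun q hq => by
    by_cases e : q = p
    · rw [e, core_eq_bot (core_pi _ _)]
    by_cases e' : q = 2
    · rw [e', core_eq_bot (odd_iff_piGrp.1 (odd_of_le o (core_le _ _)))]
    exact ((core_normal _ W).core_le _).trans (h q hq e' e).le), cent_bot, inf_top_eq,
    le_bot_iff] at this

/-- an `r`-group inverted by `a` and `b` centralises `O_l` of an overgroup of `C(ab)` -/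
theorem cent_of_inv_two (hM : Prim M) (ia : Iv a) (bb : b * b = 1) (ab : a * b = b * a)
    (h1 : 𝐂[a] ≤ M) (h2 : 𝐂[a * b] ≤ M') (hr : r.Prime) (pY : IsPGroup r Y) (oY : Odd #|Y|)
    (y1 : Y ⊓ M = ⊥) (it : ∀ y ∈ Y, a * y * a⁻¹ = y⁻¹) (is : ∀ y ∈ Y, b * y * b⁻¹ = y⁻¹)
    (YM : Y ≤ M') (hq : q.Prime) (q2 : q ≠ 2) (qr : q ≠ r) (q1 : core {q} M ≠ ⊥)
    (nY : zent (core {q} M) ≤ 𝐍(Y)) (hl : l.Prime) (l2 : l ≠ 2) (lr : l ≠ r) (ne : q ≠ l) :
    core {l} M' ≤ 𝐂(Y) := by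
  have pW := core_pgroup hl M'
  have nW := core_normal {l} M'
  generalize core {l} M' = W at *
  have nA := (core_normal {q} M).zent.omega q
  have eA := omega_zent_abelem q (core {q} M)
  have pz := (core_pgroup hq M).to_le (zent_le _)
  have A1 := omega_ne_bot_of_pgroup hq pz (zent_ne_bot (pgroup_nil hq (core_pgroup hq M)) q1)
  have AY := (omega_le q _).trans nY
  generalize omegaOne q (zent (core {q} M)) = A at *
  have pA := abelem_pgroup eA
  have oA := odd_pgp hq q2 pA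
  have cop := pgroup_coprime_pgroup hq hr qr pA pY
  have ba : b ∈ 𝐂[a] := mem_cent1.2 ab.symm
  have key : ∀ {v : G}, (∀ y ∈ Y, v * y * v⁻¹ = y⁻¹) → ∀ a ∈ A, v * a * v⁻¹ = a⁻¹ → a ∈ 𝐂(Y) :=
    fun i a ha e => GW.mem_of_sq_mem (GW.odd_of_mem oA ha)
      (sq_eq_comm e ▸ comm_cent_of_inv (Or.inr i) (AY ha))
  have y0 : Y ⊓ 𝐂(A ⊓ 𝐂[a] ⊓ 𝐂[b]) = ⊥ := eq_bot_iff.2 (y1 ▸ le_inf inf_le_left
    ((le_cent_symm fun a ha => by
      obtain ⟨c, hc, y, hy, e, rfl⟩ := dec oA (nA.norm (h1 (self_mem_cent1 _))) (sq_cent ia.2) ha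
      obtain ⟨c', hc', y', hy', e', rfl⟩ := dec (odd_of_le oA inf_le_left) (zpowers_le.1
        (le_normalizer_inf (zpowers_le.2 (nA.norm (h1 ba))) ((zpowers_le.2 ba).trans
          le_normalizer))) (sq_cent bb) hc
      exact mul_mem (mul_mem (le_cent_symm inf_le_right hc') (cent_anti inf_le_left
        (key is _ hy'.1 e'))) (cent_anti inf_le_left (key it _ hy e))).trans
      ((cent_le_norm A).trans (hM A nA A1))))
  have c0 : W ⊓ M ≤ 𝐂(A ⊓ M') := le_cent_of_disjoint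
    (le_normalizer_inf (inf_le_right.trans nW.norm) (inf_le_left.trans (nA.le.trans le_normalizer)))
    (le_normalizer_inf (inf_le_right.trans nA.norm) (inf_le_left.trans (nW.le.trans le_normalizer)))
    (inf_eq_bot_of_coprime' (coprime_of_le (pgroup_coprime_pgroup hl hq ne.symm pW pA)
      inf_le_left inf_le_left))
  refine le_cent_symm ?_
  rw [← commutator_sup_centralizer (K := Y) (A := A ⊓ 𝐂[a] ⊓ 𝐂[b])
    (inf_le_left.trans (inf_le_left.trans AY)) (coprime_of_le cop (inf_le_left.trans inf_le_left)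
      le_rfl) (Or.inr (sol_of_pgroup hr pY)), y0, sup_bot_eq]
  refine commutator_le.2 fun y hy z hz => ?_
  by_cases z1 : z = 1
  · simp [z1, one_mem]
  have zM := h2 (mem_cent1_comm.1 (mul_mem (mem_cent1_comm.1 hz.1.2) (mem_cent1_comm.1 hz.2)))
  exact GW.fq ia it oY hq q2 (orderOf_eq_of_abelem hq eA hz.1.1 z1) (AY hz.1.1)
    ((piGrp_compl_iff hq).1 (piGrp_of_isPGroup hr pY qr.symm)) (sol_of_pgroup hl pW)
    (odd_pgp hl l2 pW) (YM.trans nW.norm) (nW.norm zM)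
    (nW.norm (h2 (mem_cent1.2 (by rw [mul_assoc, ab]))))
    (pgroup_coprime_pgroup hl hr lr pW pY)
    ((piGrp_compl_iff hq).1 (piGrp_of_isPGroup hl pW ne.symm))
    ((inf_le_inf_left _ h1).trans (c0.trans (cent_le_cent1 ⟨hz.1.1, zM⟩)))
    (commutator_mem_commutator hy (mem_zpowers z))

namespace PC

variable [IsSimpleGroup G] (h : PC A T)
include h

theorem mt_conj (hS : MT A T p S) (hd : d ∈ 𝐂(T)) : MT A T p (d ⋆ S) := by
  have k : ∀ {d S}, d ∈ 𝐂(T) → TP A T p S → TP A T p (d ⋆ S) := fun hd hS =>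
    ⟨hS.th.conj (cent_anti h.le hd), norm_conj_of_cent hd hS.norm, pgroup_conj hS.pg _⟩
  exact ⟨k hd hS.toTP, fun Y hY l => by
    rw [← hS.max _ (k (inv_mem hd) hY) (conj_le_iff.1 l), conj_inv_conj]⟩

theorem exists_sylow (hp : p.Prime) (hN : Th A N) (nN : T ≤ 𝐍(N)) (hX : X ≤ N) (pX : IsPGroup p X)
    (nX : T ≤ 𝐍(X)) : ∃ P, IsSylowIn p P N ∧ X ≤ P ∧ TP A T p P := by
  haveI := Fact.mk hp
  obtain ⟨P, h1, h2, h3⟩ := exists_invariant_isSylowIn_ge nN (cop_two h.two hN.odd)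
    (Or.inr (sol_of_odd hN.odd)) hX pX nX
  exact ⟨P, h1, h2, hN.of_le h1.le (h.le.trans h3), h3, h1.isPGroup⟩

/-- Thompson transitivity -/
theorem exists_conj (hp : p.Prime) (hS : MT A T p S) (hU : MT A T p U) (h0 : S ⊓ U ≠ ⊥) :
    ∃ d ∈ 𝐂(T), d ⋆ S = U := by
  induction hn : Nat.card G - #|S ⊓ U| using Nat.strong_induction_on generalizing S U with
  | _ n ih =>
  by_cases e : S = U
  · exact ⟨1, one_mem _, by rw [one_conj, e]⟩
  have l1 : S ⊓ U < S := inf_lt_left.2 fun c => e (hS.max U hU.toTP c).symm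
  have l2 : S ⊓ U < U := inf_lt_right.2 fun c => e (hU.max S hS.toTP c)
  have nD := le_normalizer_inf hS.norm hU.norm
  have nW := nD.trans (core_normal {2}ᶜ 𝐍(S ⊓ U)).norm
  have hN := h.th_thS (odd_OO _) (h.le.trans nW)
  have nN := norm_thS nW (h.cent.trans (cent_le_norm A))
  have k : ∀ {X}, MT A T p X → S ⊓ U < X → S ⊓ U < X ⊓ thS A (OO 𝐍(S ⊓ U)) := fun {X} hX l => by
    have t := hX.th.of_le inf_le_left (h.le.trans (le_normalizer_inf hX.norm (nD.trans le_normalizer)))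
    exact (lt_inf_norm hp hX.pg l).trans_le (le_inf inf_le_left (t.le_thS h.sq (h.th_le t
      (h.norm_ne_odd h0 (odd_of_le hS.th.odd inf_le_left)) nD inf_le_right)))
  have n1 := k hS l1
  have n2 := k hU l2
  generalize thS A (OO 𝐍(S ⊓ U)) = N at *
  obtain ⟨P, p1, p2, p3⟩ := h.exists_sylow hp hN nN inf_le_right (hS.pg.to_le inf_le_left)
    (le_normalizer_inf hS.norm nN)
  obtain ⟨Q, q1, q2, q3⟩ := h.exists_sylow hp hN nN inf_le_right (hU.pg.to_le inf_le_left)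
    (le_normalizer_inf hU.norm nN)
  obtain ⟨c, c1, rfl⟩ := BG1.coprime_hall_trans nN (cop_two h.two hN.odd).symm (sol_of_odd hN.odd)
    (sylow_hall hp p1) p3.norm (sylow_hall hp q1) q3.norm
  obtain ⟨V, hV, u1⟩ := p3.exists_mt
  have lt : ∀ {X Y : Subgroup G}, S ⊓ U < X → X ≤ Y → Nat.card G - #|Y| < n := fun {X Y} a b => by
    have := card_lt_of_lt (a.trans_le b)
    have := card_le_card_group Y
    omega
  have a1 := le_inf inf_le_left (p2.trans u1)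
  have a2 := le_inf (q2.trans (conj_mono c u1)) inf_le_left
  obtain ⟨d, d1, d2⟩ := ih _ (lt n1 a1) hS hV (ne_bot_of_le h0 (n1.le.trans a1)) rfl
  obtain ⟨d', d3, d4⟩ := ih _ (lt n2 a2) (h.mt_conj hV c1.2) hU (ne_bot_of_le h0 (n2.le.trans a2)) rfl
  exact ⟨d' * c * d, mul_mem (mul_mem d3 c1.2) d1, by rw [mul_conj, mul_conj, d2, d4]⟩

theorem zj_eq (hM : IsCoatom M) (hp : p.Prime) (hP : IsSylowIn p P (OO M)) (P1 : P ≠ ⊥)
    (h0 : ∀ q : ℕ, q.Prime → q ≠ 2 → q ≠ p → core {q} M = ⊥) : 𝐍(centerThompsonAOf P) = M := by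
  obtain ⟨z1, z2, z3⟩ := BG6.zj_ne_bot hp hP.isPGroup P1
  have n := BG6.zj_normal hp (odd_OO M) (sol_of_odd (odd_OO M)) hP (core_bot_of (odd_OO M)
    fun q hq a b => eq_bot_iff.2 (((core_normal _ M).core_le _).trans (h0 q hq a b).le))
  have : M ≤ 𝐍(centerThompsonAOf P) := by
    conv_lhs => rw [← (sylow_frattini hp hP (core_normal _ M)).sup]
    exact sup_le n.norm (inf_le_right.trans z3)
  exact le_antisymm (h.prim hM _ ⟨n.le.trans (core_le _ _), this⟩ z1) this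

theorem exists_mt (ha : a ∈ A) (hM : IsCoatom M) (le : 𝐂[a] ≤ M) (hp : p.Prime) (p2 : p ≠ 2)
    (P1 : core {p} M ≠ ⊥) (h0 : ∀ q : ℕ, q.Prime → q ≠ 2 → q ≠ p → core {q} M = ⊥) :
    ∃ P, IsSylowIn p P (OO M) ∧ core {p} M ≤ P ∧ MT A T p P := by
  have TM := (h.T_le ha).trans le
  obtain ⟨P, p1, p3, p4⟩ := h.exists_sylow hp (th_of_norm h.sq (odd_OO M) ((cent_le_cent1 ha).trans
    (le.trans (core_normal _ _).norm))) (TM.trans (core_normal _ _).norm)
    (core_mono_pi (by simpa using p2.symm) M) (core_pgroup hp M) (TM.trans (core_normal _ _).norm)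
  refine ⟨P, p1, p3, p4, fun Y hY l => (eq_of_nil_of_norm_le (pgroup_nil hp hY.pg) l ?_).symm⟩
  refine sylow_le_of_norm hp p1 (h.th_le (hY.th.of_le inf_le_left (h.le.trans (le_normalizer_inf
    hY.norm (p4.norm.trans le_normalizer)))) hM.1 TM (inf_le_right.trans ?_))
    (hY.pg.to_le inf_le_left) (Or.inr inf_le_right)
  rw [← h.zj_eq hM hp p1 (ne_bot_of_le P1 p3) h0]
  exact (BG6.zj_ne_bot hp p1.isPGroup (ne_bot_of_le P1 p3)).2.2

theorem exV (ha : a ∈ A) (a1 : a ≠ 1) (hM : IsCoatom M) (le : 𝐂[a] ≤ M) (hp : p.Prime) (p2 : p ≠ 2)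
    (nc : ¬ core {p} M ≤ 𝐂[a]) : ∃ n ∈ 𝐍(A), n * a * n⁻¹ ≠ a ∧ ∃ V, V ≠ ⊥ ∧ V ≤ core {p} M ∧
      V ≤ core {p} (n ⋆ M) ∧ 𝐂(A) ≤ 𝐍(V) := by
  have nP := le.trans (core_normal {p} M).norm
  have pP := core_pgroup hp M
  have oP := odd_pgp hp p2 pP
  have za := zpowers_le.2 ha
  obtain ⟨b, hb, b1, v⟩ : ∃ b ∈ A, b ≠ 1 ∧ ¬ ⁅core {p} M ⊓ 𝐂[b], zpowers a⁆ ≤ ⊥ := by
    by_contra! c
    exact nc (cent_zpowers a ▸ comm_eq_bot_iff.1 (le_bot_iff.1 (comm_gen h.sq h.four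
      (le_cent_of_le h.sq.cent za) oP ((h.sq.cent1 ha).trans nP)
      (za.trans ((h.sq.cent1 ha).trans nP)) ((h.sq.of_le za).cop oP) c)))
  obtain ⟨n, hn, rfl⟩ := h.tr a ha b hb a1 b1
  have le' : 𝐂[n * a * n⁻¹] ≤ n ⋆ M := by rw [← conj_cent1]; exact conj_mono n le
  have n1 : 𝐂(A) ≤ 𝐍(core {p} M ⊓ 𝐂[n * a * n⁻¹]) := le_normalizer_inf
    ((cent_le_cent1 ha).trans nP) ((cent_le_cent1 hb).trans le_normalizer)
  have nW := core_normal {2}ᶜ (n ⋆ M)
  have tW := nW.norm (le' (h.sq.cent1 hb ha))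
  refine ⟨n, hn, fun e => v (e.symm ▸ (zp_cent inf_le_right).le), _, fun e => v e.le,
    (comm_le_left (za.trans (h.sq.cent.trans n1))).trans inf_le_left, ?_, le_normalizer_commutator n1
      (le_norm_zpowers_of_cent (cent_le_cent1 ha))⟩
  exact (commutator_mono (le_inf inf_le_left (h.th_le (th_of_norm h.sq (odd_of_le oP inf_le_left) n1)
    (isCoatom_conj n hM).1 ((h.T_le hb).trans le') (inf_le_right.trans le'))) le_rfl).trans
    ((bl hp (h.sq a ha) (sol_of_odd (odd_OO _)) (odd_OO _) tW inf_le_right (pP.to_le inf_le_left)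
      (zpowers_le.1 (le_normalizer_inf (zpowers_le.2 (nP (self_mem_cent1 a))) (zpowers_le.2 tW)))
      (le_normalizer_inf (inf_le_right.trans nP) (inf_le_left.trans le_normalizer))).trans
      (nW.core_le _))

section
variable (ha : a ∈ A) (a1 : a ≠ 1) (hM : IsCoatom M) (le : 𝐂[a] ≤ M) (hp : p.Prime) (p2 : p ≠ 2)
  (hn : n ∈ 𝐍(A)) (ne : n * a * n⁻¹ ≠ a) (V1 : V ≠ ⊥) (VP : V ≤ core {p} M)
  (VP' : V ≤ core {p} (n ⋆ M))
include ha a1 hM le hp p2 hn ne V1 VP VP'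

theorem caseA (h0 : ∀ q : ℕ, q.Prime → q ≠ 2 → q ≠ p → core {q} M = ⊥) : False := by
  have hb := (mem_normalizer_iff.1 hn a).1 ha
  have h0' : ∀ q : ℕ, q.Prime → q ≠ 2 → q ≠ p → core {q} (n ⋆ M) = ⊥ := fun q a b c => by
    rw [← conj_core, h0 q a b c, conj_bot]
  obtain ⟨P, p1, p3, p4⟩ := h.exists_mt ha hM le hp p2 (ne_bot_of_le V1 VP) h0
  obtain ⟨Q, q1, q3, q4⟩ := h.exists_mt hb (isCoatom_conj n hM)
    (by rw [← conj_cent1]; exact conj_mono n le) hp p2 (ne_bot_of_le V1 VP') h0'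
  obtain ⟨d, hd, rfl⟩ := h.exists_conj hp p4 q4 (ne_bot_of_le V1 (le_inf (VP.trans p3) (VP'.trans q3)))
  have Q1 := ne_bot_of_le V1 (VP'.trans q3)
  have p5 := sylow_conj hp p1 d
  rw [(core_normal _ M).conj_eq (le (cent_le_cent1 (h.le ha) hd))] at p5
  have e := (h.zj_eq (isCoatom_conj n hM) hp q1 Q1 h0').symm.trans (h.zj_eq hM hp p5 Q1 h0)
  refine ne (h.eq_of_le ha a1 hM.1 le hn ?_)
  exact h.prim hM M (NormalIn.refl M) (ne_bot_of_le V1 (VP.trans (core_le _ _)))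
    (conj_eq_self_iff.1 e)

variable (nV : 𝐂(A) ≤ 𝐍(V)) (hq : q.Prime) (q2 : q ≠ 2) (qp : q ≠ p) (q1 : core {q} M ≠ ⊥)
include nV hq q2 qp q1

theorem core_bot (hr : r.Prime) (r2 : r ≠ 2) (r0 : core {r} M = ⊥) : core {r} 𝐍(V) = ⊥ := by
  have hb := (mem_normalizer_iff.1 hn a).1 ha
  have pY := core_pgroup hr 𝐍(V)
  have oY := odd_pgp hr r2 pY
  have nY := (core_normal {r} 𝐍(V)).norm
  have tY := th_of_norm h.sq oY (nV.trans nY)
  have k : ∀ {x g}, x ∈ A → 𝐂[x] ≤ g ⋆ M → core {r} 𝐍(V) ⊓ g ⋆ M ≤ OO (g ⋆ M) ∧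
      core {r} (OO (g ⋆ M)) = ⊥ := fun {x g} hx l =>
    ⟨h.th_le (tY.of_le inf_le_left (le_normalizer_inf tY.norm ((h.sq.cent1 hx).trans
      (l.trans le_normalizer)))) (isCoatom_conj g hM).1 ((h.T_le hx).trans l) inf_le_right,
      eq_bot_iff.2 (((core_normal _ _).core_le _).trans (by rw [← conj_core, r0, conj_bot]))⟩
  have k' : ∀ {x g}, x ∈ A → 𝐂[x] ≤ g ⋆ M → V ≤ core {p} (g ⋆ M) → core {r} 𝐍(V) ⊓ g ⋆ M = ⊥ :=
    fun {x g} hx l v => eq_bot_iff.2 ((le_inf inf_le_left (k hx l).1).trans (ben1 (Q := V)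
      (sol_of_odd (odd_OO _)) (le_inf ((v.trans (core_core_of_subset (ρ := {2}ᶜ)
        (by simpa using p2.symm) _).ge).trans (core_le_fit hp _)) le_normalizer)
      (inf_le_right.trans (cent_le_norm V)) hr (k hx l).2).le)
  have le_b : 𝐂[n * a * n⁻¹] ≤ n ⋆ M := by rw [← conj_cent1]; exact conj_mono n le
  have y1 := k' (g := 1) ha (by rwa [one_conj]) (by rwa [one_conj])
  rw [one_conj] at y1
  have y2 := k' hb le_b VP'
  have it := inv_of_fpf oY (tY.norm ha) (sq_cent (h.sq a ha)) (eq_bot_iff.2 (y1 ▸ inf_le_inf_left _ le))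
  have is := inv_of_fpf oY (tY.norm hb) (sq_cent (h.sq _ hb))
    (eq_bot_iff.2 (y2 ▸ inf_le_inf_left _ le_b))
  have cz : ∀ {q}, q.Prime → zent (core {q} M) ≤ 𝐍(core {r} 𝐍(V)) := fun hq =>
    (zent_core_le hq M).trans (inf_le_right.trans ((cent_anti (VP.trans (core_le_fit hp M))).trans
      ((cent_le_norm V).trans nY)))
  generalize core {r} 𝐍(V) = Y at *
  generalize n * a * n⁻¹ = b at *
  have hc := mul_mem ha hb
  obtain ⟨g, -, e⟩ := h.tr a ha _ hc a1 fun e => ne ((eq_inv_of_mul_eq_one_right e).trans (h.sq.inv ha))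
  have le' : 𝐂[a * b] ≤ g ⋆ M := by rw [← e, ← conj_cent1]; exact conj_mono g le
  have YM : Y ≤ g ⋆ M := le_trans (fun y hy => mem_cent1_comm.1 (GW.conj_eq_iff_cent.1 (by
    calc _ = a * (b * y * b⁻¹) * a⁻¹ := by group
      _ = _ := by rw [is y hy, it _ (inv_mem hy), inv_inv]))) le'
  refine eq_bot_iff.2 ((le_core_of_le_fit ((le_inf ((le_inf le_rfl YM).trans (k hc le').1)
    (le_cent_symm (fit_le_of_core_le fun l hl => ?_))).trans
      (BG1.cent_sub_fitting (sol_of_odd (odd_OO _)))) ((piGrp_iff_isPGroup hr).2 pY)).trans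
    (k hc le').2.le)
  by_cases l2 : l = 2
  · rw [l2, core_eq_bot (core_pi _ _)]; exact bot_le
  by_cases lr : l = r
  · rw [lr, (k hc le').2]; exact bot_le
  have p1 := ne_bot_of_le V1 VP
  obtain ⟨q, hq, q2, q1, ne⟩ : ∃ q : ℕ, q.Prime ∧ q ≠ 2 ∧ core {q} M ≠ ⊥ ∧ q ≠ l := by
    by_cases c : q = l
    exacts [⟨p, hp, p2, p1, c ▸ qp.symm⟩, ⟨q, hq, q2, q1, c⟩]
  exact ((core_normal _ _).core_le _).trans (cent_of_inv_two (h.prim hM) ⟨a1, h.sq a ha⟩ (h.sq b hb)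
    (mem_cent.1 (h.sq.cent hb) a ha) le le' hr pY oY y1 it is YM hq q2 (fun e => q1 (e ▸ r0)) q1
    (cz hq) hl l2 lr ne)

theorem caseB : False := by
  have VF := VP.trans (core_le_fit hp M)
  have pr := h.prim hM
  have CM := (cent_le_cent1 ha).trans le
  have k : ∀ {X}, X ⊴ M → Odd #|X| → X ≤ 𝐂(V) → X ≤ OO 𝐍(V) := fun hX o c =>
    h.th_le (th_of_norm h.sq o (CM.trans hX.norm)) (h.norm_ne_odd V1 (odd_of_le
      (odd_pgp hp p2 (core_pgroup hp M)) VP)) (h.cent.trans nV) (c.trans (cent_le_norm V))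
  have nZ := (core_normal {p} M).zent
  have pZ := (core_pgroup hp M).to_le (zent_le _)
  have ZF := zent_core_le hp M
  have ZM := (cent_le_norm _).trans (pr _ nZ (zent_ne_bot (pgroup_nil hp (core_pgroup hp M))
    (ne_bot_of_le V1 VP)))
  have ZU := k nZ (odd_pgp hp p2 pZ) (ZF.trans (inf_le_right.trans (cent_anti VF)))
  generalize zent (core {p} M) = Z at *
  have nD := core_normal {q} M
  have DU := k nD (odd_pgp hq q2 (core_pgroup hq M))
    (le_cent_of_le (core_le_cent_core (by simpa using qp) M) VP)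
  have nU := core_normal {2}ᶜ 𝐍(V)
  have nK := nU.core {p}ᶜ
  have sU := sol_of_odd (odd_OO 𝐍(V))
  have c : Z ≤ 𝐂(core {p}ᶜ (OO 𝐍(V))) := (le_inf le_rfl (le_cent_symm (fit_le_of_core_le fun r hr => by
      by_cases rp : r = p
      · rw [rp, core_eq_bot (core_pi _ _)]; exact bot_le
      by_cases r2 : r = 2
      · rw [r2, core_eq_bot ((core_pi _ _).of_le (core_le _ _))]; exact bot_le
      refine (nK.core_le _).trans ?_
      by_cases r0 : core {r} M = ⊥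
      · rw [h.core_bot ha a1 hM le hp p2 hn ne V1 VP VP' nV hq q2 qp q1 hr r2 r0]; exact bot_le
      exact le_cent_symm (ben2 pr VF (inf_le_right.trans (cent_le_norm V)) hr r0
        (le_inf (ZF.trans inf_le_left) (ZU.trans nU.le))
        ((piGrp_compl_iff hr).1 (piGrp_of_isPGroup hp pZ (Ne.symm rp))))))).trans
    (BG1.coprime_cent_fitting (ZU.trans (core_normal _ _).norm)
      (((piGrp_iff_isPGroup hp).2 pZ).coprime' (core_pi _ _)).symm (sol_of_le sU (core_le _ _)))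
  have D1 : core {q} M ≤ core {p}ᶜ (OO 𝐍(V)) := (le_core (nD.of_le (le_inf DU (le_cent_symm
    (ZF.trans (inf_le_right.trans (cent_anti (core_le_fit hq M)))))) (inf_le_right.trans ZM))
    (piGrp_of_isPGroup hq (core_pgroup hq M) qp)).trans (BG1.p'core_cent_pgroup hp sU ZU pZ)
  have := ((le_core (nD.of_le D1 ((le_cent_symm c).trans ZM)) (core_pi _ _)).trans
    (nK.core_le _)).trans (ben4 (pr.cj n) hp VP' V1 hq qp (conj_core n {q} M ▸ conj_ne_bot n q1))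
  rw [← conj_core] at this
  exact ne (h.eq_of_le ha a1 hM.1 le hn (pr _ nD q1
    (conj_eq_self_iff.1 (eq_of_le_of_card_le this (card_conj n _).le).symm)))

end

end PC

instance instPMax : PMax where
  main := fun {G} _ _ _ {A T a} h ha a1 => by
    obtain ⟨M, hM, le⟩ := (eq_top_or_exists_le_coatom 𝐂[a]).resolve_left (h.cent_ne ha a1)
    suffices M ≤ 𝐂[a] from le_antisymm this le ▸ hM
    refine (h.dec ha a1 hM.1 le).trans (sup_le (le_cent1_iff.2 (cent_core ⟨a1, h.sq a ha⟩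
      (le_normalizer (le (self_mem_cent1 a))) fun p hp p2 => by_contra fun nc => ?_)) le_rfl)
    obtain ⟨n, hn, ne, V, V1, VP, VP', nV⟩ := h.exV ha a1 hM le hp p2 nc
    exact h.caseA ha a1 hM le hp p2 hn ne V1 VP VP' fun q hq q2 qp => by_contra fun q1 =>
      h.caseB ha a1 hM le hp p2 hn ne V1 VP VP' nV hq q2 qp q1

end Cfsg.Agent.Go
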