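import Cfsg.Agent.Go.A2

/-! Goldschmidt's theorem, Part I: the TI configuration. -/

set_option autoImplicit false
set_option linter.unusedSectionVars false

namespace Cfsg.Agent.Go

open Subgroup Cfsg Cfsg.Agent.H1 Cfsg.Agent.L Cfsg.Agent.FT Cfsg.Agent.Sg Cfsg.Agent.R1
open Cfsg.Agent.GW (Prim Iv odd_pgp ben1 ben2 kl inv_of_fpf sq_cent comm_cent_of_inv cent_core)
open scoped Pointwise commutatorElement

variable {G : Type} [Group G] [Finite G] {A B T W X Y : Subgroup G} {a b : G} {p q : ℕ}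

theorem cent_of_cores (sq : Sq A) (hn : A ≤ 𝐍(W)) (o : Odd #|W|) (h : A ≤ 𝐂(fit W)) : A ≤ 𝐂(W) :=
  (le_inf le_rfl h).trans (BG1.coprime_cent_fitting hn (sq.cop o).symm (sol_of_odd o))

theorem fit_OO_le (h : ∀ q : ℕ, q.Prime → q ≠ 2 → core {q} W ≤ X) : fit (OO W) ≤ X :=
  fit_le_of_core_le fun q hq => by
    by_cases e : q = 2
    · rw [e, core_eq_bot (core_pi _ _)]; exact bot_le
    · exact ((core_normal _ W).core_le _).trans (h q hq e)

namespace PC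

variable [IsSimpleGroup G] (h : PC A T) (mx : ∀ a ∈ A, a ≠ 1 → IsCoatom 𝐂[a])
include h

theorem core_cj (ha : a ∈ A) (a1 : a ≠ 1) (hb : b ∈ A) (b1 : b ≠ 1) (π : Set ℕ) :
    ∃ n ∈ 𝐍(A), n * a * n⁻¹ = b ∧ n ⋆ core π 𝐂[a] = core π 𝐂[b] :=
  let ⟨n, hn, e⟩ := h.tr a ha b hb a1 b1
  ⟨n, hn, e, by rw [conj_core, conj_cent1, e]⟩

theorem core_eq_bot (ha : a ∈ A) (a1 : a ≠ 1) (hb : b ∈ A) (b1 : b ≠ 1) (e : core {q} 𝐂[a] = ⊥) :
    core {q} 𝐂[b] = ⊥ := by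
  obtain ⟨n, -, -, e'⟩ := h.core_cj ha a1 hb b1 {q}
  rw [← e', e, conj_bot]

include mx

/-- Bender's lemma for `C(a)` -/
theorem ben (ha : a ∈ A) (a1 : a ≠ 1) (hX : X ≤ fit 𝐂[a]) (hq : q.Prime) (q2 : q ≠ 2)
    (q1 : core {q} 𝐂[a] ≠ ⊥) : core {q} 𝐍(X) ≤ 𝐂[a] := by
  have c : zpowers a ≤ 𝐂(𝐂[a]) := le_cent_symm (cent_zpowers a).ge
  rw [← cent_zpowers]
  exact le_cent_symm (ben2 (h.prim (mx a ha a1)) hX (inf_le_right.trans (cent_le_norm X)) hq q1
    (le_inf (le_fit (NormalIn.of_le_cent (zpowers_le_cent1 a) c) (nil_of_comm (comm_of_cyclic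
      (cyclic_zpowers a)))) (le_norm_of_le_cent (le_cent_of_le c (hX.trans (fit_le _)))))
    ((piGrp_compl_iff hq).1 (piGrp_of_isPGroup Nat.prime_two (Sg.two_zpowers (h.sq a ha)) q2.symm)))

section
variable (hB : B ≤ A) (h4 : 4 ≤ #|B|) (ha : a ∈ B) (a1 : a ≠ 1) (hp : p.Prime) (p2 : p ≠ 2)
  (X1 : core {p} 𝐂[a] ⊓ 𝐂(B) ≠ ⊥)
include hB h4 ha a1 hp p2 X1

theorem s2a : a ∈ 𝐂(OO 𝐍(core {p} 𝐂[a] ⊓ 𝐂(B))) := by
  haveI := Fact.mk hp
  have nP := core_normal {p} 𝐂[a]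
  have pP := core_pgroup hp 𝐂[a]
  have nX : 𝐂(A) ≤ 𝐍(core {p} 𝐂[a] ⊓ 𝐂(B)) := le_normalizer_inf
    ((cent_le_cent1 (hB ha)).trans nP.norm) ((cent_anti hB).trans le_normalizer)
  have XP : core {p} 𝐂[a] ⊓ 𝐂(B) ≤ core {p} 𝐂[a] := inf_le_left
  have XB : core {p} 𝐂[a] ⊓ 𝐂(B) ≤ 𝐂(B) := inf_le_right
  generalize core {p} 𝐂[a] ⊓ 𝐂(B) = X at *
  have pX := pP.to_le XP
  refine cent_core ⟨a1, h.sq a (hB ha)⟩ (le_normalizer (nX (h.sq.cent (hB ha)))) fun q hq q2 => ?_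
  by_cases q1 : core {q} 𝐂[a] = ⊥
  swap
  · exact h.ben mx (hB ha) a1 (XP.trans (core_le_fit hp _)) hq q2 q1
  have k0 : ∀ b ∈ A, b ≠ 1 → core {q} (OO 𝐂[b]) = ⊥ := fun b hb b1 => eq_bot_iff.2
    (((core_normal _ _).core_le _).trans (h.core_eq_bot (hB ha) a1 hb b1 q1).le)
  have y1 := ben1 (Q := X) (B := 𝐍(X)) (sol_of_odd (odd_OO _)) (le_inf ((XP.trans
    (core_core_of_subset (ρ := {2}ᶜ) (by simpa using p2.symm) _).ge).trans (core_le_fit hp _))
    le_normalizer) (inf_le_right.trans (cent_le_norm X)) hq (k0 a (hB ha) a1)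
  have nD := core_normal {q} 𝐍(X)
  have pD := core_pgroup hq 𝐍(X)
  generalize core {q} 𝐍(X) = D at *
  have oD := odd_pgp hq q2 pD
  have tD := th_of_norm h.sq oD (nX.trans nD.norm)
  have y2 : D ⊓ 𝐂[a] = ⊥ := eq_bot_iff.2 (y1 ▸ le_inf inf_le_left (h.inf_le_O tD (hB ha) a1))
  refine (gen1 (h.sq.of_le hB) h4 (hB.trans tD.norm) oD fun b hb b1 => ?_).trans bot_le
  have YW := h.inf_le_O tD (hB hb) b1
  have ab := h.sq.cent1 (hB hb) (hB ha)
  have nY : a ∈ 𝐍(D ⊓ 𝐂[b]) := zpowers_le.1 (le_normalizer_inf (zpowers_le.2 (tD.norm (hB ha)))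
    ((zpowers_le.2 ab).trans le_normalizer))
  have pY := pD.to_le (inf_le_left : D ⊓ 𝐂[b] ≤ D)
  refine (le_core_of_le_fit ((le_inf YW (le_cent_symm (fit_OO_le fun r hr r2 => ?_))).trans
    (BG1.cent_sub_fitting (sol_of_odd (odd_OO _)))) ((piGrp_iff_isPGroup hq).2 pY)).trans
    (k0 b (hB hb) b1).le
  by_cases rq : r = q
  · rw [rq, h.core_eq_bot (hB ha) a1 (hB hb) b1 q1]; exact bot_le
  have nR := core_normal {r} 𝐂[b]
  have pR := core_pgroup hr 𝐂[b]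
  generalize core {r} 𝐂[b] = R at *
  have Xb := XB.trans (cent_le_cent1 hb)
  have cop := pgroup_coprime_pgroup hr hq rq pR pY
  have c : R ⊓ 𝐂(X) ≤ 𝐂(D ⊓ 𝐂[b]) := le_cent_of_disjoint
    (le_normalizer_inf (inf_le_right.trans nR.norm) (inf_le_left.trans (nD.le.trans
      (norm_le_norm_cent X))))
    (le_normalizer_inf (inf_le_right.trans ((cent_le_norm X).trans nD.norm))
      (inf_le_left.trans (nR.le.trans le_normalizer)))
    (inf_eq_bot_of_coprime' (coprime_of_le cop inf_le_left le_rfl))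
  refine le_cent_symm ?_
  by_cases rp : r = p
  · subst rp
    exact thompson_P_times_Q pX (pgroup_coprime hq pY fun e => rq
      ((Nat.prime_dvd_prime_iff_eq hq hr).1 e).symm) (le_cent_of_le ((NormalIn.self_norm X).le_cent_of_coprime
        nD (pgroup_coprime_pgroup hr hq rq pX pD)) inf_le_left) R pR (Xb.trans nR.norm)
      (inf_le_right.trans nR.norm) c
  have k := kl (h.sq a (hB ha)) (pgroup_nil hr pR) (odd_pgp hr r2 pR) (nR.norm ab) nY
    (inf_le_right.trans nR.norm) cop ((le_inf inf_le_left (le_cent_symm (comm_eq_bot_iff.1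
      (eq_bot_iff.2 ((le_inf ((commutator_mono XP inf_le_right).trans (nP.comm_le_left le_rfl))
        ((commutator_mono Xb inf_le_left).trans (nR.comm_le_right le_rfl))).trans
        (inf_eq_bot_of_coprime' (pgroup_coprime_pgroup hp hr (Ne.symm rp) pP pR)).le))))).trans c)
  refine (split_two (Sg.two_zpowers (h.sq a (hB ha))) (odd_of_le oD inf_le_left)
    (zpowers_le.2 nY)).trans (sup_le k ?_)
  rw [cent_zpowers]
  exact (inf_le_inf_right _ inf_le_left).trans (y2.le.trans bot_le)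

theorem s2b (hb : b ∈ B) : core {p} 𝐂[b] ≤ 𝐂[a] := by
  haveI := Fact.mk hp
  have k := h.s2a mx hB h4 ha a1 hp p2 X1
  have pP := core_pgroup hp 𝐂[a]
  have nX : 𝐂(A) ≤ 𝐍(core {p} 𝐂[a] ⊓ 𝐂(B)) := le_normalizer_inf
    ((cent_le_cent1 (hB ha)).trans (core_normal _ _).norm) ((cent_anti hB).trans le_normalizer)
  have pR := core_pgroup hp 𝐂[b]
  have nR := (core_normal {p} 𝐂[b]).norm
  rw [← cent_zpowers a]
  refine le_cent_symm (thompson_P_times_Q (pP.to_le inf_le_left) (pgroup_coprime Nat.prime_two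
    (Sg.two_zpowers (h.sq a (hB ha))) fun e => p2 ((Nat.prime_dvd_prime_iff_eq Nat.prime_two hp).1
      e).symm) (inf_le_right.trans (cent_anti (zpowers_le.2 ha))) _ pR
    (inf_le_right.trans ((cent_le_cent1 hb).trans nR))
    (zpowers_le.2 (nR (h.sq.cent1 (hB hb) (hB ha)))) ?_)
  exact (h.th_le (th_of_norm h.sq (odd_of_le (odd_pgp hp p2 pR) inf_le_left) (le_normalizer_inf
    ((cent_le_cent1 (hB hb)).trans nR) (le_norm_cent nX))) (h.norm_ne_odd X1 (odd_of_le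
      (odd_pgp hp p2 pP) inf_le_left)) (h.cent.trans nX) (inf_le_right.trans (cent_le_norm _))).trans
    (le_cent_symm (zpowers_le.2 k))

end

theorem fix_bot (ha : a ∈ A) (a1 : a ≠ 1) (hp : p.Prime) (p2 : p ≠ 2) :
    core {p} 𝐂[a] ≤ 𝐂(A) ∨ core {p} 𝐂[a] ⊓ 𝐂(A) = ⊥ := by
  refine or_iff_not_imp_right.2 fun X1 => le_cent_symm fun b hb => ?_
  by_cases b1 : b = 1
  · exact b1 ▸ one_mem _
  obtain ⟨n, hn, -, e⟩ := h.core_cj ha a1 hb b1 {p}
  refine le_cent1_iff.1 (h.s2b mx le_rfl h.four hb b1 hp p2 ?_ ha)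
  have := conj_ne_bot n X1
  rwa [conj_inf, e, conj_of_mem_norm (norm_le_norm_cent A hn)] at this

theorem card_four (h8 : #|A| ≤ 8) : #|A| = 4 := by
  obtain ⟨a, ha, a1, -⟩ := exists_third h.four 1
  obtain ⟨p, hp, p2, nc⟩ : ∃ p : ℕ, p.Prime ∧ p ≠ 2 ∧ ¬ core {p} 𝐂[a] ≤ 𝐂(A) := by
    by_contra! c
    have c' := cent_of_cores h.sq (h.nO ha) (odd_OO _) (le_cent_symm (fit_OO_le c))
    refine h.nd ⟨_, h.normA_ne, fun b hb b1 => (h.cent_le hb b1).trans (sup_le ?_ inf_le_right)⟩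
    obtain ⟨n, hn, -, e⟩ := h.core_cj ha a1 hb b1 {2}ᶜ
    exact e.ge.trans (conj_le_of_mem hn ((le_cent_symm c').trans (cent_le_norm A)))
  have f := (h.fix_bot mx ha a1 hp p2).resolve_left nc
  by_contra n4
  have h8' : #|A| = 8 := by
    obtain ⟨k, e⟩ := pgroup_card Nat.prime_two h.sq.two
    have := h.four
    rw [e] at h8 n4 this ⊢
    have : k ≤ 3 := (Nat.pow_le_pow_iff_right one_lt_two).1 h8
    interval_cases k <;> simp_all
  obtain ⟨B, hB, b2, X1⟩ := exists_hyper h.sq ((h.sq.cent1 ha).trans (core_normal {p} _).norm)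
    (odd_pgp hp p2 (core_pgroup hp _)) fun e => nc (e.le.trans bot_le)
  have h4 : 4 ≤ #|B| := by omega
  have mxl : ∀ {U}, B ≤ U → U ≤ A → U = B ∨ U = A := fun {U} l1 l2 => by
    obtain ⟨k, e⟩ := card_dvd_of_le' l1
    obtain ⟨m, e'⟩ := card_dvd_of_le' l2
    by_cases k1 : k = 1
    · exact Or.inl (eq_of_le_of_card_le l1 (by rw [e, k1, mul_one])).symm
    · have : k ≠ 0 := fun c => by have : 0 < #|U| := Nat.card_pos; simp [c] at e; omega
      exact Or.inr (eq_of_le_of_card_le l2 (by nlinarith [show 2 ≤ k by omega]))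
  have aB : a ∈ B := by
    rcases mxl (U := B ⊔ zpowers a) le_sup_left (sup_le hB (zpowers_le.2 ha)) with e | e
    · exact e.le (mem_sup_right (mem_zpowers a))
    · refine absurd (eq_bot_iff.2 (f ▸ le_inf inf_le_left ?_)) X1
      rw [← e, cent_sup, cent_zpowers]
      exact le_inf inf_le_right (inf_le_left.trans (core_le _ _))
  have B4 : #|B| = 4 := by
    have lt : B < A := lt_of_le_of_ne hB fun e => X1 (e ▸ f)
    obtain ⟨k, e⟩ := card_dvd_of_le' hB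
    have := card_lt_of_lt lt
    have : 2 ≤ k := by
      by_contra! c
      interval_cases k <;> omega
    nlinarith
  have key : ∀ b ∈ B, b ≠ 1 → b ≠ a → A ⊓ 𝐂(core {p} 𝐂[b]) = B := fun b hb b1 ba => by
    refine (mxl (le_inf hB ((le_sup_zpowers (h.sq.of_le hB) B4 hb aB b1 fun m => ?_).trans (sup_le
      (zpowers_le.2 (le_cent1_iff.1 (core_le _ _))) (zpowers_le.2 (le_cent1_iff.1
        (h.s2b mx hB h4 aB a1 hp p2 X1 hb)))))) inf_le_left).resolve_right fun e => nc ?_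
    · exact ((show Iv b from ⟨b1, h.sq b (hB hb)⟩).mem_zp.1 m).elim a1 (Ne.symm ba)
    · obtain ⟨n, hn, -, e'⟩ := h.core_cj (hB hb) b1 ha a1 {p}
      rw [← e', ← conj_of_mem_norm (norm_le_norm_cent A hn)]
      exact conj_mono n (le_cent_symm (e.ge.trans inf_le_right))
  obtain ⟨b, hb, b1, ba⟩ := exists_third h4 a
  have c1 : a * b ≠ 1 := fun e => ba ((eq_inv_of_mul_eq_one_right e).trans (h.sq.inv ha))
  obtain ⟨n, hn, e, e'⟩ := h.core_cj (hB hb) b1 (mul_mem ha (hB hb)) c1 {p}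
  have nB : n ∈ 𝐍(B) := conj_eq_self_iff.1 (by
    conv_lhs => rw [← key b hb b1 ba, conj_inf, conj_cent, e', conj_of_mem_norm hn]
    exact key _ (mul_mem aB hb) c1 (by simpa using b1))
  rcases h.prim_norm (X := 𝐍(B)) (hB hb) b1 (key b hb b1 ba ▸ le_normalizer_inf inf_le_left
    (le_norm_cent (inf_le_right.trans (core_normal _ _).norm))) with c | c
  · rw [mem_cent1.1 (c ⟨hn, nB⟩), mul_inv_cancel_right] at e
    exact a1 (by simpa using e)
  · refine X1 (le_antisymm hB (fun x hx => ?_) ▸ f)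
    by_cases x1 : x = 1
    · exact x1 ▸ one_mem _
    obtain ⟨m, hm, rfl⟩ := h.tr a ha x hx a1 x1
    exact (mem_normalizer_iff.1 (c hm) a).1 aB

section
variable (h4 : #|A| = 4)
include h4

theorem cent_eq (ha : a ∈ A) (hb : b ∈ A) (a1 : a ≠ 1) (b1 : b ≠ 1) (ba : b ≠ a) :
    𝐂[a] ⊓ 𝐂[b] ≤ 𝐂(A) := by
  rw [← cent_zpowers, ← cent_zpowers, ← cent_sup]
  exact cent_anti (le_sup_zpowers h.sq h4 ha hb a1 fun m =>
    ((show Iv a from ⟨a1, h.sq a ha⟩).mem_zp.1 m).elim b1 ba)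

theorem TT_le_fit (ha : a ∈ A) (a1 : a ≠ 1) : TT A a ≤ fit (OO 𝐂[a]) := by
  have nF := fit_normal (OO 𝐂[a])
  refine le_trans (le_inf (comm_le_left (h.nO ha)) (commutator_le.2 fun w hw b hb => ?_))
    (BG1.cent_sub_fitting (sol_of_odd (odd_OO _)))
  refine le_cent1_iff.1 (fit_OO_le fun q hq q2 => le_cent1_iff.2 (comm_cent_of_inv ?_
    ((core_normal _ _).norm (core_le _ _ hw))))
  rcases h.fix_bot mx ha a1 hq q2 with c | c
  · exact Or.inl (c.trans (cent_le_cent1 hb))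
  by_cases e : b ∈ zpowers a
  · exact Or.inl ((core_le _ _).trans ((cent_zpowers a).ge.trans (cent_le_cent1 e)))
  exact Or.inr (inv_of_fpf (odd_pgp hq q2 (core_pgroup hq _)) ((core_normal _ _).norm
    (h.sq.cent1 ha hb)) (sq_cent (h.sq b hb)) (eq_bot_iff.2 (c ▸ le_inf inf_le_left
      ((inf_le_inf_right _ (core_le _ _)).trans (h.cent_eq mx h4 ha hb a1 (fun c => e (c ▸ one_mem _))
        fun c => e (c ▸ mem_zpowers _))))))

theorem TT_fix (ha : a ∈ A) (a1 : a ≠ 1) : TT A a ⊓ 𝐂(A) = ⊥ := by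
  have l := h.TT_le_fit mx h4 ha a1
  have nl := nil_of_le (fit_nil _) l
  have o := odd_of_le (odd_OO _) (l.trans (fit_le _))
  have nT : A ≤ 𝐍(TT A a) := right_le_norm_comm _ _
  rw [eq_bot_iff, ← fit_eq_self (nil_of_le nl (inf_le_left : _ ⊓ 𝐂(A) ≤ _))]
  refine fit_le_of_core_le fun q hq => ?_
  by_cases q2 : q = 2
  · rw [q2, FT.core_eq_bot (odd_iff_piGrp.1 (odd_of_le o inf_le_left))]
  have l' : core {q} (TT A a) ≤ core {q} 𝐂[a] := (le_core_of_le_fit ((core_le _ _).trans l)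
    (core_pi _ _)).trans ((core_normal _ _).core_le _)
  have l2 := nil_le_core nl ((core_le {q} (TT A a ⊓ 𝐂(A))).trans inf_le_left) (core_pi _ _)
  rcases h.fix_bot mx ha a1 hq q2 with c | c
  swap
  · exact c ▸ le_inf (l2.trans l') ((core_le _ _).trans inf_le_right)
  have d := nil_dprod_core nl {q}
  have n := (core_normal {q}ᶜ (TT A a)).norm
  have e : TT A a ≤ core {q}ᶜ (TT A a) := by
    conv_lhs => rw [TT, ← commutator_commutator_eq (h.nO ha) (h.sq.cop (odd_OO _))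
      (Or.inr (sol_of_odd (odd_OO _)))]
    refine (commutator_mono d.sup.ge le_rfl).trans (comm_sup_left_le ((comm_eq_bot_iff.2
      (l'.trans c)).le.trans bot_le) (comm_le_left (le_norm_core nT _)) ((core_le _ _).trans n)
      le_normalizer)
  exact d.disj ▸ le_inf l2 (((core_le _ _).trans inf_le_left).trans e)

theorem inv (ha : a ∈ A) (hb : b ∈ A) (a1 : a ≠ 1) (b1 : b ≠ 1) (ba : b ≠ a) :
    ∀ t ∈ TT A a, b * t * b⁻¹ = t⁻¹ :=
  have l : TT A a ≤ OO 𝐂[a] := comm_le_left (h.nO ha)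
  inv_of_fpf (odd_of_le (odd_OO _) l) (right_le_norm_comm _ _ hb) (sq_cent (h.sq b hb))
    (eq_bot_iff.2 (h.TT_fix mx h4 ha a1 ▸ le_inf inf_le_left ((inf_le_inf_right _
      (l.trans (core_le _ _))).trans (h.cent_eq mx h4 ha hb a1 b1 ba))))

omit mx h4 in
theorem comm_le_TT (ha : a ∈ A) (a1 : a ≠ 1) (o : Odd #|W|) (hn : A ≤ 𝐍(W)) :
    ⁅W ⊓ 𝐂[a], A⁆ ≤ W ⊓ TT A a := by
  have n := le_normalizer_inf hn ((h.sq.cent1 ha).trans le_normalizer)
  have o' := odd_of_le o (inf_le_left : W ⊓ 𝐂[a] ≤ W)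
  refine le_inf ((comm_le_left n).trans inf_le_left) ?_
  rw [← commutator_commutator_eq n (h.sq.cop o') (Or.inr (sol_of_odd o'))]
  exact commutator_mono (h.comm_le ha a1 inf_le_right o' n) le_rfl

omit mx h4 in
theorem cent_of_TT (o : Odd #|W|) (hn : A ≤ 𝐍(W)) (c : ∀ a ∈ A, a ≠ 1 → W ⊓ TT A a = ⊥) :
    W ≤ 𝐂(A) := comm_eq_bot_iff.1 (eq_bot_iff.2 (comm_gen h.sq h.four h.sq.cent o hn hn (h.sq.cop o)
      fun a ha a1 => (h.comm_le_TT ha a1 o hn).trans (c a ha a1).le))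

theorem ti (ha : a ∈ A) (a1 : a ≠ 1) (hY : Y ≤ TT A a) (Y1 : Y ≠ ⊥) : 𝐍(Y) ≤ 𝐂[a] := by
  have l := h.TT_le_fit mx h4 ha a1
  have Ya : Y ≤ 𝐂[a] := hY.trans (l.trans ((fit_le _).trans (core_le _ _)))
  have nY : A ≤ 𝐍(Y) := le_norm_iff.2 fun b hb y hy => by
    by_cases b1 : b = 1
    · simpa [b1] using hy
    by_cases ba : b = a
    · rwa [ba, ← mem_cent1.1 (Ya hy), mul_inv_cancel_right]
    · rw [h.inv mx h4 ha hb a1 b1 ba y (hY hy)]; exact inv_mem hy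
  refine (h.zs nY ha fun n hn => by_contra fun c => Y1 (eq_bot_iff.2 fun y hy => ?_)).trans
    (sup_le (le_cent1_iff.2 (cent_core ⟨a1, h.sq a ha⟩ (le_normalizer (nY ha)) fun q hq q2 => ?_))
      inf_le_right)
  · exact GW.eq_one_of_inv (GW.odd_of_mem (odd_OO _) (fit_le _ (l (hY hy))))
      (h.inv mx h4 ha ((mem_normalizer_iff.1 hn.2 a).1 ha) a1 (fun e => a1 (conj_eq_one_iff.1 e))
        (fun e => c (mem_cent1.2 (mul_inv_eq_iff_eq_mul.1 e))) y (hY hy))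
      (le_cent1_iff.2 ((NormalIn.cent_norm Y).conj_mem hn.1 (le_cent1_iff.1 Ya)) hy)
  by_cases q1 : core {q} 𝐂[a] = ⊥
  swap
  · exact h.ben mx ha a1 (hY.trans (l.trans (core_normal _ _).fit_le)) hq q2 q1
  refine (h.cent_of_TT (odd_pgp hq q2 (core_pgroup hq _)) (nY.trans (core_normal _ _).norm)
    fun b hb b1 => eq_bot_iff.2 ?_).trans (cent_le_cent1 ha)
  exact (le_core_of_le_fit (inf_le_right.trans ((h.TT_le_fit mx h4 hb b1).trans
    (core_normal _ _).fit_le)) ((core_pi _ _).of_le inf_le_left)).trans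
    (h.core_eq_bot ha a1 hb b1 q1).le

theorem odd (o : Odd #|W|) (hn : A ≤ 𝐍(W)) : ∃ x ∈ A, x ≠ 1 ∧ W ≤ 𝐂[x] := by
  have oF := odd_of_le o (fit_le W)
  have nF := hn.trans (norm_le_norm_fit W)
  by_cases c : ∀ a ∈ A, a ≠ 1 → fit W ⊓ TT A a = ⊥
  · obtain ⟨a, ha, a1, -⟩ := exists_third h.four 1
    exact ⟨a, ha, a1, (le_cent_symm (cent_of_cores h.sq hn o (le_cent_symm
      (h.cent_of_TT oF nF c)))).trans (cent_le_cent1 ha)⟩
  push Not at c
  obtain ⟨a, ha, a1, c⟩ := c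
  have za := zpowers_le.2 ha
  have sq := h.sq.of_le za
  refine ⟨a, ha, a1, cent_zpowers a ▸ le_cent_symm (cent_of_cores sq (za.trans hn) o
    (BG1.coprime_nil_faithful_cent_stab (za.trans nF) (sq.cop oF).symm (fit_nil W) ?_))⟩
  rw [cent_zpowers]
  exact inf_le_right.trans ((cent_anti (inf_le_inf_left _ ((comm_le_left (h.nO ha)).trans
    (core_le _ _)))).trans ((cent_le_norm _).trans (h.ti mx h4 ha a1 inf_le_right c)))

end

end PC

instance instPTI : PTI where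
  main := fun h h8 mx =>
    have h4 := h.card_four mx h8
    ⟨h4, fun ho => ⟨h.sc, h.sq, h4, h.tr, ho, h.nd, fun _ ha _ hb => h.inv mx h4 ha hb,
      fun _ ha a1 => (h.cent_le ha a1).trans (sup_le ((split_two h.sq.two (odd_OO _) (h.nO ha)).trans
        (sup_le_sup_left inf_le_right _)) (le_sup_of_le_right fun _ hn => mem_cent_of_fix h.sq h4 ho
          hn.2 ha a1 (mul_inv_eq_iff_eq_mul.2 (mem_cent1.1 hn.1)))),
      fun _ ha a1 _ => h.ti mx h4 ha a1, fun _ => h.odd mx h4⟩⟩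

end Cfsg.Agent.Go
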