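import Cfsg.Agent.Go.Sm5
import Cfsg.Agent.Go.SmI
import Cfsg.Agent.Sg.DP

/-! Part II of notes/goldschmidt.md, case `|B| ≤ q`, in the simple group. -/

set_option autoImplicit false
set_option maxHeartbeats 400000

namespace Cfsg.Agent.Go

open Subgroup Cfsg Cfsg.Agent.H1 Cfsg.Agent.L Cfsg.Agent.FT Cfsg.Agent.FT.B1 Cfsg.Agent.Sg
  Cfsg.Agent.R1 Cfsg.Agent.H6
open scoped Pointwise commutatorElement

universe u

section
variable {G Y H : Type*} [Group G] [Group Y] [Group H] {D E F X W Z : Subgroup G}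

theorem exists_factor (f : E →* Y) (φ : F →* H) (h1 : D ≤ E) (h2 : D ≤ F)
    (hk : mker f ⊓ D ≤ mker φ) : ∃ ψ : mim f D →* H, ∀ x (hx : x ∈ D),
      ψ ⟨f ⟨x, h1 hx⟩, mem_mim_of_mem f _ hx⟩ = φ ⟨x, h2 hx⟩ := by
  let f' : D →* mim f D := (f.comp (inclusion h1)).codRestrict _ fun x => mem_mim_of_mem f _ x.2
  have s : Function.Surjective f' := by
    rintro ⟨_, x, hx, rfl⟩; exact ⟨⟨x, hx⟩, rfl⟩
  exact ⟨f'.liftOfSurjective s ⟨φ.comp (inclusion h2), fun x hx =>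
    (coe_mem_mker (x := inclusion h2 x)).1 (hk ⟨(coe_mem_mker (x := inclusion h1 x)).2
      (congrArg Subtype.val hx), x.2⟩)⟩, fun x hx =>
    f'.liftOfRightInverse_comp_apply _ _ _ ⟨x, hx⟩⟩

theorem le_of_mim_le {f : D →* Y} (hX : X ≤ Z) (hW : W ≤ Z) (hZ : Z ≤ D) (hd : mker f ⊓ Z = ⊥)
    (h : mim f X ≤ mim f W) : X ≤ W := fun x hx => by
  obtain ⟨w, hw, e⟩ := h (mem_mim_of_mem f ⟨x, hZ (hX hx)⟩ hx)
  have : (w : G)⁻¹ * x ∈ mker f ⊓ Z := ⟨(coe_mem_mker (x := w⁻¹ * ⟨x, hZ (hX hx)⟩)).2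
    (by rw [map_mul, map_inv, e, inv_mul_cancel]), Z.mul_mem (Z.inv_mem (hW hw)) (hX hx)⟩
  rw [hd, mem_bot, inv_mul_eq_one] at this
  exact this ▸ hw

theorem relIndex_mim_disj [Finite G] {f : D →* Y} (hX : X ≤ Z) (hZ : Z ≤ D) (hd : mker f ⊓ Z = ⊥) :
    (mim f X).relIndex (mim f Z) = X.relIndex Z := by
  have h1 := card_mul_relIndex_of_le (mim_mono f hX)
  rw [card_mim_of_disjoint f hZ hd, card_mim_of_disjoint f (hX.trans hZ)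
    (eq_bot_iff.2 ((inf_le_inf_left _ hX).trans hd.le)), ← card_mul_relIndex_of_le hX] at h1
  exact Nat.eq_of_mul_eq_mul_left Nat.card_pos h1

theorem mpre_conj (f : D →* Y) (x : D) (K : Subgroup Y) : mpre f (f x ⋆ K) = (x : G) ⋆ mpre f K := by
  ext y
  rw [mem_conj, mem_mpre, mem_mpre]
  refine ⟨fun ⟨h, e⟩ => ⟨mul_mem (mul_mem (inv_mem x.2) h) x.2, ?_⟩, fun ⟨h, e⟩ => ⟨?_, ?_⟩⟩
  · rwa [mem_conj, ← map_inv, ← map_mul, ← map_mul] at e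
  · simpa [mul_assoc] using mul_mem (mul_mem x.2 h) (inv_mem x.2)
  · rwa [mem_conj, ← map_inv, ← map_mul, ← map_mul]

end

variable {G : Type u} [Group G] [Finite G] {A B : Subgroup G} {b : G}
  {Y : Type u} [Group Y] [Finite Y] {f : 𝐂[b] →* Y} {K P : Subgroup Y}

theorem MDat.comp_normal (d : MDat A B) (h : Ctx A) (sm : #|B| ≤ B.relIndex A) (hb : b ∈ B)
    (b1 : b ≠ 1) (l : Loc b f) (k : DatAt A f K B) (y : Y) : y ⋆ K = K := by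
  have bA := d.1.le hb
  have hA := h.sq.cent1 bA
  obtain ⟨e, he, n, hn, rfl⟩ := (h.cf l bA b1).dec y
  obtain ⟨n, hn', rfl⟩ := lift h.sc hA le_rfl ⟨l.top.ge trivial, hn⟩
  rw [mul_conj, conj_of_mem_norm (layer_le_norm (comp_conj k.1 _) he)]
  have k' : DatAt A f (f n ⋆ K) B := ⟨comp_conj k.1 _, fun e => k.2.1 (by
    rwa [← conj_cent, ← conj_of_mem_norm hn, conj_le_conj_iff] at e), by
    rw [← conj_cent, mpre_conj, ← conj_of_mem_norm (g := (n : G)) hn'.2, ← conj_inf, ← k.2.2]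
    exact d.ti (d.conj hn'.2) h sm (ne_bot_of_mem (H := _ ⊓ _)
      ⟨hb, mem_conj'.2 ⟨b, hb, by simp [mem_cent1.1 n.2]⟩⟩ b1)⟩
  by_contra ne
  exact k.not_le ((k'.sup hA h.sq (k'.ck h l bA b1)).trans (sup_le (k.le_of hA inf_le_left
    ((mim_mono f inf_le_right).trans ((mim_mpre_le f _).trans (comp_ne k.1 k'.1 (Ne.symm ne))))) le_rfl))

theorem MDat.mim_D (d : MDat A B) (h : Ctx A) (sm : #|B| ≤ B.relIndex A) (hb : b ∈ B)
    (b1 : b ≠ 1) (l : Loc b f) (k : DatAt A f K B) :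
    mim f (⁅A, 𝐂(B)⁆ ⊓ 𝐍(A)) = K ⊓ 𝐍(mim f A) := by
  have bA := d.1.le hb
  have hA := h.sq.cent1 bA
  have ck := k.ck h l bA b1
  have AC : A ≤ 𝐂(B) := le_cent_of_le h.sq.cent d.1.le
  have c1 := cent_le_cent1 hb
  have L1 : ⁅A, 𝐂(B)⁆ ≤ 𝐂[b] := (comm_le_of_le AC le_rfl).trans c1
  haveI : K.Normal := NormalIn.top_iff.1 ⟨le_top, fun y _ =>
    conj_eq_self_iff.1 (d.comp_normal h sm hb b1 l k y)⟩
  have e : mim f ⁅A, 𝐂(B)⁆ = K := by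
    rw [mim_comm f hA c1]
    refine le_antisymm ((commutator_mono ((mim_mono f (k.sup hA h.sq ck)).trans (mim_sup f
      (inf_le_left.trans hA) (d.1.le.trans hA)).le) le_rfl).trans (comm_sup_left_le
      ((commutator_mono ((mim_mono f inf_le_right).trans (mim_mpre_le f K)) le_rfl).trans
        (commutator_le_left _ _)) ((comm_eq_bot_iff'.2 (mim_le_cent f le_rfl)).trans_le bot_le)
      (Sm.le_norm_of_normal _ _) (Sm.le_norm_of_normal _ _))) ?_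
    exact (comp_le_or k.1 ((k.comp_le h l bA).trans (right_le_norm_comm _ _))).resolve_right fun e =>
      ck.tr.not_comm ck.q4 ((commutator_mono le_rfl (inf_le_left.trans (k.comp_le h l bA))).trans e)
  refine le_antisymm (le_inf ((mim_mono f inf_le_left).trans e.le) (mim_le_norm f inf_le_right))
    fun y hy => ?_
  have nL := NormalIn.sup_left (left_le_norm_comm A 𝐂(B))
  obtain ⟨x, hx, rfl⟩ := lift (f := f) h.sc le_sup_right (sup_le L1 hA)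
    ⟨mim_mono f le_sup_left (e.ge hy.1), hy.2⟩
  obtain ⟨z, hz, e'⟩ := e.ge hy.1
  refine mem_mim_of_mem f x ⟨?_, hx.2⟩
  have : (z : G)⁻¹ * x ∈ ⁅A, 𝐂(B)⁆ := nL.le_of_coprime (K := mker f ⊓ (⁅A, 𝐂(B)⁆ ⊔ A)) inf_le_right
    (by
      rw [relIndex_sup_of_norm (left_le_norm_comm _ _)]
      exact ((cop_two h.sq.two (odd_of_le l.odd inf_le_left)).symm.coprime_dvd_right
        (relIndex_dvd_card' _ _)))
    ⟨(coe_mem_mker (x := z⁻¹ * x)).2 (by rw [map_mul, map_inv, e', inv_mul_cancel]),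
      mul_mem (Subgroup.inv_mem _ (mem_sup_left hz)) hx.1⟩
  exact ((⁅A, 𝐂(B)⁆).mul_mem_cancel_left (inv_mem hz)).1 this

variable {H : Type*} [Group H] [Finite H] {φ : 𝐍(A) →* H}

theorem MDat.sm_dat (d : MDat A B) (h : Ctx A) (hp : StP A)
    (irr : ∀ U ≤ A, 𝐍(A) ≤ 𝐍(U) → U = ⊥ ∨ U = A) (sm : #|B| ≤ B.relIndex A)
    (top : mim φ 𝐍(A) = ⊤) (ker : mker φ = core {2}ᶜ 𝐂(A)) :
    ∃ D P, Sm.Dat (mim φ A) (mim φ B) D P := by
  obtain ⟨b, hb, b1⟩ := exists_mem_ne_one d.1.ne_bot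
  have l := loc_fq b
  obtain ⟨K, k⟩ := d.at h hb b1 l
  have bA := d.1.le hb
  have hA := h.sq.cent1 bA
  have hB := d.1.le
  obtain ⟨P, cp⟩ := hp b bA b1 _ _ l K k.1 k.2.1
  have eD := d.mim_D h sm hb b1 l k
  generalize fq b = f at *
  have DC : ⁅A, 𝐂(B)⁆ ⊓ 𝐍(A) ≤ 𝐂(B) :=
    inf_le_left.trans (comm_le_of_le (le_cent_of_le h.sq.cent hB) le_rfl)
  have ND : 𝐍(A) ⊓ 𝐍(B) ≤ 𝐍(⁅A, 𝐂(B)⁆ ⊓ 𝐍(A)) := le_normalizer_inf (le_normalizer_commutator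
    inf_le_left (le_norm_cent inf_le_right)) (inf_le_left.trans le_normalizer)
  have DA : ⁅A, 𝐂(B)⁆ ⊓ 𝐍(A) ≤ 𝐍(A) := inf_le_right
  generalize ⁅A, 𝐂(B)⁆ ⊓ 𝐍(A) = D at *
  have D1 := DC.trans (cent_le_cent1 hb)
  have o1 : mker f ⊓ A = ⊥ := inf_eq_bot_of_two h.sq.two l.odd
  have oφ : Odd #|mker φ| := ker ▸ odd_core _
  have o2 : mker φ ⊓ A = ⊥ := inf_eq_bot_of_two h.sq.two oφ
  have nA : A ≤ 𝐍(A) := le_normalizer
  have kk : mker f ⊓ 𝐍(A) ≤ mker φ := by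
    have c : mker f ⊓ 𝐍(A) ≤ 𝐂(A) := comm_eq_bot_iff.1 (eq_bot_iff.2 (o1 ▸ le_inf
      ((commutator_mono inf_le_left le_rfl).trans (comm_le_left (hA.trans (dom_le_norm_mker f))))
      (comm_le_right inf_le_right)))
    rw [ker]
    exact le_core ⟨c, le_normalizer_inf ((cent_le_cent1 bA).trans (dom_le_norm_mker f))
      ((cent_le_norm A).trans le_normalizer)⟩ (odd_iff_piGrp.1 (odd_of_le l.odd inf_le_left))
  obtain ⟨ψ, hψ⟩ := exists_factor f φ D1 DA ((inf_le_inf_left _ DA).trans kk)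
  have PD : P ≤ mim f D := eD ▸ cp.hP.le
  have eψ : mim ψ (mim f D) = mim φ D := le_antisymm
    (by rintro _ ⟨⟨_, x, hx, rfl⟩, -, rfl⟩; exact hψ x hx ▸ mem_mim_of_mem φ _ hx)
    (by rintro _ ⟨x, hx, rfl⟩; exact hψ x hx ▸ mem_mim_of_mem ψ _ (mem_mim_of_mem f _ hx))
  have o3 : mker ψ ⊓ P = ⊥ := inf_eq_bot_of_two cp.P2 (odd_of_le (odd_mim oφ f) fun y hy => by
    obtain ⟨⟨x, hx, rfl⟩, e⟩ := mem_mpre.1 hy
    exact mem_mim_of_mem f x ((coe_mem_mker (f := φ) (x := ⟨x, DA hx⟩)).2 ((hψ x hx).symm.trans e)))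
  have lf : ∀ y : H, ∃ n : 𝐍(A), φ n = y := fun y => (top.ge (mem_top y)).imp fun _ e => e.2
  have cA : ∀ n : 𝐍(A), (n : G) ⋆ B ≤ A := fun n => conj_le_of_mem_norm n.2 hB
  have mB : ∀ a (ha : a ∈ A), φ ⟨a, nA ha⟩ ∈ mim φ B ↔ a ∈ B := fun a ha => ⟨fun e => zpowers_le.1
    (le_of_mim_le (zpowers_le.2 ha) hB nA o2 (by rwa [mim_zpowers φ ⟨a, nA ha⟩, zpowers_le])),
    mem_mim_of_mem φ ⟨a, nA ha⟩⟩
  have rI := relIndex_mim_disj hB nA o2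
  refine ⟨mim φ D, mim ψ P, abelem_mim ⟨h.sq.comm, fun a ha => by rw [pow_two, h.sq a ha]⟩ φ,
    NormalIn.top_iff.1 (top ▸ (NormalIn.self_norm A).mim φ), fun U hU nU => ?_, mim_mono φ hB,
    fun e => d.1.ne_bot (eq_bot_iff.2 (o2 ▸ le_inf ((mim_eq_bot_iff (hB.trans nA)).1 e) hB)),
    rI ▸ d.1.q4 h, fun n hn => ?_, mim_le_cent φ DC, fun n hn => ?_, ?_, eψ ▸ (eD ▸ cp.hP).mim ψ,
    pgroup_mim cp.P2 ψ, (eD ▸ cp.Po).of_dvd_nat (eψ ▸ relIndex_mim_dvd ψ P le_rfl), ?_, fun e => ?_⟩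
  · rw [← inf_eq_right.2 hU, ← mim_inf_mpre]
    exact (irr _ inf_le_left (le_normalizer_inf le_rfl (le_norm_mpre le_rfl
      (Sm.le_norm_of_normal _ _)))).imp (fun e => by rw [e, mim_bot]) (congrArg _)
  · obtain ⟨n, rfl⟩ := lf n
    rw [← mim_conj] at hn
    refine mim_le_norm φ le_rfl (mem_mim_of_mem φ n (conj_eq_self_iff.1 (d.ti (d.conj n.2) h sm
      fun e => hn (eq_bot_iff.2 ?_)).symm))
    rintro _ ⟨⟨x, hx, rfl⟩, y, hy, e'⟩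
    have := (mB y (cA n hy)).1 (e' ▸ mem_mim_of_mem φ x hx)
    rw [← e', show y = 1 from Subtype.ext (mem_bot.1 (e ▸ ⟨this, hy⟩)), map_one]
    exact one_mem _
  · obtain ⟨n, rfl⟩ := lf n
    exact mim_le_norm φ ND (mem_mim_of_mem φ n ⟨n.2, mem_norm_of_conj_le (le_of_mim_le (cA n) hB nA o2
      (by rw [mim_conj, conj_of_mem_norm hn]))⟩)
  · rintro _ ⟨u, hu, rfl⟩ _ ⟨v, hv, rfl⟩ u1 v1
    obtain ⟨c, hc, e⟩ := k.tr_of hA (k.ck h l bA b1) eD.ge DA u hu v hv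
      (mt (mem_mim_of_mem φ u) u1) (mt (mem_mim_of_mem φ v) v1)
    refine ⟨φ ⟨c, DA hc⟩, mem_mim_of_mem φ _ hc, ?_⟩
    rw [← map_inv, ← map_inv, ← map_mul, ← map_mul, ← map_mul]
    exact mem_mim_of_mem φ _ e
  · rintro _ ⟨⟨_, x, hx, rfl⟩, hy, rfl⟩
    obtain ⟨_, ⟨a, ha, rfl⟩, a1, e⟩ := cp.fx _ hy
    refine ⟨φ ⟨a, nA ha⟩, mem_mim_of_mem φ _ ha, fun e => a1 (k.cent (mem_mim_of_mem f a
      ((mB a ha).1 e))), ?_⟩
    rw [hψ x hx, ← map_mul, ← map_mul]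
    refine congrArg φ (Subtype.ext (commutatorElement_eq_one_iff_mul_comm.1 (mem_bot.1 (o1 ▸
      ⟨(coe_mem_mker (x := ⁅x, a⁆)).2 ?_, comm_le_right DA (commutator_mem_commutator hx ha)⟩))))
    rw [map_commutatorElement]
    exact commutatorElement_eq_one_iff_mul_comm.2 e
  refine (cp.f4 (k.idx hA ▸ rI ▸ e)).imp (fun e => ?_) ?_
  · rintro _ ⟨⟨_, x, hx, rfl⟩, hy, rfl⟩
    obtain ⟨a, ha, e⟩ := e hy
    rw [hψ x hx]
    have : (a : G)⁻¹ * x ∈ mker φ := kk ⟨(coe_mem_mker (x := a⁻¹ * x)).2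
      (by rw [map_mul, map_inv, e]; exact inv_mul_cancel (f x)),
      mul_mem (Subgroup.inv_mem _ (nA ha)) (DA hx)⟩
    refine ⟨⟨a, nA ha⟩, ha, (inv_mul_eq_one.1 ?_)⟩
    rw [← map_inv, ← map_mul]
    exact (coe_mem_mker (x := (⟨a, nA ha⟩ : 𝐍(A))⁻¹ * ⟨x, DA hx⟩)).1 this
  rintro ⟨h16, δ, ⟨d1, d2⟩, ⟨j, d3⟩, d4⟩
  have dD : δ ∈ mim f D := eD.ge ⟨d1, cent_le_norm _ d2⟩
  have nP := zpowers_le.2 (cp.hP.norm (eD.le dD))
  rw [← mim_phi Nat.prime_two cp.P2 ψ PD, relIndex_mim_disj (phi_le P) PD o3]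
  refine ⟨h16, ψ ⟨δ, dD⟩, ⟨eψ ▸ mem_mim_of_mem ψ _ dD, ?_⟩, ⟨j, by
    rw [← map_pow, show (⟨δ, dD⟩ : mim f D) ^ 5 ^ j = 1 from Subtype.ext d3, map_one]⟩, fun e => d4
    (le_of_mim_le (comm_le_left nP) (phi_le P) PD o3 ?_)⟩
  · obtain ⟨x, hx, rfl⟩ := dD
    rw [hψ x hx]
    exact mim_le_cent φ (l.le_cent h.sq.two hA le_rfl (zpowers_le.2 x.2) (zpowers_le.2 (DA hx))
      (by rwa [mim_zpowers, zpowers_le])) (mem_mim_of_mem φ _ (mem_zpowers _))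
  · rwa [mim_comm ψ PD (zpowers_le.2 dD), mim_zpowers ψ ⟨δ, dD⟩]

theorem der_top [IsSimpleGroup G] (h1 : B ≠ ⊥) (h2 : B ≠ ⊤) : ⁅(⊤ : Subgroup G), (⊤ : Subgroup G)⁆ = ⊤ :=
  (Normal.eq_bot_or_eq_top inferInstance).resolve_left fun e => (Normal.eq_bot_or_eq_top
    (NormalIn.top_iff.1 (NormalIn.of_der1_le le_top (e.trans_le bot_le)))).elim h1 h2

theorem small_aux [IsSimpleGroup G] (h : Ctx A) (hp : StP A)
    (irr : ∀ U ≤ A, 𝐍(A) ≤ 𝐍(U) → U = ⊥ ∨ U = A) (d : MDat A B) (sm : #|B| ≤ B.relIndex A)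
    (top : mim φ 𝐍(A) = ⊤) (ker : mker φ = core {2}ᶜ 𝐂(A)) :
    #|A| = 8 ∧ (∀ a ∈ A, ∀ b ∈ A, a ≠ 1 → b ≠ 1 → ∃ n ∈ 𝐍(A), n * a * n⁻¹ = b) ∧
      L.IsSylowIn 2 A ⊤ := by
  obtain ⟨D, P, s⟩ := d.sm_dat h hp irr sm top ker
  have oφ : Odd #|mker φ| := ker ▸ odd_core _
  have o2 : mker φ ⊓ A = ⊥ := inf_eq_bot_of_two h.sq.two oφ
  have nA : A ≤ 𝐍(A) := le_normalizer
  have kC : mker φ ≤ 𝐂(A) := ker ▸ core_le _ _
  have eC : mim φ 𝐂(A) = 𝐂(mim φ A) := by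
    rw [← inf_eq_right.2 (cent_le_norm A), mim_inf_cent nA (mker_le φ) (cop_two h.sq.two oφ)
      (Or.inr (sol_of_odd oφ)), top, top_inf_eq]
  obtain ⟨S, hS⟩ := h.sq.two.exists_le_sylow
  have sN : (S : Subgroup G) ≤ 𝐍(A) := h.sc.sci.le_norm S.2 hS le_top
  have dt := der_top d.1.ne_bot fun e => d.1.not_le (e ▸ le_top)
  have fu : ∀ {M : Subgroup _} [M.Normal] (x : 𝐍(A)) {g : G}, (x : G) ∈ (S : Subgroup G) →
      g * x * g⁻¹ ∈ (S : Subgroup G) → ∃ n : 𝐍(A), g * x * g⁻¹ = (n * x * n⁻¹ : 𝐍(A)) ∧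
        (φ (n * x * n⁻¹) ∈ M ↔ φ x ∈ M) := fun {M} _ x g hx hg => by
    obtain ⟨n, hn, e⟩ := h.sc.ctrl hS hx hg
    exact ⟨⟨n, hn⟩, e.symm, by
      rw [map_mul, map_mul, map_inv, ← conj_mem_conj_iff (g := φ ⟨n, hn⟩) (x := φ x), Sm.conj_normal]⟩
  obtain ⟨c8, tr, oi, T, nT, dp⟩ := s.small (fun M e => by
    haveI := M.normal_of_index_eq_two e
    refine ((L.isSylowIn_top S).of_le sN le_top).not_dvd_relIndex_of_le (K := mpre φ M) ?_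
      (by rw [relIndex_mpre φ M le_rfl, top, relIndex_top_right, e])
    rw [← inf_top_eq (S : Subgroup G), ← dt, focal_subgroup Nat.prime_two (L.isSylowIn_top S),
      closure_le]
    rintro _ ⟨x, hx, g, -, hg, rfl⟩
    obtain ⟨n, e1, e2⟩ := fu (M := M) ⟨x, sN hx⟩ hx hg
    rw [e1]
    refine (coe_mem_mpre (f := φ) (x := (⟨x, sN hx⟩ : 𝐍(A))⁻¹ * (n * ⟨x, sN hx⟩ * n⁻¹))).2 ?_
    rw [map_mul, mul_mem_iff_of_index_two e, map_inv, inv_mem_iff, e2])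
    (by rw [← eC, ← mim_core (cent_le_norm A) (odd_iff_piGrp.1 (odd_of_le oφ inf_le_left)), ← ker,
      mim_mker])
  have inj : ∀ x y : 𝐍(A), (x : G) ∈ A → (y : G) ∈ A → φ x = φ y → x = y := fun x y hx hy e =>
    inv_mul_eq_one.1 (Subtype.ext (mem_bot.1 (o2 ▸ ⟨(coe_mem_mker (x := x⁻¹ * y)).2
      (by rw [map_mul, map_inv, e, inv_mul_cancel]), A.mul_mem (A.inv_mem hx) hy⟩)))
  refine ⟨card_mim_of_disjoint φ nA o2 ▸ c8, fun a ha b hb a1 b1 => ?_, ?_⟩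
  · obtain ⟨n, e⟩ := isConj_iff.1 (tr _ (mem_mim_of_mem φ ⟨a, nA ha⟩ ha) _
      (mem_mim_of_mem φ ⟨b, nA hb⟩ hb)
      (fun e => a1 (congrArg Subtype.val (inj _ 1 ha A.one_mem (e.trans φ.map_one.symm))))
      fun e => b1 (congrArg Subtype.val (inj _ 1 hb A.one_mem (e.trans φ.map_one.symm))))
    obtain ⟨n, -, rfl⟩ := top.ge (mem_top n)
    exact ⟨n, n.2, congrArg Subtype.val (inj (n * ⟨a, nA ha⟩ * n⁻¹) ⟨b, nA hb⟩
      (H1.conj_mem_of_mem_normalizer n.2 ha) hb (by rw [map_mul, map_mul, map_inv, e]))⟩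
  rw [← eC, ← relIndex_top_right, ← top, relIndex_mim (cent_le_norm A) le_rfl kC] at oi
  have sC : (S : Subgroup G) ≤ 𝐂(A) := (NormalIn.cent_norm A).le_of_coprime sN
    (pgroup_coprime Nat.prime_two S.2 oi.not_two_dvd_nat)
  have T0 : (S : Subgroup G) ⊓ mpre φ T = ⊥ := by
    by_contra e
    have k : ∀ {U : Subgroup G}, U ≠ ⊥ → normalClosure (U : Set G) = ⊤ := fun e =>
      (Normal.eq_bot_or_eq_top inferInstance).resolve_left (ne_bot_of_le e le_normalClosure)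
    have := Sg.dp S (T := A) (U := S ⊓ mpre φ T)
      ⟨hS, fun x hx g hg => h.sc.mem x hx g (sN hg)⟩ ⟨inf_le_left, fun x hx g hg => by
        obtain ⟨n, e1, e2⟩ := fu (M := T) ⟨x, sN hx.1⟩ hx.1 hg
        exact ⟨hg, e1 ▸ coe_mem_mpre.2 (e2.2 ((coe_mem_mpre (x := ⟨x, sN hx.1⟩)).1 hx.2))⟩⟩
      (inf_le_left.trans sC) (eq_bot_iff.2 fun a ha => congrArg Subtype.val (inj ⟨a, nA ha.1⟩ 1 ha.1
        A.one_mem ((dp.sd.eq_one (mem_mim_of_mem φ _ ha.1)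
          ((coe_mem_mpre (x := ⟨a, nA ha.1⟩)).1 ha.2.2)).trans φ.map_one.symm)))
    rw [k e, k (ne_bot_of_le d.1.ne_bot d.1.le), dt, ← OO_top_eq] at this
    exact d.1.ne_bot (eq_bot_iff.2 (inf_eq_bot_of_two h.sq.two (odd_core ⊤) ▸
      le_inf (le_top.trans this) d.1.le))
  rw [le_antisymm hS fun x hx => ?_]
  · exact L.isSylowIn_top S
  obtain ⟨_, ⟨a, ha, rfl⟩, t, ht, e⟩ := dp.mem_iff.1 (eC.le (mem_mim_of_mem φ ⟨x, sN hx⟩ (sC hx)))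
  have : (a : G)⁻¹ * x ∈ (S : Subgroup G) ⊓ mpre φ T := ⟨mul_mem (Subgroup.inv_mem _ (hS ha)) hx,
    (coe_mem_mpre (x := a⁻¹ * ⟨x, sN hx⟩)).2 (by rwa [map_mul, map_inv, ← e, inv_mul_cancel_left])⟩
  rw [T0, mem_bot, inv_mul_eq_one] at this
  exact this ▸ ha

/-- **Part II, `|B| ≤ q`.** -/
theorem small [IsSimpleGroup G] (h : Ctx A) (hp : StP A)
    (irr : ∀ U ≤ A, 𝐍(A) ≤ 𝐍(U) → U = ⊥ ∨ U = A) (d : MDat A B) (sm : #|B| ≤ B.relIndex A) :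
    #|A| = 8 ∧ (∀ a ∈ A, ∀ b ∈ A, a ≠ 1 → b ≠ 1 → ∃ n ∈ 𝐍(A), n * a * n⁻¹ = b) ∧
      L.IsSylowIn 2 A ⊤ := by
  have nO := (NormalIn.cent_norm A).core {2}ᶜ
  haveI := nO.normal_subgroupOf
  exact small_aux (φ := QuotientGroup.mk' ((core {2}ᶜ 𝐂(A)).subgroupOf 𝐍(A))) h hp irr d sm
    (eq_top_iff.2 fun y _ => (QuotientGroup.mk'_surjective _ y).imp fun x e => ⟨x.2, e⟩)
    (by rw [mker_eq, QuotientGroup.ker_mk', subOf_map nO.le])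

end Cfsg.Agent.Go
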