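import Cfsg.Agent.Go.A1
import Cfsg.Agent.Go.Sm6

/-! Goldschmidt's theorem, Part I: assembly. -/

set_option autoImplicit false
set_option maxHeartbeats 400000

namespace Cfsg.Agent.Go

open Subgroup Cfsg Cfsg.Agent.H1 Cfsg.Agent.L Cfsg.Agent.FT Cfsg.Agent.Sg Cfsg.Agent.R1
open scoped Pointwise commutatorElement

variable {G : Type} [Group G] [Finite G] {A S : Subgroup G}

/-- a strongly closed four-group of a perfect group is central in a Sylow subgroup -/
theorem sylow_le_cent (hG : ⁅(⊤ : Subgroup G), (⊤ : Subgroup G)⁆ = ⊤) (h : SC A) (sq : Sq A)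
    (h4 : #|A| = 4) (hS : L.IsSylowIn 2 S ⊤) (h1 : A ≤ S) : S ≤ 𝐂(A) := by
  classical
  haveI := Fintype.ofFinite A
  let φ : 𝐍(A) →* Equiv.Perm A := (MulAction.toPermHom (MulAut A) A).comp A.normalizerMonoidHom
  have hφ : ∀ (n : 𝐍(A)) (a : A), (φ n a : G) = n * a * (n : G)⁻¹ := fun _ _ => rfl
  let σ : 𝐍(A) →* ℤˣ := Equiv.Perm.sign.comp φ
  have SN : S ≤ 𝐍(A) := h.sci.le_norm hS.isPGroup h1 le_top
  have h2 : S ≤ σ.ker.map (𝐍(A)).subtype := by
    have := B1.focal_subgroup Nat.prime_two hS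
    rw [hG, inf_top_eq] at this
    rw [this, closure_le]
    rintro _ ⟨x, hx, g, -, hg, rfl⟩
    obtain ⟨n, hn, e⟩ := h.ctrl (S := hS.toSylowTop) h1 hx hg
    refine ⟨(⟨x, SN hx⟩ : 𝐍(A))⁻¹ * (⟨n, hn⟩ * ⟨x, SN hx⟩ * (⟨n, hn⟩ : 𝐍(A))⁻¹), ?_, by rw [← e]; rfl⟩
    show σ _ = 1
    rw [map_mul, map_mul, map_mul, map_inv, map_inv, mul_inv_cancel_comm, inv_mul_cancel]
  obtain ⟨z, hz, z1⟩ := exists_mem_ne_one (inf_cent_ne_bot_of_pgroup Nat.prime_two sq.two
    hS.isPGroup SN fun e => by rw [e, card_bot] at h4; omega)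
  obtain ⟨b, hb, b1, bz⟩ := exists_third h4.ge z
  intro s hs
  have sz : s * z * s⁻¹ = z := by rw [mem_cent.1 hz.2 s hs, mul_inv_cancel_right]
  have cs := fun c => four_cases (c := c) sq h4 hz.1 hb z1 b1 bz.symm
  rcases cs _ ((mem_normalizer_iff.1 (SN hs) b).1 hb) with e | e | e | e
  · exact absurd (conj_eq_one_iff.1 e) b1
  · exact absurd (by simpa using e.trans sz.symm) bz
  · refine mem_cent.2 fun c hc => (mul_inv_eq_iff_eq_mul.1 ?_).symm
    rcases cs c hc with rfl | rfl | rfl | rfl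
    · simp
    · exact sz
    · exact e
    · rw [← conj_mul, sz, e]
  obtain ⟨n, hn, rfl⟩ := h2 hs
  have hne : (⟨b, hb⟩ : A) ≠ ⟨z * b, mul_mem hz.1 hb⟩ := fun e =>
    z1 (by simpa using congrArg Subtype.val e)
  have h3 : φ n = Equiv.swap ⟨b, hb⟩ ⟨z * b, mul_mem hz.1 hb⟩ := Equiv.ext fun ⟨c, hc⟩ => by
    have zz := sq z hz.1
    rcases cs c hc with rfl | rfl | rfl | rfl
    · rw [Equiv.swap_apply_of_ne_of_ne (fun e => b1 (congrArg Subtype.val e).symm) fun e =>
        bz (by simpa [sq.inv hz.1] using (eq_inv_of_mul_eq_one_right (congrArg Subtype.val e).symm))]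
      exact Subtype.ext (by simp [hφ])
    · rw [Equiv.swap_apply_of_ne_of_ne (fun e => bz (congrArg Subtype.val e).symm) fun e =>
        b1 (by simpa using congrArg Subtype.val e)]
      exact Subtype.ext sz
    · rw [Equiv.swap_apply_left]; exact Subtype.ext e
    · rw [Equiv.swap_apply_right]
      refine Subtype.ext ?_
      have sz' : (n : G) * z * (n : G)⁻¹ = z := sz
      have e' : (n : G) * b * (n : G)⁻¹ = z * b := e
      rw [hφ, ← conj_mul, sz', e', ← mul_assoc, zz, one_mul]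
  have h5 : Equiv.Perm.sign (φ n) = 1 := hn
  rw [h3, Equiv.Perm.sign_swap hne] at h5
  exact absurd h5 (by decide)

instance instPartI [PMax] [PTI] [EndA] [EndB] [Be.BeI] : PartI :=
  ⟨fun {G} _ _ _ {A} ih sc sq h4 irr hyp => by
  haveI := Fact.mk Nat.prime_two
  have h : H0 A := ⟨sc, sq, h4, hyp⟩
  by_cases nd : Done A
  · exact .inl nd
  obtain ⟨n, hn⟩ := pgroup_card Nat.prime_two sq.two
  have h16 : #|A| < 16 := lt_of_not_ge fun e => nd (h.done e)
  have h48 : #|A| = 4 ∨ #|A| = 8 := by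
    rw [hn] at h4 h16 ⊢
    have h1 : n < 4 := (Nat.pow_lt_pow_iff_right (by decide)).1 (show 2 ^ n < 2 ^ 4 from h16)
    interval_cases n <;> simp_all
  have tr := trN_of_irr sq h4 (by omega) irr
  rcases h48 with e | e
  · obtain ⟨S, hS, l⟩ := exists_isSylowIn_ge sq.two (le_top (a := A))
    by_cases hSA : S = A
    · exact .inr (.inr ⟨hSA ▸ hS, tr, .inl e⟩)
    have hc := sylow_le_cent (der_top (B := A) (fun e' => by rw [e', card_bot] at e; omega)
      (h.ne_top_of_comm sq.cent)) sc sq e hS l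
    have pc : PC A S := ⟨h, l, hc, hS.isPGroup, fun H hH hT a ha =>
      loc ih sc sq hyp hH (l.trans hT) ha (.inr ⟨S, hS, l, hc, hT, hSA⟩), nd, tr, by
        rw [e]; exact Nat.prime_three⟩
    refine .inr (.inr (end2 ih ((PTI.main pc (by omega) fun a ha a1 => PMax.main pc ha a1).2 ?_)))
    refine Nat.not_even_iff_odd.1 fun e' => hS.toSylowTop.not_dvd_index ?_
    exact e'.two_dvd.trans (index_dvd_of_le hc)
  · have pc : PC A A := ⟨h, le_rfl, sq.cent, sq.two, fun H hH hT a ha =>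
      loc ih sc sq hyp hH hT ha (.inl (by omega)), nd, tr, by rw [e]; exact Nat.prime_seven⟩
    have := (PTI.main pc e.le fun a ha a1 => PMax.main pc ha a1).1
    omega⟩

end Cfsg.Agent.Go
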