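import Cfsg.Agent.Sz.Main

/-! Involutory automorphisms of a simple rank one group that centralise `Q₀` and `Q / Q₀` are inner
(step (4) of St in notes/goldschmidt.md). -/

set_option autoImplicit false
set_option linter.unusedSectionVars false
set_option linter.style.haveILetI false

namespace Cfsg.Agent.Sz

open Subgroup Cfsg.Agent.H1 Cfsg.Agent.L Cfsg.Agent.FT Cfsg.Agent.FT.B1
open scoped Pointwise commutatorElement

variable {G : Type} [Group G] [Finite G]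

theorem Sys.comm_mem_Q0 {S : Sys G} (h : S.Rk2) {x y : G} (hx : x ∈ S.Q) (hy : y ∈ S.Q) :
    ⁅x, y⁆ ∈ S.Q0 := by
  obtain ⟨F, _, _, ⟨c⟩⟩ := h.exists_co
  exact S.mem_Q0.2 ⟨B9.commEl_mem hx hy, (c.toHig h.good.pgroup).comm_sq (fun x hx => by
    rw [← h.good.1 x hx, ← pow_two, ← pow_two, ← pow_mul]) hx hy⟩

/-- an element of `H` centralising `Q₀` and `Q / Q₀` lies in `Q` -/
theorem Sys.mem_Q_of_stable [IsSimpleGroup G] (S : Sys G) {g : G} (hg : g ∈ S.H) (h0 : g ∈ 𝐂(S.Q0))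
    (h1 : ∀ x ∈ S.Q, ⁅g, x⁆ ∈ S.Q0) : g ∈ S.Q := by
  obtain ⟨y, hy, e, he, rfl⟩ := S.exists_QD hg
  have h2 := S.rk2_of_simple
  have yc := le_cent_symm S.Q0_cent hy
  have e1 : e = 1 := by
    by_contra e1
    refine S.not_le_cent he e1 (le_cent1_iff.2 (zpowers_le.1 (stable_factor_cent (K := S.Q0)
      ⟨S.Q0_le, S.QH.trans S.Q0_norm⟩ (zpowers_le.2 (S.Q_normal.norm (S.DH he)))
      (zpowers_le.2 ((mul_mem_cancel_left yc).1 h0)) (B9.comm_zpowers_right_le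
        (S.Q0_norm (S.DH he)) fun x hx => B9.comm_mem_symm ?_) ?_)))
    · exact (((B9.commMod S.Q0 x).mul_mem_cancel_left
        ⟨S.Q0_norm (S.QH hy), S.comm_mem_Q0 h2 hy hx⟩).1 ⟨S.Q0_norm hg, h1 x hx⟩).2
    · exact pgroup_coprime Nat.prime_two h2.good.pgroup (by
        rw [Nat.card_zpowers, ← even_iff_two_dvd, Nat.not_even_iff_odd]; exact S.D_odd he)
  rwa [e1, mul_one]

theorem Sys.eq_of_fix {S : Sys G} (h : S.Rk2) (β : G →* G) (ht : β S.t = S.t)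
    (hD : ∀ d ∈ S.D, β d = d) (h0 : ∀ x ∈ S.Q0, β x = x) (h1 : ∀ x ∈ S.Q, x⁻¹ * β x ∈ S.Q0)
    (g : G) : β g = g := by
  have bQ : ∀ x ∈ S.Q, β x ∈ S.Q := fun x hx => (S.Q.mul_mem_cancel_left (S.Q.inv_mem hx)).1
    (S.Q0_le (h1 x hx))
  have bH : ∀ x ∈ S.H, β x ∈ S.H := fun x hx => by
    obtain ⟨y, hy, d, hd, rfl⟩ := S.exists_QD hx
    rw [map_mul, hD d hd]; exact S.H.mul_mem (S.QH (bQ y hy)) (S.DH hd)
  suffices hQ : ∀ x ∈ S.Q, β x = x by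
    have hH : ∀ x ∈ S.H, β x = x := fun x hx => by
      obtain ⟨y, hy, d, hd, rfl⟩ := S.exists_QD hx
      rw [map_mul, hD d hd, hQ y hy]
    by_cases hg : g ∈ S.H
    · exact hH g hg
    · obtain ⟨x, hx, y, hy, rfl⟩ := S.bru g hg
      rw [map_mul, map_mul, hQ x hx, ht, hH y hy]
  by_contra hn
  push Not at hn
  obtain ⟨z, hz, hz1⟩ := hn
  let L : Subgroup G := β.eqLocus (MonoidHom.id G)
  have hb : ∀ x ∈ S.Q, ∀ y ∈ S.H, x * S.t * y ∈ L → x ∈ L := fun x hx y hy e => by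
    have e' : β (x * S.t * y) = x * S.t * y := e
    rw [map_mul, map_mul, ht] at e'
    exact (S.bru_unique (bQ x hx) hx (bH y hy) hy e').1
  have hs : S.s ∈ L := h0 _ ⟨S.sQ, S.ss⟩
  have hr : S.r ∈ L := hb _ S.rQ _ (S.H.inv_mem (S.QH S.rQ))
    (S.str ▸ L.mul_mem (L.mul_mem ht hs) ht)
  have h2 : (S.sub L ht hs hr hb).Rk2 := by
    obtain ⟨u, hu, u2, u1, us⟩ := h
    exact ⟨⟨u, h0 u ⟨hu, u2⟩⟩, hu, Subtype.ext u2, fun e => u1 (congrArg Subtype.val e),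
      fun e => us (congrArg Subtype.val e)⟩
  obtain ⟨-, l, hl, h3⟩ := S.sub_good h2.good
  have el : l = S.q := hl.trans (Nat.card_congr (Equiv.subtypeEquivRight fun x =>
    ⟨fun e => ⟨e.1.1, e.2⟩, fun e => ⟨⟨e.1, h0 x e⟩, e.2⟩⟩))
  let φ : S.Q →* G := MonoidHom.mk' (fun x => (x : G)⁻¹ * β x) fun x y => by
    have := mem_cent.1 (S.Q0_cent (h1 x x.2)) y y.2
    simp only [coe_mul, map_mul, mul_inv_rev]
    calc _ = (y : G)⁻¹ * ((x : G)⁻¹ * β x * y) * ((y : G)⁻¹ * β y) := by group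
      _ = _ := by rw [← this]; group
  have hk : φ.ker = L.subgroupOf S.Q := Subgroup.ext fun x => inv_mul_eq_one.trans eq_comm
  have hr : φ.range = S.Q0 := le_antisymm (by rintro _ ⟨x, rfl⟩; exact h1 x x.2) fun u hu => by
    by_cases u1 : u = 1
    · exact u1 ▸ one_mem _
    obtain ⟨a, ha, ea⟩ := S.exists_K_conj (h1 z hz).1 (fun e => hz1 (inv_mul_eq_one.1 e).symm)
      (h1 z hz).2
    obtain ⟨b, hb, rfl⟩ := S.exists_K_conj hu.1 u1 hu.2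
    have m := S.D.mul_mem hb.mem_D (S.D.inv_mem ha.mem_D)
    refine ⟨⟨_, S.Qn _ (S.DH m) z hz⟩, ?_⟩
    show _ * β _ = _
    rw [map_mul, map_mul, map_inv, hD _ m]
    calc _ = b * a⁻¹ * (z⁻¹ * β z) * (b * a⁻¹)⁻¹ := by group
      _ = _ := by rw [ea]; group
  have hc := φ.ker.card_mul_index
  rw [index_ker, hr, hk, card_subgroupOf, inf_comm, S.card_Q0] at hc
  obtain ⟨F, _, _, ⟨c⟩⟩ := h.exists_co
  have h4 := c.four_le
  rw [← c.q_eq] at h4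
  have st : ¬ ((S.s * S.t) ^ 3 = 1 ∧ (S.s * S.t) ^ 5 = 1) := fun e => S.tH (by
    have := Nat.eq_one_of_dvd_coprimes (by norm_num : Nat.Coprime 3 5)
      (orderOf_dvd_of_pow_eq_one e.1) (orderOf_dvd_of_pow_eq_one e.2)
    rw [← inv_eq_of_mul_eq_one_right (orderOf_eq_one_iff.1 this)]; exact inv_mem (S.QH S.sQ))
  have hi : ∀ i j, Nat.card (S.Q ⊓ L : Subgroup G) = S.q ^ i → Nat.card S.Q = S.q ^ j →
      i + 1 = j := fun i j e1 e2 =>
    Nat.pow_right_injective (show 2 ≤ S.q by omega) (by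
      show S.q ^ (i + 1) = S.q ^ j
      rw [pow_succ, ← e1, hc, e2])
  subst el
  obtain ⟨-, ⟨a1, a2⟩ | ⟨a1, a2⟩ | ⟨a1, a2⟩⟩ := h.good <;>
    rcases h3 with ⟨b1, b2⟩ | ⟨b1, b2⟩ | ⟨b1, b2⟩ <;>
    first
    | exact st ⟨a1, b1⟩
    | exact st ⟨b1, a1⟩
    | (have := hi _ _ b2 a2; omega)
    | (have := hi _ _ b2 (a2.trans (pow_one _).symm); omega)
    | (have := hi _ _ (b2.trans (pow_one _).symm) a2; omega)
    | (have := hi _ _ (b2.trans (pow_one _).symm) (a2.trans (pow_one _).symm); omega)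

/-- (AS) -/
theorem Sys.aut_inner [IsSimpleGroup G] (S : Sys G) (α : MulAut G) (h2 : ∀ g, α (α g) = g)
    (h0 : ∀ x ∈ S.Q0, α x = x) (h1 : ∀ x ∈ S.Q, x⁻¹ * α x ∈ S.Q0) :
    ∃ v ∈ S.Q0, ∀ g, α g = v * g * v⁻¹ := by
  have R := S.rk2_of_simple
  have n0 := le_norm_iff.1 S.Q0_norm
  have aQ : ∀ x ∈ S.Q, α x ∈ S.Q := fun x hx => (S.Q.mul_mem_cancel_left (S.Q.inv_mem hx)).1
    (S.Q0_le (h1 x hx))
  have aH : ∀ x ∈ S.H, α x ∈ S.H := fun x hx => S.mem_H_of_conj S.sQ S.s1 (by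
    have m := n0 x hx _ ⟨S.sQ, S.ss⟩
    rw [← h0 _ ⟨S.sQ, S.ss⟩, ← map_inv, ← map_mul, ← map_mul, h0 _ m]
    exact S.QH m.1)
  have aD : ∀ d ∈ S.H, d⁻¹ * α d ∈ S.Q := fun d hd => by
    refine S.mem_Q_of_stable (S.H.mul_mem (S.H.inv_mem hd) (aH d hd)) (mem_cent.2 fun x hx => ?_)
      fun x hx => ?_
    · have := h0 _ (n0 d hd x hx)
      rw [map_mul, map_mul, map_inv, h0 x hx] at this
      calc _ = d⁻¹ * (d * x * d⁻¹) * α d := by group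
        _ = _ := by rw [← this]; group
    · have e : ⁅d⁻¹ * α d, x⁆ = x * (x⁻¹ * α x *
          (d⁻¹ * ((d * α x * d⁻¹)⁻¹ * α (d * α x * d⁻¹)) * d⁻¹⁻¹)) * x⁻¹ := by
        rw [map_mul, map_mul, map_inv, h2, commutatorElement_def]; group
      rw [e]
      exact n0 x (S.QH hx) _ (mul_mem (h1 x hx)
        (n0 _ (S.H.inv_mem hd) _ (h1 _ (S.Qn d hd _ (aQ x hx)))))
  obtain ⟨x, hx, h, hh, e⟩ := S.bru (α S.t) fun H => S.tH (h2 S.t ▸ aH _ H)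
  let β : G →* G := (MulAut.conj x⁻¹).toMonoidHom.comp α.toMonoidHom
  have hβ : ∀ g, β g = x⁻¹ * α g * x := fun g => by simp [β]
  have xH := S.QH hx
  have bt : β S.t = S.t * (h * x) := by rw [hβ, e]; group
  have mh := S.H.mul_mem hh xH
  have bD : ∀ d ∈ S.D, β d = d := fun d hd => by
    have m : β d ∈ S.D := ⟨by
      rw [hβ]; exact S.H.mul_mem (S.H.mul_mem (S.H.inv_mem xH) (aH d hd.1)) xH, by
      have m1 : β (S.t * d * S.t) ∈ S.H := by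
        rw [hβ]; exact S.H.mul_mem (S.H.mul_mem (S.H.inv_mem xH) (aH _ hd.2)) xH
      have e1 : β S.t = (h * x)⁻¹ * S.t := by
        rw [← S.t_inv, map_inv, bt, mul_inv_rev, S.t_inv]
      rw [map_mul, map_mul, bt] at m1
      nth_rewrite 1 [← bt, e1] at m1
      simpa [mul_assoc] using S.H.mul_mem (S.H.mul_mem mh m1) (S.H.inv_mem mh)⟩
    refine (inv_mul_eq_one.1 (S.eq_one_of_QD ?_ (S.D.mul_mem (S.D.inv_mem hd) m))).symm
    rw [hβ, show d⁻¹ * (x⁻¹ * α d * x) = d⁻¹ * x⁻¹ * d * (d⁻¹ * α d) * x by group]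
    exact S.Q.mul_mem (S.Q.mul_mem (S.Qn' hd.1 (S.Q.inv_mem hx)) (aD d hd.1)) hx
  have b2 : ∀ g, β (β g) = g := by
    obtain ⟨k, hk, k1⟩ := R.exists_K
    have e1 : ∀ g, β (β g) = (α x * x)⁻¹ * g * (α x * x) := fun g => by
      rw [hβ, hβ, map_mul, map_mul, map_inv, h2]; group
    have e2 := e1 k
    rw [bD k hk.mem_D, bD k hk.mem_D, mul_assoc, eq_inv_mul_iff_mul_eq] at e2
    intro g
    rw [e1, S.K_free hk k1 (S.Q.mul_mem (aQ x hx) hx) e2.symm]; simp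
  have hK : S.IsK (h * x) := ⟨mh, by
    have := congrArg β S.tt
    rw [map_mul, bt, map_one, ← mul_assoc] at this
    exact eq_inv_of_mul_eq_one_left this⟩
  have h3 : h * x = 1 := eq_one_of_odd_of_sq (S.D_odd hK.mem_D) (by
    have := b2 S.t
    rwa [bt, map_mul, bt, bD _ hK.mem_D, mul_assoc, mul_eq_left] at this)
  have h4 := Sys.eq_of_fix R β (by rw [bt, h3, mul_one]) bD (fun y hy => by
    rw [hβ, h0 y hy, mul_assoc, ← mem_cent.1 (S.Q0_cent hy) x hx, inv_mul_cancel_left])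
    fun y hy => by
      have c1 := mem_cent.1 (S.Q0_cent (h1 y hy)) x hx
      rw [hβ, show y⁻¹ * (x⁻¹ * α y * x) = ⁅y⁻¹, x⁻¹⁆ * (x⁻¹ * (y⁻¹ * α y * x)) by
        rw [commutatorElement_def]; group, ← c1, inv_mul_cancel_left]
      exact mul_mem (S.comm_mem_Q0 R (S.Q.inv_mem hy) (S.Q.inv_mem hx)) (h1 y hy)
  have h5 : ∀ g, α g = x * g * x⁻¹ := fun g => by
    have := h4 g
    rw [hβ] at this
    rw [eq_mul_inv_iff_mul_eq, ← inv_mul_eq_iff_eq_mul, ← mul_assoc, this]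
  refine ⟨x, ⟨hx, S.free _ (S.Q.mul_mem hx hx) ?_⟩, h5⟩
  have := h2 S.t
  rw [h5, h5] at this
  rw [show S.t * (x * x) * S.t = x * x by
    nth_rewrite 1 [← this]; simp [mul_assoc]]
  exact S.H.mul_mem xH xH

end Cfsg.Agent.Sz
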