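import Cfsg.Agent.Go.EA1
import Cfsg.Agent.Go.St4
import Cfsg.Agent.Go.Sm6
import Cfsg.Agent.H6.Transfer

/-! End2 of notes/goldschmidt.md, case `α`: no involution outside `A` centralises `A`. -/

set_option autoImplicit false
set_option maxHeartbeats 400000

namespace Cfsg.Agent.Go.EA

open Subgroup Cfsg.Agent.H1 Cfsg.Agent.L Cfsg.Agent.FT Cfsg.Agent.Sg Cfsg.Agent.R1
open scoped Pointwise commutatorElement

variable {G : Type} [Group G] [Finite G] {A R : Subgroup G} {ρ a b n u v w x y : G}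

/-- involutions outside `A` centralising `A` -/
structure Ty (A : Subgroup G) (u : G) : Prop where
  cent : u ∈ 𝐂(A)
  sq : u * u = 1
  out : u ∉ A

omit [Finite G] in
theorem Ty.le (hu : Ty A u) : A ≤ 𝐂[u] := le_cent1_iff.2 hu.cent

omit [Finite G] in
theorem Ty.mul (hu : Ty A u) (sq : Sq A) (ha : a ∈ A) : Ty A (u * a) :=
  ⟨mul_mem hu.cent (sq.cent ha), by
    rw [mul_assoc, ← mul_assoc a, mem_cent.1 hu.cent a ha, mul_assoc, sq a ha, mul_one, hu.sq],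
    fun e => hu.out ((A.mul_mem_cancel_right ha).1 e)⟩

omit [Finite G] in
theorem conj_TT (hn : n ∈ 𝐍(A)) (a : G) : n ⋆ TT A a = TT A (n * a * n⁻¹) := by
  rw [TT, conj_comm, conj_core, conj_cent1, conj_of_mem_norm hn, TT]

theorem TT_le (sq : Sq A) (ha : a ∈ A) : TT A a ≤ 𝐂[a] :=
  comm_le_of_le (core_le _ _) (sq.cent1 ha)

variable (h : TIc A)
include h

theorem fpf (h1 : ρ ∈ 𝐍(A)) (h2 : ρ ∉ 𝐂(A)) (x : G) (hx : x ∈ A) (e : ρ * x * ρ⁻¹ = x) : x = 1 := by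
  by_contra x1
  refine h2 (Sm.mem_of_odd_index h.idx (norm_le_norm_cent A h1) (mem_cent.2 fun y hy => ?_))
  suffices ρ * (ρ * y * ρ⁻¹) * ρ⁻¹ = y by
    calc _ = ρ * (ρ * y * ρ⁻¹) * ρ⁻¹ * (ρ * ρ) := by rw [this]
      _ = _ := by group
  by_cases y1 : y = 1
  · simp [y1]
  by_cases y2 : x = y
  · rw [← y2, e, e]
  rcases four_cases h.sq h.card hx hy x1 y1 y2 (conj_mem_of_mem_normalizer h1 hy) with k | k | k | k
  · exact absurd (conj_eq_one_iff.1 k) y1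
  · exact absurd (by simpa using e.trans k.symm) y2
  · rw [k, k]
  · rw [k, ← conj_mul, e, k, ← mul_assoc, h.sq x hx, one_mul]

theorem C_ne : 𝐂(A) ≠ ⊤ := fun e => by
  obtain ⟨a, ha, a1, -⟩ := exists_third h.card.ge (1 : G)
  obtain ⟨b, hb, b1, ab⟩ := exists_third h.card.ge a
  obtain ⟨n, -, k⟩ := h.tr a ha b hb a1 b1
  exact ab (by rw [← k, ← mem_cent.1 (e.ge (mem_top n)) a ha, mul_inv_cancel_right])

theorem T_ne (ha : a ∈ A) (a1 : a ≠ 1) : TT A a ≠ ⊥ := fun e => h.nd ⟨_, C_ne h, fun b hb b1 => by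
  obtain ⟨n, hn, rfl⟩ := h.tr a ha b hb a1 b1
  simpa [← conj_TT hn, e] using h.dec _ hb b1⟩

theorem inv_of (hv : Ty A v) (hx : x ∈ A) (hy : y ∈ A) (x1 : x ≠ 1) (y1 : y ≠ 1) (xy : y ≠ x)
    (e : TT A x ⊓ 𝐂[v] = ⊥) : TT A x ≤ 𝐂[v * y] := fun t ht => by
  have i := h.inv x hx y hy x1 y1 xy
  have nv : v ∈ 𝐍(TT A x) := conj_eq_self_iff.1 (by
    rw [conj_TT (cent_le_norm A hv.cent), ← mem_cent.1 hv.cent x hx, mul_inv_cancel_right])
  have ht' := conj_mem_of_mem_normalizer nv ht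
  have c : t * (v * t * v⁻¹) = v * t * v⁻¹ * t := by
    have := i _ (mul_mem ht ht')
    rw [← conj_mul, i _ ht, i _ ht', ← mul_inv_rev, inv_inj] at this
    exact this.symm
  have : t * (v * t * v⁻¹) ∈ TT A x ⊓ 𝐂[v] := ⟨mul_mem ht ht', mem_cent1.2 (by
    calc _ = t * v * t * (v⁻¹ * v) := by group
      _ = v * (v * t * v⁻¹ * t) := by
        rw [inv_mul_cancel, inv_eq_of_mul_eq_one_right hv.sq, ← mul_assoc, ← mul_assoc, ← mul_assoc,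
          hv.sq, one_mul, mul_one]
      _ = _ := by rw [c])⟩
  rw [e, mem_bot] at this
  refine mem_cent1.2 ?_
  calc _ = (v * t * v⁻¹)⁻¹ * (v * y) := congrArg (· * (v * y)) (eq_inv_of_mul_eq_one_left this)
    _ = v * t⁻¹ * y := by group
    _ = _ := by rw [← i t ht]; group

variable [IsSimpleGroup G]

theorem c1_ne (v1 : v ≠ 1) : 𝐂[v] ≠ ⊤ := fun e =>
  (Normal.eq_bot_or_eq_top (NormalIn.top_iff.1 ⟨le_top, le_norm_zpowers_of_cent e.ge⟩)).elim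
    (mt zpowers_eq_bot.1 v1) fun k => C_ne h (eq_top_iff.2 (le_cent_of_le
      (k ▸ le_cent_self (comm_of_cyclic (cyclic_zpowers v))) le_top))

theorem cent_all (e : ∀ x ∈ A, x ≠ 1 → TT A x ≤ 𝐂[v]) : v = 1 := by
  set M := ⨆ (x ∈ A) (_ : x ≠ 1), TT A x
  have le : ∀ x ∈ A, x ≠ 1 → TT A x ≤ M := fun x hx x1 =>
    le_iSup₂_of_le (f := fun x (_ : x ∈ A) => ⨆ _ : x ≠ 1, TT A x) x hx (le_iSup (fun _ => _) x1)
  have n : 𝐍(A) ≤ 𝐍(M) := le_norm_of_conj fun n hn => conj_le_iff.2 (iSup₂_le fun x hx =>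
    iSup_le fun x1 => conj_le_iff.1 (conj_TT hn x ▸ le _ (conj_mem_of_mem_normalizer hn hx)
      (mt conj_eq_one_iff.1 x1)))
  have nM : 𝐍(M) = ⊤ := by_contra fun k => h.nd ⟨_, k, fun x hx x1 => (h.dec x hx x1).trans
    (sup_le ((le x hx x1).trans le_normalizer) ((cent_le_norm A).trans n))⟩
  obtain ⟨a, ha, a1, -⟩ := exists_third h.card.ge (1 : G)
  by_contra v1
  exact (Normal.eq_bot_or_eq_top (NormalIn.top_iff.1 ⟨le_top, nM.ge⟩)).elim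
    (ne_bot_of_le (T_ne h ha a1) (le a ha a1)) fun k => c1_ne h v1 (eq_top_iff.2 (k.ge.trans
      (iSup₂_le fun x hx => iSup_le (e x hx))))

variable [St4] (ih : IH (Nat.card G))
include ih

theorem z0 (hv : Ty A v) (ha : a ∈ A) (a1 : a ≠ 1) : ¬ TT A a ≤ 𝐂[v] := fun e => by
  obtain ⟨b, hb, b1, ab⟩ := exists_third h.card.ge a
  wlog k : TT A b ⊓ 𝐂[v] ≠ ⊥ generalizing v
  · refine this (hv.mul h.sq ha) (fun t ht => mem_cent1_comm.1 (mul_mem (mem_cent1_comm.1 (e ht))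
      (mem_cent1_comm.1 (TT_le h.sq ha ht)))) ?_
    rw [inf_eq_left.2 (inv_of h hv hb ha b1 a1 ab.symm (not_not.1 k))]
    exact T_ne h hb b1
  have v1 : v ≠ 1 := fun e => hv.out (e ▸ one_mem _)
  obtain ⟨⟨ρ, ⟨r1, r2⟩, r3⟩, -⟩ := St4.main ih h (c1_ne h v1) hv.le ha hb a1 b1 ab.symm
    (by rw [inf_eq_left.2 e]; exact T_ne h ha a1) k
  have st : ∀ {x}, TT A x ≤ 𝐂[v] → TT A (ρ * x * ρ⁻¹) ≤ 𝐂[v] := fun e =>
    conj_TT r2 _ ▸ conj_le_of_mem (KK_le hv.le r1) e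
  have ha' := conj_mem_of_mem_normalizer r2 ha
  have n1 := mt (conj_eq_one_iff (a := ρ)).1 a1
  have n2 := Ne.symm (mt (fpf h r2 r3 a ha) a1)
  refine v1 (cent_all h fun x hx x1 => ?_)
  rcases four_cases h.sq h.card ha ha' a1 n1 n2 hx with k | k | k | k
  · exact absurd k x1
  · exact k ▸ e
  · exact k ▸ st e
  rcases four_cases h.sq h.card ha ha' a1 n1 n2 (conj_mem_of_mem_normalizer r2 ha') with l | l | l | l
  · exact absurd (conj_eq_one_iff.1 l) n1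
  · exact absurd (fpf h r2 r3 x hx (by rw [k, ← conj_mul, l, mem_cent.1 (h.sq.cent ha) _ ha'])) x1
  · exact absurd (fpf h r2 r3 _ ha' l) n1
  · exact k ▸ l ▸ st (st e)

theorem z1 (hu : Ty A u) (ha : a ∈ A) (a1 : a ≠ 1) : TT A a ⊓ 𝐂[u] ≠ ⊥ := fun e => by
  obtain ⟨b, hb, b1, ab⟩ := exists_third h.card.ge a
  exact z0 h ih (hu.mul h.sq hb) ha a1 (inv_of h hu ha hb a1 b1 ab e)

theorem st (hu : Ty A u) : (∃ ρ ∈ 𝐍(A), ρ ∉ 𝐂(A)) ∧ (∀ a ∈ A, a ∈ 𝐂(KK A 𝐂[u]) → a = 1) ∧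
    ∀ R ≤ 𝐂[u], IsPGroup 2 R → A ≤ R → ∀ r ∈ R, ∃ a ∈ A, ∃ s ∈ R ⊓ 𝐂(KK A 𝐂[u]), a * s = r := by
  obtain ⟨a, ha, a1, -⟩ := exists_third h.card.ge (1 : G)
  obtain ⟨b, hb, b1, ab⟩ := exists_third h.card.ge a
  obtain ⟨⟨ρ, ⟨r1, r2⟩, r3⟩, k⟩ := St4.main ih h (c1_ne h (v := u) fun e => hu.out (e ▸ one_mem _)) hu.le ha hb
    a1 b1 ab.symm (z1 h ih hu ha a1) (z1 h ih hu hb b1)
  refine ⟨⟨ρ, r2, r3⟩, fun x hx e => fpf h r2 r3 x hx (by rw [mem_cent.1 e ρ r1, mul_inv_cancel_right]),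
    fun R h1 h2 h3 r hr => ?_⟩
  obtain ⟨a, ha, s, hs, rfl⟩ := (H1.mem_sup_of_le_normalizer (le_norm_cent
    (hu.le.trans (norm_KK A _)))).1 (k R h1 h2 h3 hr)
  exact ⟨a, ha, s, ⟨(R.mul_mem_cancel_left (h3 ha)).1 hr, hs⟩, rfl⟩

theorem key (hu : Ty A u) (h1 : R ≤ 𝐂[u]) (h2 : IsPGroup 2 R) (h3 : A ≤ R) (h4 : u ∈ R) :
    R ≤ A ⊔ zpowers u := by
  obtain ⟨a, ha, a1, -⟩ := exists_third h.card.ge (1 : G)
  have RC := le_cent_of_odd_index h.sc h.idx h3 h2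
  have hu' := hu.mul h.sq ha
  have h1' : R ≤ 𝐂[u * a] := fun r hr => mem_cent1_comm.1 (mul_mem (mem_cent1_comm.1 (h1 hr))
    (mem_cent1_comm.1 (cent_le_cent1 ha (RC hr))))
  have self : ∀ {v}, Ty A v → v ∈ 𝐂(KK A 𝐂[v]) := fun hv => le_cent1_iff.1 (KK_le hv.le)
  have W0 : R ⊓ 𝐂(KK A 𝐂[u]) ⊓ 𝐂(KK A 𝐂[u * a]) = ⊥ := by
    by_contra e
    have p := h2.to_le (inf_le_left.trans inf_le_left :
      R ⊓ 𝐂(KK A 𝐂[u]) ⊓ 𝐂(KK A 𝐂[u * a]) ≤ R)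
    obtain ⟨w, ⟨⟨⟨w1, w2⟩, w3⟩, w4⟩, w5⟩ := exists_mem_orderOf_eq Nat.prime_two (pgroup_dvd_card
      Nat.prime_two (p.to_le inf_le_left) (inf_cent_ne_bot_of_pgroup Nat.prime_two p h2
        (le_normalizer_inf (le_normalizer_inf le_normalizer (le_norm_cent (h1.trans (norm_KK A _))))
          (le_norm_cent (h1'.trans (norm_KK A _)))) e))
    have hw : Ty A w := ⟨RC w1, by rw [← pow_two, ← w5, pow_orderOf_eq_one], fun k => by
      rw [(st h ih hu).2.1 w k w2, orderOf_one] at w5; omega⟩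
    have sub : ∀ {v}, Ty A v → w ∈ 𝐂(KK A 𝐂[v]) → v ∈ R → v ∈ 𝐂(KK A 𝐂[w]) := fun {v} hv k hr => by
      have : KK A 𝐂[v] ≤ KK A 𝐂[w] := KK_le_of fun y hy => by
        obtain ⟨c, hc, e⟩ := h.sc.conj_eq hw.le ((le_KK hy).trans (le_cent1_iff.2 k))
        exact e ▸ le_KK hc
      obtain ⟨α, hα, s, s1, e⟩ := (st h ih hw).2.2 R (le_cent1_iff.2 w4) h2 h3 v hr
      rw [(st h ih hv).2.1 α hα (((𝐂(KK A 𝐂[v])).mul_mem_cancel_right
        (cent_anti this s1.2)).1 (by rw [e]; exact self hv)), one_mul] at e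
      exact e ▸ s1.2
    exact a1 ((st h ih hw).2.1 a ha (((𝐂(KK A 𝐂[w])).mul_mem_cancel_left (sub hu w2 h4)).1
      (sub hu' w3 (mul_mem h4 (h3 ha)))))
  intro r hr
  obtain ⟨α, hα, r, r1, rfl⟩ := (st h ih hu).2.2 R h1 h2 h3 r hr
  refine mul_mem (mem_sup_left hα) (mem_sup_right ?_)
  obtain ⟨β, hβ, s, s1, rfl⟩ := (st h ih hu').2.2 R h1' h2 h3 r r1.1
  obtain ⟨t, ht, t1⟩ := exists_mem_ne_one (z1 h ih hu ha a1)
  obtain ⟨c, hc, e⟩ := h.sq_eq ha a1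
  have tK : ∀ {v}, t ∈ 𝐂[v] → t ∈ KK A 𝐂[v] := fun k => B9.mem_of_pow_mem_coprime (n := 2) (by
    rw [pow_two, ← e t ht.1]
    exact mul_mem (le_KK k (conj_mem_conj t hc)) (inv_mem (self_le_KK A _ hc)))
    (h.odd_T ha ht.1).coprime_two_left
  have βt : t * β = β * t := by
    have k1 := mem_cent.1 r1.2 t (tK ht.2)
    have k2 := mem_cent.1 s1.2 t (tK (mem_cent1_comm.1 (mul_mem (mem_cent1_comm.1 ht.2)
      (mem_cent1_comm.1 (TT_le h.sq ha ht.1)))))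
    rwa [mul_assoc, ← k2, ← mul_assoc, ← mul_assoc, mul_left_inj] at k1
  by_cases b1 : β = 1
  · rw [b1, one_mul] at r1 ⊢
    exact (mem_bot.1 (W0.le ⟨r1, s1.2⟩)).symm ▸ one_mem _
  by_cases b2 : β = a
  · have : β * s * u ∈ R ⊓ 𝐂(KK A 𝐂[u]) ⊓ 𝐂(KK A 𝐂[u * a]) := ⟨mul_mem r1 ⟨h4, self hu⟩, by
      rw [b2, mem_cent.1 (RC s1.1) a ha, mul_assoc, mem_cent.1 hu.cent a ha]
      exact mul_mem s1.2 (self hu')⟩
    rw [W0, mem_bot] at this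
    exact eq_inv_of_mul_eq_one_left this ▸ inv_mem (mem_zpowers u)
  have := h.inv a ha β hβ a1 b1 b2 t ht.1
  rw [← βt, mul_inv_cancel_right, eq_inv_iff_mul_eq_one, ← pow_two] at this
  exact absurd (orderOf_eq_one_iff.1 ((h.odd_T ha ht.1).coprime_two_right.eq_one_of_dvd
    (orderOf_dvd_of_pow_eq_one this))) t1

theorem main (ty : Ty A u) : False := by
  have u2 := ty.sq
  obtain ⟨S, hS⟩ := (pgroup_sup h.sq.two (R1.two_zpowers u2)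
    (Or.inr (zpowers_le.2 (cent_le_norm A ty.cent)))).exists_le_sylow
  have AS : A ≤ S := le_sup_left.trans hS
  have uS : u ∈ (S : Subgroup G) := hS (mem_sup_right (mem_zpowers u))
  have SC := le_cent_of_odd_index h.sc h.idx AS S.2
  obtain ⟨ρ, r1, r2⟩ := (st h ih ty).1
  obtain ⟨c, hc, e⟩ := ((L.isSylowIn_top S).of_le SC le_top).frattini (norm_le_norm_cent A) r1
  have r3 := mul_mem (cent_le_norm A hc) r1
  have tw : Tw S A (c * ρ) := ⟨S.2, AS, SC, h.sq, h.card, e, r3,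
    fpf h r3 fun e => r2 (((𝐂(A)).mul_mem_cancel_left hc).1 e), fun v hv v2 v1 =>
      key h ih ⟨SC hv, v2, v1⟩ inf_le_right (S.2.to_le inf_le_left)
        (le_inf AS (le_cent1_iff.2 (SC hv))) ⟨hv, self_mem_cent1 v⟩⟩
  obtain ⟨K, k1, k2, k3, k4⟩ := tw.goal ⟨uS, u2, ty.out⟩
  have dt : u ∈ ⁅(⊤ : Subgroup G), (⊤ : Subgroup G)⁆ := (der_top (B := A) (fun e => by
    have := h.card; rw [e, card_bot] at this; omega) fun e => ty.out (e ▸ trivial)).ge trivial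
  refine H6.not_mem_commutator_of_controlled (p := 2) (S : Subgroup G) K
    (NormalIn.of_der1_le k1 k2).normal_subgroupOf
    (fun x hx y hy => k2 (commutator_mem_commutator hx hy))
    ((Nat.Prime.coprime_iff_not_dvd Nat.prime_two).2 S.not_dvd_index) u uS k3
    ⟨1, by rw [pow_one, pow_two, u2]⟩ (fun m g hg => ?_) dt
  rcases Be.zpowers_cases u2 (pow_mem (mem_zpowers u) m) with e | e <;> rw [e] at hg ⊢
  · simp [one_mem]
  rw [inv_eq_of_mul_eq_one_right u2]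
  refine k4 _ ⟨hg, by rw [conj_mul, u2]; group, fun k => ty.out ?_⟩
  have e : g⁻¹ * (g * u * g⁻¹) * g⁻¹⁻¹ = u := by group
  exact e ▸ h.sc.mem _ k g⁻¹ (e.symm ▸ cent_le_norm A ty.cent)

omit h ih in
instance instEndA : EndA := ⟨fun ih h _ hu u2 => by_contra fun u1 => main h ih ⟨hu, u2, u1⟩⟩

end Cfsg.Agent.Go.EA
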