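import Cfsg.Agent.Go.BL1
import Cfsg.Agent.Go.EA2

/-! Slice BL of notes/goldschmidt.md: a character of small degree forces `Sm`. -/

set_option autoImplicit false

namespace Cfsg.Agent.Go.BL

open Subgroup Cfsg.Agent.H1 Cfsg.Agent.L Cfsg.Agent.FT Cfsg.Agent.Sg Cfsg.Agent.R1
open scoped Pointwise commutatorElement

variable {G : Type} [Group G] [Finite G] {A S I X : Subgroup G} {a s t u v x y z δ ρ : G}

local notation "𝐎" A => core {2}ᶜ 𝐂(A)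

theorem oddO (A : Subgroup G) : Odd #|𝐎 A| := odd_iff_piGrp.2 (core_pi _ _)

theorem odd_ord (hx : x ∈ 𝐎 A) : Odd (orderOf x) :=
  (oddO A).of_dvd_nat (orderOf_dvd_natCard _ hx)

omit [Finite G] in
theorem cO : A ≤ 𝐂(𝐎 A) := le_cent_symm (core_le _ _)

omit [Finite G] in
theorem nO : 𝐂(A) ≤ 𝐍(𝐎 A) := (core_normal _ _).norm

section
variable (h : Bs A S ρ)
include h

theorem cS : S ≤ 𝐂(A) := le_cent_of_odd_index h.sc h.idx h.le h.syl.isPGroup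

theorem cm (ha : a ∈ A) (hs : s ∈ S) : a * s = s * a := mem_cent.1 (cS h hs) a ha

omit [Finite G] in
theorem cardS : #|S| = 64 := h.iso.elim fun e => (Nat.card_congr e.toEquiv).trans H6.U64.card_eq

theorem sqA (hs : s ∈ S) : s * s ∈ A := h.iso.elim fun e => h.om _ (cS h (S.mul_mem hs hs))
  (congrArg Subtype.val (e.injective (a₁ := ⟨s, hs⟩ * ⟨s, hs⟩ * (⟨s, hs⟩ * ⟨s, hs⟩)) (a₂ := 1)
    (by simpa only [map_mul, map_one] using H6.U64.pow_four _)))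

theorem cmA (hs : s ∈ S) (ht : t ∈ S) : s * t * s⁻¹ * t⁻¹ ∈ A := h.iso.elim fun e =>
  h.om _ (cS h (B9.commEl_mem hs ht)) (congrArg Subtype.val (e.injective
    (a₁ := ⟨s, hs⟩ * ⟨t, ht⟩ * ⟨s, hs⟩⁻¹ * ⟨t, ht⟩⁻¹ * (⟨s, hs⟩ * ⟨t, ht⟩ * ⟨s, hs⟩⁻¹ * ⟨t, ht⟩⁻¹))
    (a₂ := 1) (by simpa only [map_mul, map_one, map_inv] using H6.U64.comm_sq _ _)))

omit [Finite G] in
theorem noq (hs : s ∈ S) (ht : t ∈ S) (e1 : s * s = t * t) (e2 : s * t * (s * t) = s * s) :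
    s * s = 1 := h.iso.elim fun e => congrArg Subtype.val (e.injective (a₁ := ⟨s, hs⟩ * ⟨s, hs⟩)
  (a₂ := 1) (by
    rw [map_mul, map_one]
    refine H6.U64.no_quat _ (e ⟨t, ht⟩) ?_ ?_ <;> simp only [← map_mul]
    exacts [congrArg e (Subtype.ext e1), congrArg e (Subtype.ext e2)]))

theorem coset (hX : X ≤ S) (hA : ∀ x ∈ X, x ∈ A → x = 1 ∨ x = a) (hu : u ∈ X) (hv : v ∈ X)
    (u1 : u ∉ A) (v1 : v ∉ A) : u * v ∈ A := by
  have k : ∀ w ∈ X, w ∉ A → w * w = a := fun w hw w1 =>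
    (hA _ (X.mul_mem hw hw) (sqA h (hX hw))).resolve_left fun e => w1 (h.om w (cS h (hX hw)) e)
  by_contra n
  exact u1 (h.om u (cS h (hX hu)) (noq h (hX hu) (hX hv) ((k u hu u1).trans (k v hv v1).symm)
    ((k _ (X.mul_mem hu hv) n).trans (k u hu u1).symm)))

theorem nofix (k : K5 A S δ) {r : ℕ} (hr : ¬ 5 ∣ r) (hu : u ∈ S)
    (e : u * (δ ^ r * u * (δ ^ r)⁻¹) ∈ A) : u ∈ A := by
  have hz : u⁻¹ * (δ ^ r * u * (δ ^ r)⁻¹) ∈ A := by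
    simpa only [mul_inv_rev, mul_assoc, inv_mul_cancel_left] using
      A.mul_mem (A.inv_mem (sqA h hu)) e
  obtain ⟨n, hn⟩ := B9.pgroup_pow_eq_one k.five (pow_mem (mem_zpowers δ) r)
  exact k.free r hr ⟨hu, mem_cent1.2 (fix_of_odd (mem_cent.1 (pow_mem k.δA r) _ hz).symm
    (h.sq _ hz) (n := 5 ^ n) (Odd.pow (by decide)) (by simp [hn])).symm⟩

theorem exists_cent (ho : Odd #|X|) (hn : S ≤ 𝐍(X)) (hc : A ≤ 𝐂(X))
    (e : ∀ u ∈ S, u ∉ A → X ⊓ 𝐂[u] = ⊥) : X = ⊥ := by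
  obtain ⟨u, hu, u1⟩ := SetLike.not_le_iff_exists.1 fun k : S ≤ A => by
    have := card_le_of_le' k
    rw [cardS h, h.card] at this; omega
  have cj : ∀ {s}, s ∈ S → s ∉ A → ρ * s * ρ⁻¹ ∈ S ∧ ρ * s * ρ⁻¹ ∉ A := fun hs s1 =>
    ⟨conj_mem_of_mem_normalizer h.ρS hs, mt (conj_mem_iff_of_norm h.ρA).1 s1⟩
  have iv : ∀ {s}, s ∈ S → s ∉ A → ∀ x ∈ X, s * x * s⁻¹ = x⁻¹ := fun hs s1 x hx =>
    inv_of_reg (hn hs) (hc (sqA h hs)) (e _ hs s1) hx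
  obtain ⟨hv, v1⟩ := cj hu u1
  obtain ⟨hw, w1⟩ := cj hv v1
  refine eq_bot_iff.2 fun x hx => eq_one_of_odd ho hx (mul_eq_one_iff_eq_inv.2 ?_)
  have p := h.prod u hu
  generalize ρ * (ρ * u * ρ⁻¹) * ρ⁻¹ = w at *
  generalize ρ * u * ρ⁻¹ = v at *
  calc x = u * v * w * x * (u * v * w)⁻¹ := by rw [p]; simp
    _ = u * (v * (w * x * w⁻¹) * v⁻¹) * u⁻¹ := by group
    _ = _ := by rw [iv hw w1 x hx, ← conj_inv, iv hv v1 x hx, inv_inv, iv hu u1 x hx]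

theorem eq_of_fix (ha : a ∈ A) (a1 : a ≠ 1) (hx : x ∈ A) (e : TT A a ⊓ 𝐂[x] ≠ ⊥) :
    x = 1 ∨ x = a := by
  by_contra! k
  refine e (eq_bot_iff.2 fun t ht => ?_)
  have := h.inv a ha x hx a1 k.1 k.2 t ht.1
  rw [← mem_cent1.1 ht.2, mul_inv_cancel_right] at this
  rw [mem_bot, ← pow_odd (mul_eq_one_iff_eq_inv.2 this) (h.toTIc.odd_T ha ht.1), pow_orderOf_eq_one]

variable (k : K5 A S δ) (ha : a ∈ A) (a1 : a ≠ 1) (hI : ∀ c ∈ 𝐂(A) ⊓ I, TT A a ⊓ 𝐂[c] ≠ ⊥)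
include k ha a1 hI

theorem stab_le (hδ : δ ∈ I) : ((𝐎 A) ⊔ S) ⊓ I ≤ (𝐎 A) ⊔ zpowers a := by
  have sn := (cS h).trans nO
  have hL : (𝐎 A) ⊔ S ≤ 𝐂(A) := sup_le (core_le _ _) (cS h)
  have hA : ∀ x ∈ S ⊓ ((𝐎 A) ⊔ ((𝐎 A) ⊔ S) ⊓ I), x ∈ A → x = 1 ∨ x = a := fun x hx xA => by
    obtain ⟨o, ho, j, hj, e⟩ :=
      (H1.mem_sup_of_le_normalizer' ((inf_le_left.trans hL).trans nO)).1 hx.2
    refine eq_of_fix h ha a1 xA (hI x ⟨h.sq.cent xA, ?_⟩)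
    have := I.pow_mem hj.2 (orderOf o)
    rwa [eq_inv_mul_of_mul_eq e, (show Commute o⁻¹ x from mem_cent.1 (cO xA) _ (inv_mem ho)).mul_pow,
      inv_pow, pow_orderOf_eq_one, inv_one, one_mul, pow_odd (h.sq x xA) (odd_ord ho)] at this
  have hn : zpowers δ ≤ 𝐍(S ⊓ ((𝐎 A) ⊔ ((𝐎 A) ⊔ S) ⊓ I)) :=
    have h1 := zpowers_le.2 k.δS
    have h2 := zpowers_le.2 (nO k.δA)
    le_normalizer_inf h1 (le_normalizer_sup h2 (le_normalizer_inf (le_normalizer_sup h2 h1)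
      (zpowers_le.2 (le_normalizer hδ))))
  intro j hj
  obtain ⟨o, ho, s, hs, e⟩ := (H1.mem_sup_of_le_normalizer' sn).1 hj.1
  have h1 : s ∈ S ⊓ ((𝐎 A) ⊔ ((𝐎 A) ⊔ S) ⊓ I) :=
    ⟨hs, eq_inv_mul_of_mul_eq e ▸ mul_mem (mem_sup_left (inv_mem ho)) (mem_sup_right hj)⟩
  have h2 : s ∈ A := by
    by_contra n
    exact n (nofix h k (r := 1) (by decide) hs (by
      rw [pow_one]
      exact coset h inf_le_left hA h1 (conj_mem_of_mem_normalizer (hn (mem_zpowers δ)) h1) n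
        (mt (conj_mem_iff_of_norm (cent_le_norm A k.δA)).1 n)))
  rw [← e]
  refine mul_mem (mem_sup_left ho) (mem_sup_right ?_)
  rcases hA s h1 h2 with rfl | rfl
  exacts [one_mem _, mem_zpowers _]

theorem index_le (hδ : δ ∈ I) : 32 * I.relIndex (𝐎 A) ≤ I.relIndex ((𝐎 A) ⊔ S) := by
  have l : (𝐎 A) ⊔ zpowers a ≤ (𝐎 A) ⊔ S := sup_le_sup_left (zpowers_le.2 (h.le ha)) _
  have h1 := relIndex_mul_relIndex _ _ _ (stab_le h k ha a1 hI hδ) l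
  have h2 := relIndex_le_of_le_right (le_sup_left : (𝐎 A) ≤ (𝐎 A) ⊔ zpowers a)
    (relIndex_ne_zero' (((𝐎 A) ⊔ S) ⊓ I) _)
  have h3 := card_mul_relIndex_of_le l
  have h4 := Nat.le_of_dvd (Nat.mul_pos Nat.card_pos two_pos) (B9.card_sup_zpowers_dvd
    (nO (h.sq.cent ha)) (n := 2) (by rw [pow_two, h.sq a ha]; exact one_mem _))
  have h5 := card_sup_of_disjoint ((cS h).trans nO) (disjoint_of_coprime_natCard
    (cop_two h.syl.isPGroup (oddO A)))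
  have h6 := Nat.card_pos (α := 𝐎 A)
  rw [sup_comm, cardS h] at h5
  rw [inf_comm, inf_relIndex_right] at h1
  rw [← inf_relIndex_right, inf_right_comm, inf_eq_right.2 (le_sup_left (b := S)),
    inf_relIndex_left] at h2
  have h7 : 32 ≤ ((𝐎 A) ⊔ zpowers a).relIndex ((𝐎 A) ⊔ S) := by
    by_contra! n
    have := Nat.mul_le_mul h4 (Nat.le_of_lt_succ n)
    omega
  rw [← h1, mul_comm]
  exact Nat.mul_le_mul (inf_comm I _ ▸ h2) h7

omit k in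
theorem small (hi : I.relIndex (𝐎 A) < 5) : (𝐎 A) ≤ 𝐂(S) ∧ #|𝐎 A| ∣ 9 := by
  have h3 : ∀ {n : ℕ} {Y : Subgroup G}, n ∣ #|Y| → Y ≤ (𝐎 A) → n < 5 → n ∣ 3 := fun {n Y} d l b => by
    have := (odd_of_le (oddO A) l).of_dvd_nat d
    interval_cases n <;> simp_all [Nat.odd_iff]
  have ρO : ρ ∈ 𝐍(𝐎 A) := norm_le_norm_core _ _ (norm_le_norm_cent A h.ρA)
  have i1 := h3 (relIndex_dvd_card' I _) le_rfl hi
  have i2 : (ρ ⋆ I).relIndex (𝐎 A) = I.relIndex (𝐎 A) := by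
    rw [← relIndex_conj ρ I, conj_of_mem_norm ρO]
  have hD : ∀ u ∈ S, u ∉ A → (I ⊓ ρ ⋆ I) ⊓ ((𝐎 A) ⊓ 𝐂[u]) = ⊥ := fun u hu u1 =>
    eq_bot_iff.2 fun c hc => by
      by_contra c1
      have cA := core_le _ _ hc.2.1
      refine a1 (EA.fpf h.toTIc h.ρA h.ρC a ha (h.fix c cA c1 u ⟨hu, mem_cent1_comm.1 hc.2.2⟩ u1 _
        (conj_mem_of_mem_normalizer h.ρA ha) a ha (mt conj_eq_one_iff.1 a1) a1 (fun e => ?_)
          (hI c ⟨cA, hc.1.1⟩)))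
      obtain ⟨b, hb, rfl⟩ := mem_conj'.1 hc.1.2
      rw [← EA.conj_TT h.ρA, ← conj_cent1, ← conj_inf, conj_eq_bot_iff] at e
      exact hI b ⟨(conj_mem_iff_of_norm (norm_le_norm_cent A h.ρA)).1 cA, hb⟩ e
  have d := le_inf (der_le_of_three (oddO A) i1) (der_le_of_three (oddO A) (i2 ▸ i1))
  have dl : ⁅𝐎 A, 𝐎 A⁆ ≤ 𝐎 A := comm_le_of_le le_rfl le_rfl
  have sn := (cS h).trans nO
  have ab := comm_eq_bot_iff.1 (exists_cent h (odd_of_le (oddO A) dl) (le_normalizer_commutator sn sn)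
    (le_cent_of_le cO dl) fun u hu u1 => eq_bot_iff.2 (hD u hu u1 ▸ le_inf (inf_le_left.trans d)
      (inf_le_inf_right _ dl)))
  have hW : ∀ u ∈ S, u ∉ A → #|(𝐎 A) ⊓ 𝐂[u]| ∣ 9 := fun u hu u1 => by
    have nm : ∀ Y : Subgroup G, Y ⊓ (𝐎 A) ⊴ (𝐎 A) := fun Y =>
      NormalIn.of_le_cent inf_le_right (inf_le_right.trans ab)
    have e1 := (nm (I ⊓ ρ ⋆ I)).relIndex_dvd (inf_le_left : _ ⊓ 𝐂[u] ≤ _)
    have e2 := (nm I).relIndex_dvd (inf_le_right : ρ ⋆ I ⊓ (𝐎 A) ≤ _)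
    rw [inf_relIndex_right, ← inf_relIndex_right, inf_assoc, ← inf_assoc (𝐎 A), inf_idem, hD u hu u1,
      relIndex_bot_left, ← relIndex_inf_mul_relIndex, i2] at e1
    rw [inf_relIndex_right, ← inf_relIndex_right, inf_assoc, inf_left_comm (𝐎 A), inf_idem,
      inf_relIndex_right] at e2
    exact e1.trans (mul_dvd_mul (e2.trans i1) i1)
  have c := Act.le_cent ⟨oddO A, ab, sn, cO, fun _ => sqA h, fun _ hs _ => cmA h hs⟩ h.ρS ρO h.prod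
    (by rw [cardS h, h.card]; omega) fun u hu u1 => Nat.le_of_dvd (by omega) (hW u hu u1)
  obtain ⟨u, hu, u1⟩ := SetLike.not_le_iff_exists.1 fun k : S ≤ A => by
    have := card_le_of_le' k
    rw [cardS h, h.card] at this; omega
  exact ⟨c, by simpa only [inf_eq_left.2 (c.trans (cent_le_cent1 hu))] using hW u hu u1⟩

theorem stab_comm (c : (𝐎 A) ≤ 𝐂(S)) (c9 : #|𝐎 A| ∣ 9) :
    IsMulCommutative (𝐂(A) ⊓ I : Subgroup G) := by
  have ab := le_cent_self (B9.comm_of_card_dvd_sq Nat.prime_three c9)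
  have cδ := cent_of_nine k.five (zpowers_le.2 (nO k.δA)) c9
  have nS : 𝐂(A) ≤ 𝐍(S) := k.dec.trans (sup_le (sup_le (le_norm_of_le_cent c) le_normalizer)
    (zpowers_le.2 k.δS))
  have hA : ∀ x ∈ S ⊓ I, x ∈ A → x = 1 ∨ x = a := fun x hx xA =>
    eq_of_fix h ha a1 xA (hI x ⟨h.sq.cent xA, hx.2⟩)
  refine comm_iff_le_cent.2 (le_cent_iff.2 ?_)
  by_cases j : S ⊓ I ≤ A
  · intro y hy x hx
    have hB := le_cent_self (B9.comm_of_sup_zpowers (comm_iff_le_cent.2 ab)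
      (le_cent_symm cδ (mem_zpowers δ)))
    have l : (𝐎 A) ⊔ zpowers δ ≤ 𝐂(A) := sup_le (core_le _ _) (zpowers_le.2 k.δA)
    have e : 𝐂(A) ≤ S ⊔ ((𝐎 A) ⊔ zpowers δ) := by rw [← sup_assoc, sup_comm S]; exact k.dec
    have d : ⁅𝐂(A), 𝐂(A)⁆ ≤ S := (commutator_mono e e).trans (B9.comm_sup_left_le le_normalizer
      (l.trans nS) (comm_le_left (sup_le le_normalizer (l.trans nS)))
        (B9.comm_sup_right_le le_normalizer (l.trans nS) (comm_le_right (l.trans nS))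
          ((comm_eq_bot_iff.2 hB).trans_le bot_le)))
    have hz : y⁻¹ * (x * y * x⁻¹) ∈ A := j ⟨show _ ∈ S by
      simpa only [commutatorElement_def, inv_inv, mul_assoc] using
        B9.comm_mem_of_le d (inv_mem hy.1) hx.1,
      I.mul_mem (I.inv_mem hy.2) (I.mul_mem (I.mul_mem hx.2 hy.2) (I.inv_mem hx.2))⟩
    haveI : Fact (Nat.Prime 2) := ⟨Nat.prime_two⟩
    exact fix_of_odd (mem_cent.1 hx.1 _ hz).symm (h.sq _ hz) (n := S.relIndex 𝐂(A))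
      (Nat.odd_iff.2 (Nat.two_dvd_ne_zero.1 (h.syl.of_le (cS h) le_top).not_dvd_relIndex))
      (mem_cent.1 hy.1 _ (j ⟨B9.pow_relIndex_mem nS hx.1, I.pow_mem hx.2 _⟩))
  obtain ⟨u, hu, u1⟩ := SetLike.not_le_iff_exists.1 j
  have dc : ∀ x ∈ 𝐂(A) ⊓ I, ∃ o ∈ 𝐎 A, ∃ s ∈ S ⊓ I, x = o * s := fun x hx => by
    obtain ⟨w, hw, r, e⟩ := (B9.mem_sup_zpowers_nat (le_normalizer_sup (zpowers_le.2 (nO k.δA))
      (zpowers_le.2 k.δS) (mem_zpowers δ))).1 (k.dec hx.1)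
    obtain ⟨o, ho, s, hs, rfl⟩ := (H1.mem_sup_of_le_normalizer' ((cS h).trans nO)).1 hw
    have hv := conj_mem_of_mem_normalizer (pow_mem k.δS r) hu.1
    have h1 := coset h inf_le_left hA hu ⟨conj_mem_of_mem_normalizer (nS hx.1) hu.1,
      I.mul_mem (I.mul_mem hx.2 hu.2) (I.inv_mem hx.2)⟩ u1
      (mt (conj_mem_iff_of_norm (cent_le_norm A hx.1)).1 u1)
    have h2 : x * u * x⁻¹ = s * (δ ^ r * u * (δ ^ r)⁻¹) * s⁻¹ := by
      rw [← mul_inv_cancel_right (s * _ * s⁻¹) o,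
        mem_cent.1 (c ho) _ (S.mul_mem (S.mul_mem hs hv) (S.inv_mem hs)), e]; group
    obtain ⟨m, rfl⟩ : 5 ∣ r := by
      by_contra n
      refine u1 (nofix h k n hu.1 ?_)
      have h3 := cmA h hs hv
      generalize δ ^ r * u * (δ ^ r)⁻¹ = v at *
      rw [h2, ← inv_mul_cancel_right (s * v * s⁻¹) v, cm h h3 hv, ← mul_assoc] at h1
      exact (A.mul_mem_cancel_right h3).1 h1
    have h3 : δ ^ (5 * m) ∈ 𝐎 A := pow_mul δ 5 m ▸ pow_mem k.pow m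
    have h4 := (𝐎 A).mul_mem ho h3
    have e' : x = o * δ ^ (5 * m) * s := by rw [e, mul_assoc, mem_cent.1 (c h3) s hs, mul_assoc]
    refine ⟨_, h4, s, ⟨hs, B9.mem_of_pow_mem_coprime (n := orderOf (o * δ ^ (5 * m))) ?_ ?_⟩, e'⟩
    · have := I.pow_mem hx.2 (orderOf (o * δ ^ (5 * m)))
      rwa [e', (show Commute (o * δ ^ (5 * m)) s from (mem_cent.1 (c h4) s hs).symm).mul_pow,
        pow_orderOf_eq_one, one_mul] at this
    · exact ((cop_two h.syl.isPGroup (oddO A)).symm.coprime_dvd_left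
        (orderOf_dvd_natCard _ h4)).coprime_dvd_right (orderOf_dvd_natCard _ hs)
  intro y hy x hx
  obtain ⟨o, ho, s, hs, rfl⟩ := dc x hx
  obtain ⟨p, hp, t, ht, rfl⟩ := dc y hy
  have st : Commute s t := by
    by_cases s1 : s ∈ A
    · exact cm h s1 ht.1
    by_cases t1 : t ∈ A
    · exact (cm h t1 hs.1).symm
    exact (mul_left_cancel ((mul_assoc s t s).symm.trans
      (cm h (coset h inf_le_left hA hs ht s1 t1) hs.1))).symm
  exact (Commute.mul_left (Commute.mul_right (mem_cent.1 (ab hp) o ho)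
    (mem_cent.1 (c ho) t ht.1).symm) (Commute.mul_right (mem_cent.1 (c hp) s hs.1) st)).eq

end

theorem nT (sq : Sq A) (ha : a ∈ A) : 𝐂(A) ≤ 𝐍(TT A a) := fun x hx => conj_eq_self_iff.1 (by
  rw [EA.conj_TT (cent_le_norm A hx), ← mem_cent.1 hx a ha, mul_inv_cancel_right])

theorem commT (h : TIc A) (ha : a ∈ A) (a1 : a ≠ 1) : IsMulCommutative (TT A a) := by
  obtain ⟨b, hb, b1, ab⟩ := exists_third h.card.ge a
  have i := h.inv a ha b hb a1 b1 ab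
  refine comm_iff_le_cent.2 (le_cent_iff.2 fun x hx y hy => inv_injective ?_)
  rw [← i _ (mul_mem hy hx), ← conj_mul, i x hx, i y hy, mul_inv_rev]

theorem fixT (h : TIc A) (ha : a ∈ A) (a1 : a ≠ 1) {μ : G → ℂ} (hμ : Irr (TT A a) μ)
    (h1 : μ ≠ cf1 (TT A a)) : ∀ c ∈ 𝐂(A) ⊓ inert μ, TT A a ⊓ 𝐂[c] ≠ ⊥ := fun c hc e =>
  h1 (hμ.eq_cf1_of_mem_inert (nT h.sq ha hc.1) (fun x hx y hy k => e.le ⟨hx, mem_cent1.2 (by
    rw [mem_cent.1 (le_cent_self (commT h ha a1) hx) y hy, mul_inv_cancel_right] at k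
    exact (mul_inv_eq_iff_eq_mul.1 k).symm)⟩) hc.2)

instance instBL : BL where
  main := fun {G _ _ _ A S ρ δ a χ} h k ha a1 hχ hc d hd h5 hl => by
    obtain ⟨μ, hμ, μ1, hδ, hi⟩ := exists_lam (L := (𝐎 A) ⊔ S) (by norm_num : Nat.Prime 5)
      (commT h.toTIc ha a1) (le_cent1_iff.1 (EA.TT_le h.sq ha)) (h.sq a ha) (fun e => a1 (by
        rw [← pow_odd (h.sq a ha) (h.toTIc.odd_T ha e), pow_orderOf_eq_one])) hχ
      (hc a (mem_zpowers a)) hd k.five (zpowers_le.2 (nT h.sq ha k.δA))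
      ((sup_le (core_le _ _) (cS h)).trans (nT h.sq ha)) h5
    have hI := fixT h.toTIc ha a1 hμ μ1
    have := index_le h k ha a1 hI (hδ (mem_zpowers δ))
    obtain ⟨c, c9⟩ := small h ha a1 hI (by omega)
    exact ⟨c, fun b hb b1 ν hν ν1 => stab_comm h k hb b1 (fixT h.toTIc hb b1 hν.irr ν1) c c9⟩

end Cfsg.Agent.Go.BL
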