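import Cfsg.Agent.Go.St4
import Cfsg.Agent.Go.CP
import Cfsg.Agent.Sg.DP

/-! Goldschmidt, Part I: `O(C(x)) ∩ H ≤ O(H)` for proper subgroups `H`. -/

set_option autoImplicit false
set_option linter.unusedSectionVars false

namespace Cfsg.Agent.Go

open Subgroup Cfsg Cfsg.Agent.H1 Cfsg.Agent.L Cfsg.Agent.FT Cfsg.Agent.Sg Cfsg.Agent.R1
  Cfsg.Agent.H6
open scoped Pointwise commutatorElement

/-- an odd order automorphism centralising `Q` is trivial -/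
theorem sys_hom_id {X : Type*} [Group X] [Finite X] [IsSimpleGroup X] (S : Sz.Sys X)
    (p2 : IsPGroup 2 S.Q) (β : X →* X) (h : ∀ y ∈ S.Q, β y = y) {n : ℕ} (hn : Odd n)
    (e : ∀ g, β^[n] g = g) (u : X) : β u = u := by
  have h1 : ∀ g ∈ S.H, β g ∈ S.H := fun g hg => S.mem_H_of_conj S.sQ S.s1 (by
    rw [← h _ S.sQ, ← map_inv, ← map_mul, ← map_mul, h _ (S.Qn g hg _ S.sQ)]
    exact S.QH (S.Qn g hg _ S.sQ))
  have h2 : ∀ k, ∀ g ∈ S.H, β^[k] g ∈ S.H := fun k g hg => by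
    induction k with
    | zero => exact hg
    | succ k ih => rw [Function.iterate_succ_apply']; exact h1 _ ih
  obtain ⟨m, rfl⟩ := hn
  obtain ⟨y, hy, c, hc, e1⟩ := S.bru (β S.t) fun m' => S.tH (by
    rw [← e S.t]; exact h2 (2 * m) _ m')
  have h3 : ∀ k, ∃ d ∈ S.H, β^[k] S.t = y ^ k * S.t * d := fun k => by
    induction k with
    | zero => exact ⟨1, one_mem _, by simp⟩
    | succ k ih =>
      obtain ⟨d, hd, e2⟩ := ih
      refine ⟨c * β d, mul_mem hc (h1 d hd), ?_⟩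
      rw [Function.iterate_succ_apply', e2, map_mul, map_mul, h _ (pow_mem hy k), e1, pow_succ]
      group
  obtain ⟨d, hd, e2⟩ := h3 (2 * m + 1)
  have y1 : y = 1 := eq_one_of_isPGroup_of_coprime p2 hy (Nat.coprime_two_right.2
    (Odd.of_dvd_nat ⟨m, rfl⟩ (orderOf_dvd_of_pow_eq_one (S.bru_unique (pow_mem hy _) (one_mem _) hd
      (one_mem _) (by rw [← e2, e]; simp)).1)))
  have h4 : ∀ g, g⁻¹ * β g ∈ S.H := fun g => by
    by_cases hg : g ∈ S.H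
    · exact mul_mem (inv_mem hg) (h1 g hg)
    obtain ⟨x, hx, z, hz, rfl⟩ := S.bru g hg
    rw [map_mul, map_mul, h x hx, e1, y1]
    simpa [mul_assoc] using mul_mem (inv_mem hz) (mul_mem hc (h1 z hz))
  have h5 : u⁻¹ * β u ∈ S.H.normalCore := fun g => by
    simpa [mul_assoc] using mul_mem (h4 (u * g⁻¹)) (inv_mem (h4 g⁻¹))
  rw [S.H.normalCore_normal.eq_bot_or_eq_top.resolve_right fun e' =>
    S.tH (S.H.normalCore_le (e' ▸ mem_top _)), mem_bot, inv_mul_eq_one] at h5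
  exact h5.symm

section
variable {Y X : Type*} [Group Y] [Finite Y] [Group X] [Finite X] {A D K : Subgroup Y}

theorem hyp0_mim {f : D →* X} (h : Hyp0 A) (sq : Sq A) (hA : A ≤ D)
    (hc : ∀ a : D, (a : Y) ∈ A → 𝐂[f a] ≤ mim f 𝐂[(a : Y)]) : Hyp0 (mim f A) := by
  rintro _ ⟨a, ha, rfl⟩ a1
  have ha : (a : Y) ∈ A := ha
  have h1 := (hc a ha).trans (mim_le_norm f (h a ha fun e => a1 (by
    rw [show a = 1 from Subtype.ext e, map_one])))
  rw [← mim_inf_dom, sup_inf_modular hA (Or.inr (norm_Oc (sq.cent1 ha))), mim_sup f hA inf_le_right,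
    mim_inf_dom] at h1
  have h2 : mim f (Oc a) ≤ Oc (f a) := le_core ⟨(mim_mono f (core_le _ _)).trans (mim_cent1_le f a),
    (hc a ha).trans (mim_le_norm f (norm_Oc le_rfl))⟩ ((core_pi _ _).mim f)
  have := le_normalizer_sup h1 (norm_Oc le_rfl)
  rwa [sup_assoc, sup_eq_right.2 h2] at this

theorem Pr.exists_hom {π : K →* X} (p : Pr K π) {a : Y} (ha : a ∈ 𝐍(K)) : ∃ β : X →* X,
    (∀ k : K, β (π k) = π ⟨a * k * a⁻¹, (mem_normalizer_iff.1 ha _).1 k.2⟩) ∧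
      ∀ g, β^[orderOf a] g = g := by
  let β : K →* K :=
    { toFun := fun k => ⟨a * k * a⁻¹, (mem_normalizer_iff.1 ha _).1 k.2⟩
      map_one' := Subtype.ext (by simp)
      map_mul' := fun x y => Subtype.ext (by simp only [coe_mul]; group) }
  have hk : π.ker ≤ (π.comp β).ker := fun k hk => p.eq_one.2
    ((mem_normalizer_iff.1 (norm_le_norm_cent K ha) _).1 (p.eq_one.1 hk))
  let α := π.liftOfRightInverse _ (Function.rightInverse_surjInv p.surj) ⟨_, hk⟩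
  have e : ∀ k, α (π k) = π (β k) := fun k => π.liftOfRightInverse_comp_apply _ _ _ k
  refine ⟨α, e, fun g => ?_⟩
  obtain ⟨k, rfl⟩ := p.surj g
  have i : ∀ n, ∃ z : K, α^[n] (π k) = π z ∧ (z : Y) = a ^ n * k * (a ^ n)⁻¹ := fun n => by
    induction n with
    | zero => exact ⟨k, rfl, by simp⟩
    | succ n ih =>
      obtain ⟨z, e1, e2⟩ := ih
      refine ⟨β z, by rw [Function.iterate_succ_apply', e1, e], ?_⟩
      change a * z * a⁻¹ = _
      rw [e2, pow_succ']; group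
  obtain ⟨z, e1, e2⟩ := i (orderOf a)
  rw [e1, show z = k from Subtype.ext (by simpa [pow_orderOf_eq_one] using e2)]

theorem Pr.odd_cent [IsSimpleGroup X] {π : K →* X} (p : Pr K π) (sc : SC A) (hK : IsComponent K)
    (ck : CK A K) (h0 : A ⊓ 𝐂(K) = ⊥) (hA : A ≤ K) (S : Sz.Sys X) (e0 : S.Q0 = mim π A) (rk : S.Rk2)
    (p2 : IsPGroup 2 S.Q) {x : Y} (hx : x ∈ A) (hn : Oc x ≤ 𝐍(K)) : Oc x ≤ 𝐂(K) := fun r hr => by
  have h1 : mpre π S.Q ≤ 𝐍(Oc x) := norm_Oc fun k hk => by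
    obtain ⟨kK, hk'⟩ := mem_mpre.1 hk
    have m := (p.mpre_norm sc ck).le (mpre_mono π (e0 ▸ S.QH.trans S.Q0_norm) hk)
    have m1 : π (⟨k, kK⟩ * ⟨x, hA hx⟩ * (⟨k, kK⟩ : K)⁻¹ * (⟨x, hA hx⟩ : K)⁻¹) = 1 := by
      rw [map_mul, map_mul, map_mul, map_inv, map_inv,
        mem_cent.1 (S.Q0_cent (e0 ▸ mem_mim_of_mem π ⟨x, hA hx⟩ hx)) _ hk']; group
    have m2 := h0.le (mem_inf.2 ⟨mul_mem ((mem_normalizer_iff.1 m.2 x).1 hx) (inv_mem hx), p.eq_one.1 m1⟩)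
    rwa [mem_bot, mul_inv_eq_one, mul_inv_eq_iff_eq_mul, ← mem_cent1] at m2
  have h2 : S.Q ≤ 𝐍(mim π (Oc x)) :=
    (mim_mpre (H := K) (le_top.trans p.top.ge)).ge.trans (mim_le_norm π h1)
  have o := odd_mim (odd_core 𝐂[x]) π
  obtain ⟨u, hu, uu, u1, us⟩ := rk
  have h3 := Be.le_of_four (sys_se S) o (S.QH hu) (S.QH S.sQ) (Be.two_of_sq uu u1)
    (Be.two_of_sq S.ss S.s1) us (S.inv_central hu uu S.sQ) (h2 hu) (h2 S.sQ)
  have h4 := le_cent_of_disjoint h2 (h3.trans S.Q_normal.norm) (inf_eq_bot_of_two p2 o)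
  have h5 : ∀ w ∈ mim π (Oc x), w = 1 := fun w hw => simple_cent (p.not_comm hK) fun g => by
    have := sys_hom_id S p2 (MulAut.conj w).toMonoidHom (fun y hy => by
      simp [← mem_cent.1 (h4 hw) y hy]) (Be.odd_orderOf_of_mem o hw) (fun g => by
        have i : ∀ n, (MulAut.conj w).toMonoidHom^[n] g = w ^ n * g * (w ^ n)⁻¹ := fun n => by
          induction n with
          | zero => simp
          | succ n ih => rw [Function.iterate_succ_apply', ih, pow_succ']; simp [mul_assoc]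
        simpa [pow_orderOf_eq_one] using i (orderOf w)) g
    change w * g * w⁻¹ = g at this
    rw [this, mul_inv_cancel]; exact one_mem _
  obtain ⟨β, e, i⟩ := p.exists_hom (hn hr)
  have h6 := sys_hom_id S p2 β (fun y hy => by
    obtain ⟨k, rfl⟩ := p.surj y
    rw [e, ← mul_inv_eq_one, ← map_inv, ← map_mul]
    refine h5 _ (mem_mim_of_mem π _ ?_)
    simpa [mul_assoc] using mul_mem hr (le_norm_iff.1 h1 _ (coe_mem_mpre.2 hy) _ (inv_mem hr)))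
    (Be.odd_orderOf_of_mem (odd_core _) hr) i
  refine mem_cent_of_comm hK (hn hr) fun g hg => ?_
  have := h6 (π ⟨g, hg⟩)
  rw [e, ← mul_inv_eq_one, ← map_inv, ← map_mul] at this
  exact p.eq_one.1 this

end

/-- the core-free case -/
theorem IH.loc [Be.BeI] {W : Type} [Group W] [Finite W] {A : Subgroup W} {n : ℕ} (ih : IH n)
    (hW : Nat.card W < n) (h : SC A) (sq : Sq A) (hO : core {2}ᶜ (⊤ : Subgroup W) = ⊥) (h0 : Hyp0 A)
    {x : W} (hx : x ∈ A) : Oc x = ⊥ ∨ (#|A| = 4 ∧ ∃ K, IsComponent K ∧ A ≤ K ∧ K ⊴ ⊤ ∧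
      A ⊓ 𝐂(K) = ⊥ ∧ CK A K ∧ L.IsSylowIn 2 (A ⊔ zent K) K) := by
  have cf := ih.cf hW h sq hO
  refine or_iff_not_imp_right.2 fun hc => odd_triv hO (odd_core _)
    (cent_two (sq x hx) (odd_core _) (core_le _ _) (norm_Oc le_rfl)) fun K hK => ?_
  by_cases xK : x ∈ 𝐂(K)
  · exact comp_cent_of_sol hK (sol_of_odd (odd_core _)) (norm_Oc (le_cent1_iff.2 xK))
  have c : ¬ A ≤ 𝐂(K) := fun e => xK (e hx)
  have ck := cf.ck K hK c
  have b0 : A ⊓ 𝐂(K) = ⊥ := by_contra fun e => by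
    obtain ⟨b, hb, b1⟩ := exists_mem_ne_one e
    have s := (SDProd.mk_sup (norm_Oc (sq.cent1 hb.1)) (inf_eq_bot_of_two sq.two (odd_core _))).sol
      (sol_of_odd (odd_core _)) (sol_of_comm sq.comm)
    rw [sup_comm] at s
    exact c (le_sup_left.trans (comp_cent_of_sol hK s ((le_cent1_iff.2 hb.2).trans (h0 b hb.1 b1))))
  have AK : A ≤ K := ck.as.trans (sup_le inf_le_right (b0.le.trans bot_le))
  have nK : K ⊴ ⊤ := ⟨le_top, fun y _ => conj_eq_self_iff.1 (by_contra fun ne => by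
    obtain ⟨e, he, n, hn, rfl⟩ := cf.dec y
    rw [mul_conj, conj_of_mem_norm (layer_le_norm (comp_conj hK n) he)] at ne
    exact c (((conj_of_mem_norm hn).ge.trans (conj_mono n AK)).trans
      (comp_ne hK (comp_conj hK n) (Ne.symm ne))))⟩
  haveI := hK.2.2
  have p := pr_mk K
  rcases p.dich (ih.comp hW hK) h sq hO hK c with ⟨S, e0, rk, p2⟩ | ab
  · exact p.odd_cent h hK ck b0 AK S e0 rk p2 hx (le_top.trans nK.norm)
  refine absurd ⟨?_, K, hK, AK, nK, b0, ck, ?_⟩ hc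
  · rcases ab.card with e | ⟨-, e⟩
    · rwa [card_mim_of_disjoint _ AK (le_bot_iff.1 (by
        rw [p.ker, inf_comm]; exact (inf_le_inf_left _ inf_le_right).trans b0.le))] at e
    refine absurd (hyp0_mim h0 sq AK fun a ha y hy => ?_) e
    obtain ⟨k, rfl⟩ := p.surj y
    have m : (k : W) * a * (k : W)⁻¹ * (a : W)⁻¹ ∈ K ⊓ 𝐂(K) := ⟨(k * a * k⁻¹ * a⁻¹).2, (p.eq_one
      (x := k * a * k⁻¹ * a⁻¹)).1 (by
        rw [map_mul, map_mul, map_mul, map_inv, map_inv, mem_cent1.1 hy]; group)⟩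
    have m1 := h.mem a ha k (by simpa using mul_mem (cent_le_norm A (ck.zc m)) (le_normalizer ha))
    have m2 := b0.le (mem_inf.2 ⟨mul_mem m1 (inv_mem ha), m.2⟩)
    rw [mem_bot, mul_inv_eq_one, mul_inv_eq_iff_eq_mul] at m2
    exact mem_mim_of_mem _ k (mem_cent1.2 m2)
  · have := ab.syl
    rw [← p.top] at this
    have := ((sylow_hall Nat.prime_two this).mpre le_rfl (mker_le _) (p.ker ▸
      (piGrp_iff_isPGroup Nat.prime_two).2 (zent_two hO hK))).sylow Nat.prime_two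
    rwa [mpre_mim _ AK, p.ker] at this

section
variable {G : Type*} [Group G] [Finite G] {A S T : Subgroup G} {a b c n ρ : G}

theorem four_cases (sq : Sq A) (h4 : #|A| = 4) (ha : a ∈ A) (hb : b ∈ A) (a1 : a ≠ 1) (b1 : b ≠ 1)
    (ab : a ≠ b) (hc : c ∈ A) : c = 1 ∨ c = a ∨ c = b ∨ c = a * b := by
  have h1 : a * b ≠ 1 := fun e => ab (by rw [eq_inv_of_mul_eq_one_left e, sq.inv hb])
  have h2 : ({1, a, b, a * b} : Set G).ncard = 4 := by
    rw [Set.ncard_insert_of_notMem (by simp [a1.symm, b1.symm, h1.symm]),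
      Set.ncard_insert_of_notMem (by simp [ab, b1]), Set.ncard_pair (by simp [a1])]
  have h3 : ({1, a, b, a * b} : Set G) = A := Set.eq_of_subset_of_ncard_le (fun z hz => by
    rcases hz with rfl | rfl | rfl | rfl; exacts [one_mem _, ha, hb, mul_mem ha hb])
    (h2.trans h4.symm).ge (Set.toFinite _)
  exact h3.ge hc

theorem mem_cent_of_sq (ho : Odd (𝐂(A)).index) (hn : n ∈ 𝐍(A)) (h : n * n ∈ 𝐂(A)) : n ∈ 𝐂(A) := by
  haveI := (NormalIn.cent_norm A).normal_subgroupOf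
  obtain ⟨k, hk⟩ := ho.of_dvd_nat (relIndex_dvd_index_of_le (cent_le_norm A))
  have : n ^ (𝐂(A)).relIndex 𝐍(A) ∈ 𝐂(A) := ((𝐂(A)).subgroupOf 𝐍(A)).pow_index_mem ⟨n, hn⟩
  rwa [hk, pow_succ, pow_mul, pow_two, mul_mem_cancel_left (pow_mem h k)] at this

theorem mem_cent_of_fix (sq : Sq A) (h4 : #|A| = 4) (ho : Odd (𝐂(A)).index) (hn : n ∈ 𝐍(A))
    (ha : a ∈ A) (a1 : a ≠ 1) (e : n * a * n⁻¹ = a) : n ∈ 𝐂(A) := by
  obtain ⟨b, hb, b1, ba⟩ := exists_third h4.ge a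
  have k : ∀ m : G, m * a * m⁻¹ = a → m * b * m⁻¹ = b → m ∈ 𝐂(A) := fun m e1 e2 =>
    mem_cent.2 fun c hc => (mul_inv_eq_iff_eq_mul.1 (by
      rcases four_cases sq h4 ha hb a1 b1 ba.symm hc with rfl | rfl | rfl | rfl
      · simp
      · exact e1
      · exact e2
      · rw [← conj_mul, e1, e2])).symm
  rcases four_cases sq h4 ha hb a1 b1 ba.symm ((mem_normalizer_iff.1 hn b).1 hb) with h | h | h | h
  · exact absurd (by simpa using h) b1
  · exact absurd (by simpa using h.trans e.symm) ba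
  · exact k n e h
  · refine mem_cent_of_sq ho hn (k _ ?_ ?_)
    · calc _ = n * (n * a * n⁻¹) * n⁻¹ := by group
        _ = _ := by rw [e, e]
    · calc _ = n * (n * b * n⁻¹) * n⁻¹ := by group
        _ = _ := by rw [h, ← conj_mul, e, h, ← mul_assoc, sq a ha, one_mul]

theorem exists_cent_mul (sq : Sq A) (h4 : #|A| = 4) (ho : Odd (𝐂(A)).index) (hρ : ρ ∈ 𝐍(A))
    (h1 : ρ ∉ 𝐂(A)) (hn : n ∈ 𝐍(A)) : ∃ c ∈ 𝐂(A), ∃ k : ℕ, n = c * ρ ^ k := by
  obtain ⟨a, ha, a1, -⟩ := exists_third h4.ge 1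
  have k : ∀ k : ℕ, n * a * n⁻¹ = ρ ^ k * a * (ρ ^ k)⁻¹ → ∃ c ∈ 𝐂(A), ∃ k : ℕ, n = c * ρ ^ k :=
    fun k e => ⟨ρ ^ k * ((ρ ^ k)⁻¹ * n) * (ρ ^ k)⁻¹, (NormalIn.cent_norm A).conj_mem (pow_mem hρ k)
      (mem_cent_of_fix sq h4 ho (mul_mem (inv_mem (pow_mem hρ k)) hn) ha a1 (by
        calc _ = (ρ ^ k)⁻¹ * (n * a * n⁻¹) * ρ ^ k := by group
          _ = _ := by rw [e]; group)), k, by group⟩
  have hb := (mem_normalizer_iff.1 hρ a).1 ha
  have b1 : ρ * a * ρ⁻¹ ≠ 1 := by simpa using a1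
  have ab : a ≠ ρ * a * ρ⁻¹ := fun e => h1 (mem_cent_of_fix sq h4 ho hρ ha a1 e.symm)
  rcases four_cases sq h4 ha hb a1 b1 ab ((mem_normalizer_iff.1 hn a).1 ha) with h | h | h | h
  · exact absurd (by simpa using h) a1
  · exact k 0 (by simpa using h)
  · exact k 1 (by simpa using h)
  refine k 2 ?_
  have e : ρ ^ 2 * a * (ρ ^ 2)⁻¹ = ρ * (ρ * a * ρ⁻¹) * ρ⁻¹ := by rw [pow_two]; group
  rcases four_cases sq h4 ha hb a1 b1 ab ((mem_normalizer_iff.1 hρ _).1 hb) with h' | h' | h' | h'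
  · exact absurd (by simpa using h') a1
  · exact absurd (mem_cent_of_sq ho hρ (mem_cent_of_fix sq h4 ho (mul_mem hρ hρ) ha a1
      (by rw [← pow_two, e, h']))) h1
  · exact absurd (mem_cent_of_fix sq h4 ho hρ hb b1 h') h1
  · rw [e, h, h']

/-- a four-group which is a direct factor of a Sylow subgroup in the right way is Sylow -/
theorem sylow_eq_four [IsSimpleGroup G] (hn : ¬ ∀ x y : G, x * y = y * x) (h : SC A) (sq : Sq A)
    (h4 : #|A| = 4) (hS : L.IsSylowIn 2 S ⊤) (h1 : A ≤ S) (h2 : S ≤ 𝐂(A)) (hT : T ≤ S)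
    (h3 : S ≤ A ⊔ T) (hd : A ⊓ T = ⊥) (hρ : ρ ∈ 𝐍(A)) (hρT : ρ ∈ 𝐂(T)) (hρA : ρ ∉ 𝐂(A)) : S = A := by
  have o : ¬ 2 ∣ (𝐂(A)).relIndex ⊤ := hS.not_dvd_relIndex_of_le h2
  have ho : Odd (𝐂(A)).index := by
    rwa [relIndex_top_right, ← even_iff_two_dvd, Nat.not_even_iff_odd] at o
  have dc : ∀ s ∈ S, ∃ a ∈ A, ∃ t ∈ T, s = a * t := fun s hs =>
    (setProd_sup (Or.inl (le_norm_of_le_cent (hT.trans h2)))).2.2 s (h3 hs)
  have cT : ∀ x ∈ S, ∀ y ∈ S, x * y * x⁻¹ * y⁻¹ ∈ T := fun x hx y hy => by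
    obtain ⟨a, ha, t, ht, rfl⟩ := dc x hx
    obtain ⟨b, hb, u, hu, rfl⟩ := dc y hy
    have e1 := mem_cent.1 (h2 (mul_mem (mul_mem (hT ht) hy) (inv_mem (hT ht)))) a ha
    have e2 := mem_cent.1 (h2 (hT ht)) b hb
    have e3 := mem_cent.1 (h2 (hT (mul_mem (mul_mem (mul_mem ht hu) (inv_mem ht)) (inv_mem hu)))) b hb
    have : a * t * (b * u) * (a * t)⁻¹ * (b * u)⁻¹ = t * u * t⁻¹ * u⁻¹ := by
      calc _ = a * (t * (b * u) * t⁻¹) * a⁻¹ * (b * u)⁻¹ := by group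
        _ = (t * b) * u * t⁻¹ * u⁻¹ * b⁻¹ := by rw [e1]; group
        _ = b * (t * u * t⁻¹ * u⁻¹) * b⁻¹ := by rw [← e2]; group
        _ = _ := by rw [e3]; group
    rw [this]
    exact mul_mem (mul_mem (mul_mem ht hu) (inv_mem ht)) (inv_mem hu)
  have h5 : ∀ z ∈ A, z ∈ ⁅𝐂(A), 𝐂(A)⁆ → z = 1 := fun z hz m => by_contra fun z1 => by
    refine not_mem_commutator_of_controlled (p := 2) (S.subgroupOf 𝐂(A)) (T.subgroupOf 𝐂(A))
      ⟨fun x hx g => ?_⟩ (fun x hx y hy => cT _ hx _ hy) ((Nat.Prime.coprime_iff_not_dvd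
        Nat.prime_two).2 (hS.of_le h2 le_top).not_dvd_relIndex) ⟨z, h.comm hz⟩ (h1 hz)
      (fun m' => z1 (mem_bot.1 (hd.le ⟨hz, m'⟩))) ⟨1, Subtype.ext (by simpa [pow_two] using sq z hz)⟩
      (fun m a _ => ?_) ?_
    · have := mul_mem (cT _ g.2 _ (hT hx)) hx
      rw [inv_mul_cancel_right] at this
      exact this
    · have : a * ⟨z, h.comm hz⟩ ^ m = ⟨z, h.comm hz⟩ ^ m * a :=
        Subtype.ext (mem_cent.1 a.2 _ (pow_mem hz m)).symm
      rw [this]; simp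
    · rw [_root_.commutator_def, ← subgroupOf_self, ← subOf_comm le_rfl le_rfl]; exact m
  have h6 : ∀ s ∈ S, s ∈ ⁅𝐂(A), 𝐂(A)⁆ → s ∈ T := fun s hs m => by
    obtain ⟨a, ha, t, ht, rfl⟩ := dc s hs
    by_cases a1 : a = 1
    · simpa [a1] using ht
    have e : ρ * (a * t) * ρ⁻¹ * (a * t)⁻¹ = ρ * a * ρ⁻¹ * a⁻¹ := by
      calc _ = ρ * a * (t * ρ⁻¹) * t⁻¹ * a⁻¹ := by group
        _ = _ := by rw [mem_cent.1 (inv_mem hρT) t ht]; group
    have := h5 _ (mul_mem ((mem_normalizer_iff.1 hρ a).1 ha) (inv_mem ha)) (e ▸ mul_mem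
      ((NormalIn.cent_norm A).der1'.conj_mem hρ m) (inv_mem m))
    exact absurd (mem_cent_of_fix sq h4 ho hρ ha a1 (mul_inv_eq_one.1 this)) hρA
  suffices e : T = ⊥ from le_antisymm (by rwa [e, sup_bot_eq] at h3) h1
  by_contra e
  have k : ∀ {U : Subgroup G}, U ≠ ⊥ → normalClosure (U : Set G) = ⊤ := fun e =>
    (Normal.eq_bot_or_eq_top inferInstance).resolve_left (ne_bot_of_le e le_normalClosure)
  have hN := h.sci.le_norm hS.isPGroup h1 le_top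
  have := Sg.dp hS.toSylowTop (T := A) (U := T) ⟨h1, fun x hx g hg => h.mem x hx g (hN hg)⟩
    ⟨hT, fun x hx g hg => by
      obtain ⟨n, hn', e1⟩ := h.ctrl (S := hS.toSylowTop) h1 (hT hx) hg
      obtain ⟨c, hc, j, rfl⟩ := exists_cent_mul sq h4 ho hρ hρA hn'
      have e2 : g * x * g⁻¹ = c * x * c⁻¹ := by
        rw [← e1, mul_assoc c, ← mem_cent.1 (pow_mem hρT j) x hx]; group
      have m := h6 (c * x * c⁻¹ * x⁻¹) (mul_mem (e2 ▸ hg) (inv_mem (hT hx)))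
        (commutator_mem_commutator hc (h2 (hT hx)))
      rw [e2]
      simpa using mul_mem m hx⟩ (hT.trans h2) hd
  rw [k e, k (fun e' => by rw [e', card_bot] at h4; omega), simple_core hn, le_bot_iff,
    comm_eq_bot_iff] at this
  exact hn fun x y => mem_cent.1 (this (mem_top y)) x trivial

end

/-- (Loc) -/
theorem loc [Be.BeI] {G : Type} [Group G] [Finite G] [IsSimpleGroup G] {A H : Subgroup G} {x : G}
    (ih : IH (Nat.card G)) (h : SC A) (sq : Sq A) (h0 : Hyp0 A) (hH : H ≠ ⊤) (hA : A ≤ H) (hx : x ∈ A)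
    (hc : #|A| ≠ 4 ∨ ∃ S, L.IsSylowIn 2 S ⊤ ∧ A ≤ S ∧ S ≤ 𝐂(A) ∧ S ≤ H ∧ S ≠ A) :
    core {2}ᶜ 𝐂[x] ⊓ H ≤ core {2}ᶜ H := by
  obtain ⟨W, _, _, φ, p1, p2⟩ := exists_quo (core_normal {2}ᶜ H)
  have su : Function.Surjective φ := fun w => let ⟨x, _, e⟩ := p1.ge (mem_top w); ⟨x, e⟩
  have oO : Odd #|mker φ| := p2 ▸ odd_core H
  have hO : core {2}ᶜ (⊤ : Subgroup W) = ⊥ := by
    have := mpre_core (f := φ) (π := {2}ᶜ) le_rfl (mker_le φ) (odd_iff_piGrp.1 oO)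
    rw [← mim_mpre (f := φ) (H := H) (le_top.trans p1.ge : core _ _ ≤ _), ← p1, this, ← p2, mim_mker]
  have ce : ∀ P ≤ H, IsPGroup 2 P → mim φ 𝐂(P) = 𝐂(mim φ P) := fun P h1 hP => by
    rw [← mim_inf_dom, inf_comm, mim_inf_cent h1 (mker_le φ) (cop_two hP oO)
      (Or.inr (sol_of_odd oO)), p1, top_inf_eq]
  have c1 : ∀ a : H, (a : G) ∈ A → 𝐂[φ a] ≤ mim φ 𝐂[(a : G)] := fun a ha => by
    rw [← cent_zpowers (a : G), ce _ (zpowers_le.2 a.2) (R1.two_zpowers (sq a ha)), mim_zpowers,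
      cent_zpowers]
  have d0 : mker φ ⊓ A = ⊥ := inf_eq_bot_of_two sq.two oO
  rcases ih.loc (card_lt_of_surj hH su) ((h.sci.mono hA le_top).sub.map φ su) (sq.mim φ) hO
    (hyp0_mim h0 sq hA c1) (mem_mim_of_mem φ ⟨x, hA hx⟩ hx) with e | ⟨c4, K, hK, AK, nK, b0, ck, hs⟩
  · rw [← p2, ← mim_eq_bot_iff inf_le_right, mim_inf_dom, ← le_bot_iff, ← e]
    exact le_core ⟨(mim_mono φ (core_le _ _)).trans (mim_cent1_le φ ⟨x, hA hx⟩),
      (c1 ⟨x, hA hx⟩ hx).trans (mim_le_norm φ (norm_Oc le_rfl))⟩ ((core_pi _ _).mim φ)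
  change #|mim φ A| = 4 at c4
  change mim φ A ≤ K at AK
  change mim φ A ⊓ 𝐂(K) = ⊥ at b0
  change CK (mim φ A) K at ck
  rw [card_mim_of_disjoint φ hA d0] at c4
  obtain ⟨S, hS, h1, h2, h3, ne⟩ := hc.resolve_left (not_not.2 c4)
  have hn : ¬ ∀ x y : G, x * y = y * x := fun e => by
    rcases (⟨fun a ha g => by rwa [e g, mul_inv_cancel_right]⟩ : A.Normal).eq_bot_or_eq_top with e | e
    · rw [e, card_bot] at c4; omega
    · exact hH (top_le_iff.1 (e ▸ hA))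
  have h4 := le_sup_cent hK AK hs (mim_mono φ h1) (pgroup_mim hS.isPGroup φ) (mim_le_cent φ h2)
    (le_top.trans nK.norm) (zent_two hO hK)
  have T2 := hS.isPGroup.to_le (inf_le_left : S ⊓ mpre φ 𝐂(K) ≤ S)
  have h5 : K ≤ mim φ (H ⊓ 𝐂(S ⊓ mpre φ 𝐂(K))) := by
    rw [inf_comm H, mim_inf_dom, ce _ (inf_le_left.trans h3) T2]
    exact le_cent_symm ((mim_mono φ inf_le_right).trans (mim_mpre_le _ _))
  have AT : A ≤ H ⊓ 𝐂(S ⊓ mpre φ 𝐂(K)) := le_inf hA (le_cent_symm (inf_le_left.trans h2))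
  by_contra
  have nc : ¬ ⁅mim φ A, K ⊓ 𝐍(mim φ A)⁆ ≤ 𝐂(K) := ck.tr.not_comm ck.q4
  refine nc (((commutator_mono le_rfl (((inf_le_inf_right _ h5).trans (lift h AT inf_le_left)).trans
    (mim_mono φ fun ρ hρ => by_contra fun hρ' => ne ?_))).trans (comm_eq_bot_iff'.2
      (mim_le_cent φ (le_refl 𝐂(A)))).le).trans bot_le)
  refine sylow_eq_four hn h sq c4 hS h1 h2 inf_le_left (fun s hs' => ?_) ?_ hρ.2 hρ.1.2 hρ'
  · obtain ⟨_, ⟨u, hu, rfl⟩, c, hc', e⟩ := ((NormalIn.cent_norm K).mem_sup'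
      (le_top.trans nK.norm)).1 (h4 (mem_mim_of_mem φ ⟨s, h3 hs'⟩ hs'))
    have hu : (u : G) ∈ A := hu
    have : (u : G)⁻¹ * s ∈ S ⊓ mpre φ 𝐂(K) := mem_inf.2 ⟨mul_mem (inv_mem (h1 hu)) hs',
      (coe_mem_mpre (x := u⁻¹ * ⟨s, h3 hs'⟩)).2 (by rwa [map_mul, map_inv, ← e, inv_mul_cancel_left])⟩
    simpa using mul_mem_sup hu this
  · refine le_bot_iff.1 (le_trans (le_inf ((mim_eq_bot_iff (inf_le_left.trans hA)).1
      (le_bot_iff.1 (le_trans (le_inf (mim_mono φ inf_le_left) ?_) b0.le))) inf_le_left) d0.le)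
    exact (mim_mono φ (inf_le_right.trans inf_le_right)).trans (mim_mpre_le _ _)

end Cfsg.Agent.Go
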