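import Cfsg.Agent.Go.E1
import Cfsg.Agent.Go.EU
import Cfsg.Agent.Go.EA2
import Cfsg.Agent.Go.Loc

/-! Basic facts on the configurations `TIc` and `Bs` of the rank two endgame. -/

set_option autoImplicit false
set_option maxHeartbeats 400000

namespace Cfsg.Agent.Go

open Subgroup Cfsg Cfsg.Agent.H1 Cfsg.Agent.L Cfsg.Agent.FT Cfsg.Agent.Sg Cfsg.Agent.R1
  Cfsg.Agent.H6
open scoped Pointwise commutatorElement

variable {G : Type} [Group G] [Finite G] {A S : Subgroup G} {ρ δ a b c g s t u v x y z : G}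

theorem nat_pow (h : y ∈ zpowers x) : ∃ r : ℕ, x ^ r = y := mem_powers_iff_mem_zpowers.2 h

/-- `W_a = T_a O(C(A))` -/
def WW (A : Subgroup G) (a : G) : Subgroup G := TT A a ⊔ core {2}ᶜ 𝐂(A)

/-- the part of the local structure common to `K1` and `K5` -/
structure Fr (A S : Subgroup G) : Prop where
  nrm : 𝐂(A) ≤ 𝐍(core {2}ᶜ 𝐂(A) ⊔ S)
  key : ∀ u ∈ S, u ∉ A → ∀ c ∈ 𝐂(A), c * u * c⁻¹ * u⁻¹ ∈ core {2}ᶜ 𝐂(A) ⊔ A →
    c ∈ core {2}ᶜ 𝐂(A) ⊔ S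

namespace TIc
variable (h : TIc A)
include h

omit [Finite G] in
theorem cmA (ha : a ∈ A) (hc : c ∈ 𝐂(A)) : a * c = c * a := mem_cent.1 hc a ha

theorem T_le_O (ha : a ∈ A) : TT A a ≤ core {2}ᶜ 𝐂[a] := comm_le_left (norm_Oc (h.sq.cent1 ha))

theorem T_le (ha : a ∈ A) : TT A a ≤ 𝐂[a] := EA.TT_le h.sq ha

theorem T_odd (ha : a ∈ A) : Odd #|TT A a| := odd_of_le (odd_core _) (h.T_le_O ha)

theorem T_comm (ha : a ∈ A) (a1 : a ≠ 1) : TT A a ≤ 𝐂(TT A a) := by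
  obtain ⟨b, hb, b1, ba⟩ := exists_third h.card.ge a
  have i := h.inv a ha b hb a1 b1 ba
  refine le_cent_iff.2 fun s hs t ht => ?_
  have := i _ (mul_mem hs ht)
  rw [← conj_mul, i _ hs, i _ ht, ← mul_inv_rev, inv_inj] at this
  exact this

theorem T_comm' (ha : a ∈ A) (a1 : a ≠ 1) : IsMulCommutative (TT A a) :=
  comm_iff_le_cent.2 (h.T_comm ha a1)

omit [Finite G] h in
theorem C_norm_T (ha : a ∈ A) : 𝐂(A) ≤ 𝐍(TT A a) := fun c hc => conj_eq_self_iff.1 (by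
  rw [EA.conj_TT (cent_le_norm A hc), ← mem_cent.1 hc a ha, mul_inv_cancel_right])

theorem T_normal (ha : a ∈ A) (a1 : a ≠ 1) : TT A a ⊴ 𝐂[a] :=
  ⟨h.T_le ha, (h.dec a ha a1).trans (sup_le le_normalizer (C_norm_T ha))⟩

theorem T_inf1 (ha : a ∈ A) (hb : b ∈ A) (a1 : a ≠ 1) (b1 : b ≠ 1) (ba : b ≠ a) :
    TT A a ⊓ 𝐂[b] = ⊥ := eq_bot_iff.2 fun t ht => by
  have i := h.inv a ha b hb a1 b1 ba t ht.1
  rw [← mem_cent1.1 ht.2, mul_inv_cancel_right] at i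
  exact mem_of_sq_mem_of_odd (h.odd_T ha ht.1) (mem_bot.2 (mul_eq_one_iff_eq_inv.2 i))

theorem T_inf (ha : a ∈ A) (a1 : a ≠ 1) : TT A a ⊓ 𝐂(A) = ⊥ := by
  obtain ⟨b, hb, b1, ba⟩ := exists_third h.card.ge a
  exact eq_bot_iff.2 ((inf_le_inf_left _ (cent_le_cent1 hb)).trans (h.T_inf1 ha hb a1 b1 ba).le)

theorem sd (ha : a ∈ A) (a1 : a ≠ 1) : SDProd (TT A a) 𝐂(A) 𝐂[a] :=
  SDProd.of_normal (h.T_normal ha a1) (cent_le_cent1 ha) (h.T_inf ha a1) (h.dec a ha a1)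

/-- conjugate elements of `C(A)` are conjugate in `N(A)` -/
theorem fusion (hu : u ∈ 𝐂(A)) (hv : g * u * g⁻¹ ∈ 𝐂(A)) :
    ∃ n ∈ 𝐍(A), n * u * n⁻¹ = g * u * g⁻¹ := by
  obtain ⟨c, hc, e⟩ := h.sc.sci.conj_eq (le_cent1_iff.2 hv) le_top (mem_top g)
    (by rw [← conj_cent1]; exact conj_mono g (le_cent1_iff.2 hu))
  refine ⟨c⁻¹ * g, conj_eq_conj_iff_norm.1 e.symm, ?_⟩
  calc _ = c⁻¹ * (g * u * g⁻¹ * c) := by group
    _ = _ := by rw [← mem_cent1.1 hc, inv_mul_cancel_left]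

theorem W_odd (ha : a ∈ A) : Odd #|WW A a| :=
  odd_sup (h.T_odd ha) (odd_core _) (Or.inr ((core_le _ _).trans (C_norm_T ha)))

theorem W_le (ha : a ∈ A) : WW A a ≤ 𝐂[a] :=
  sup_le (h.T_le ha) ((core_le _ _).trans (cent_le_cent1 ha))

omit h in
theorem C_norm_W (ha : a ∈ A) : 𝐂(A) ≤ 𝐍(WW A a) :=
  le_normalizer_sup (C_norm_T ha) (core_normal _ _).norm

theorem W_normal (ha : a ∈ A) (a1 : a ≠ 1) : WW A a ⊴ 𝐂[a] :=
  ⟨h.W_le ha, (h.dec a ha a1).trans (sup_le (le_sup_left.trans le_normalizer) (C_norm_W ha))⟩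

theorem W_inf (ha : a ∈ A) (a1 : a ≠ 1) : WW A a ⊓ 𝐂(A) = core {2}ᶜ 𝐂(A) := by
  rw [WW, sup_inf_modular' (core_le _ _) (Or.inl ((core_le _ _).trans (C_norm_T ha))),
    h.T_inf ha a1, bot_sup_eq]

end TIc

namespace Bs
variable (h : Bs A S ρ)
include h

theorem two : IsPGroup 2 S := h.syl.isPGroup

theorem S_le : S ≤ 𝐂(A) := le_cent_of_odd_index h.sc h.idx h.le h.two

omit [Finite G] in
theorem cardS : #|S| = 64 := let ⟨e⟩ := h.iso; (Nat.card_congr e.toEquiv).trans U64.card_eq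

theorem mem_iff (hs : s ∈ S) : s ∈ A ↔ s * s = 1 := ⟨h.sq s, h.om s (h.S_le hs)⟩

theorem cmS (ha : a ∈ A) (hs : s ∈ S) : a * s = s * a := mem_cent.1 (h.S_le hs) a ha

theorem mem_iff' (e : S ≃* U64) (s : S) : (s : G) ∈ A ↔ e s * e s = 1 := by
  rw [h.mem_iff s.2, ← map_mul, map_eq_one_iff e e.injective, Subtype.ext_iff]; rfl

omit [Finite G] h in
theorem cm_iff (e : S ≃* U64) (s t : S) : e s * e t = e t * e s ↔ (s : G) * t = t * s := by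
  rw [← map_mul, ← map_mul, e.injective.eq_iff, Subtype.ext_iff]; rfl

theorem sq_mem (hs : s ∈ S) : s * s ∈ A := by
  obtain ⟨e⟩ := h.iso
  exact (h.mem_iff' e (⟨s, hs⟩ * ⟨s, hs⟩)).2 (by rw [map_mul]; exact U64.pow_four _)

theorem comm_mem (hs : s ∈ S) (ht : t ∈ S) : s * t * s⁻¹ * t⁻¹ ∈ A := by
  obtain ⟨e⟩ := h.iso
  exact (h.mem_iff' e (⟨s, hs⟩ * ⟨t, ht⟩ * ⟨s, hs⟩⁻¹ * ⟨t, ht⟩⁻¹)).2 (by
    simp only [map_mul, map_inv]; exact U64.comm_sq _ _)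

theorem no_quat (hx : x ∈ S) (hy : y ∈ S) (e1 : x * x = y * y) (e2 : x * y * (x * y) = x * x) :
    x ∈ A := by
  obtain ⟨e⟩ := h.iso
  refine (h.mem_iff' e ⟨x, hx⟩).2 (U64.no_quat _ (e ⟨y, hy⟩) ?_ ?_) <;>
    simp only [← map_mul, e.injective.eq_iff] <;> exact Subtype.ext (by assumption)

theorem card_cent (hu : u ∈ S) (u1 : u ∉ A) : #|S ⊓ 𝐂[u]| = 16 := by
  obtain ⟨e⟩ := h.iso
  rw [← E.u_card_cent _ (mt (h.mem_iff' e ⟨u, hu⟩).2 u1), ← Nat.card_eq_fintype_card]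
  exact Nat.card_congr ⟨fun y => ⟨e ⟨y, y.2.1⟩, (cm_iff e _ _).2 (mem_cent1.1 y.2.2)⟩,
    fun y => ⟨e.symm y, (e.symm y).2, mem_cent1.2 ((cm_iff e _ ⟨u, hu⟩).1 (by simpa using y.2))⟩,
    fun y => by simp, fun y => by simp⟩

theorem conj_mul (hu : u ∈ S) (u1 : u ∉ A) (hz : z ∈ A) : ∃ s ∈ S, s * u * s⁻¹ = u * z := by
  obtain ⟨e⟩ := h.iso
  obtain ⟨s, hs⟩ := E.u_conj_mul _ _ (mt (h.mem_iff' e ⟨u, hu⟩).2 u1)
    ((h.mem_iff' e ⟨z, h.le hz⟩).1 hz)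
  obtain ⟨s, rfl⟩ := e.surjective s
  simp only [← map_mul, ← map_inv, e.injective.eq_iff] at hs
  exact ⟨s, s.2, congrArg Subtype.val hs⟩

theorem exists_sq (ha : a ∈ A) (a1 : a ≠ 1) : ∃ u ∈ S, u ∉ A ∧ u * u = a := by
  obtain ⟨e⟩ := h.iso
  obtain ⟨s, hs⟩ := E.u_exists_sq _ ((h.mem_iff' e ⟨a, h.le ha⟩).1 ha)
  obtain ⟨s, rfl⟩ := e.surjective s
  simp only [← map_mul, e.injective.eq_iff] at hs
  have k : (s : G) * s = a := congrArg Subtype.val hs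
  exact ⟨s, s.2, fun m => a1 (k.symm.trans (h.sq _ m)), k⟩

theorem cent_comm (hu : u ∈ S) (u1 : u ∉ A) : S ⊓ 𝐂[u] ≤ 𝐂(S ⊓ 𝐂[u]) := by
  obtain ⟨e⟩ := h.iso
  exact le_cent_iff.2 fun y hy z hz => (cm_iff e ⟨z, hz.1⟩ ⟨y, hy.1⟩).1
    (E.u_cent_comm _ (mt (h.mem_iff' e ⟨u, hu⟩).2 u1) _ ((cm_iff e _ _).2 (mem_cent1.1 hz.2)) _
      ((cm_iff e _ _).2 (mem_cent1.1 hy.2)))

theorem four : ∃ f : Fin 4 → G, ∀ i, f i ∈ S ∧ f i ∉ A ∧ ∀ j, i ≠ j → f i ∉ 𝐂[f j] := by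
  obtain ⟨e⟩ := h.iso
  obtain ⟨f, hf⟩ := E.u_four
  have k : ∀ i j, i ≠ j → (e.symm (f i) : G) ∉ 𝐂[(e.symm (f j) : G)] := fun i j ij m =>
    hf i j ij (by simpa using (cm_iff e _ _).2 (mem_cent1.1 m))
  refine ⟨fun i => e.symm (f i), fun i => ⟨(e.symm (f i)).2, fun m => ?_, k i⟩⟩
  obtain ⟨j, ij⟩ := exists_ne i
  exact k i j ij.symm (mem_cent1.2 (h.cmS m (e.symm (f j)).2))

omit [Finite G] in
theorem cjS (hs : s ∈ S) : ρ * s * ρ⁻¹ ∈ S := (conj_mem_iff_of_norm h.ρS).2 hs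

omit [Finite G] in
theorem cjA : ρ * s * ρ⁻¹ ∈ A ↔ s ∈ A := conj_mem_iff_of_norm h.ρA

theorem conj_of_mul (hu : u ∈ S) (u1 : u ∉ A) (e : v * u ∈ A) : ∃ s ∈ S, s * u * s⁻¹ = v := by
  obtain ⟨s, hs, k⟩ := h.conj_mul hu u1 (mul_mem (inv_mem (h.sq_mem hu)) e)
  refine ⟨s, hs, k.trans ?_⟩
  calc _ = u⁻¹ * (v * u) := by group
    _ = _ := by rw [← h.cmS e (inv_mem hu), mul_inv_cancel_right]

/-- the elements of `C_S(u) ∖ A` are conjugate -/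
theorem conj_of_cent (hu : u ∈ S) (u1 : u ∉ A) (hv : v ∈ S ⊓ 𝐂[u]) (v1 : v ∉ A) :
    ∃ g, g * u * g⁻¹ = v := by
  obtain ⟨e⟩ := h.iso
  have h1 := h.cjS hu
  have h2 := h.cjS h1
  have p : u * (ρ * u * ρ⁻¹) = (ρ * (ρ * u * ρ⁻¹) * ρ⁻¹)⁻¹ := eq_inv_of_mul_eq_one_left (h.prod u hu)
  have := E.u_cent_cases _ (mt (h.mem_iff' e ⟨u, hu⟩).2 u1) (e ⟨_, h1⟩)
    ((cm_iff e _ _).2 (h.comm u hu).symm) (mt (h.mem_iff' e _).2 (mt h.cjA.1 u1))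
    (by
      rw [← map_mul]
      refine mt (h.mem_iff' e _).2 fun m => u1 (h.cjA.1 (h.cjA.1 (A.inv_mem_iff.1 ?_)))
      exact p ▸ m) (e ⟨v, hv.1⟩) ((cm_iff e _ _).2 (mem_cent1.1 hv.2))
  rw [← map_mul e ⟨u, hu⟩, ← h.mem_iff' e, ← map_mul e _ ⟨u, hu⟩, ← h.mem_iff' e,
    ← map_mul e _ ⟨_, h1⟩, ← h.mem_iff' e, ← map_mul e ⟨v, hv.1⟩, ← h.mem_iff' e] at this
  rcases this with k | k | k | k
  · exact absurd k v1
  · obtain ⟨s, -, k⟩ := h.conj_of_mul (v := v) hu u1 k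
    exact ⟨s, k⟩
  · obtain ⟨s, -, k⟩ := h.conj_of_mul (v := v) h1 (mt h.cjA.1 u1) k
    exact ⟨s * ρ, by rw [← k]; group⟩
  · have k' : v * (ρ * (ρ * u * ρ⁻¹) * ρ⁻¹)⁻¹ ∈ A := p ▸ k
    have k2 := mul_mem k' (h.sq_mem h2)
    rw [mul_assoc, inv_mul_cancel_left] at k2
    obtain ⟨s, -, k⟩ := h.conj_of_mul h2 (mt h.cjA.1 (mt h.cjA.1 u1)) k2
    exact ⟨s * ρ * ρ, by rw [← k]; group⟩

theorem S_norm_W (ha : a ∈ A) : S ≤ 𝐍(WW A a) := h.S_le.trans (TIc.C_norm_W ha)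

theorem sdW (ha : a ∈ A) : SDProd (WW A a) S (WW A a ⊔ S) :=
  SDProd.mk_sup (h.S_norm_W ha) (inf_eq_bot_of_two h.two (h.W_odd ha))

theorem S_norm_O : S ≤ 𝐍(core {2}ᶜ 𝐂(A)) := h.S_le.trans (core_normal _ _).norm

theorem OA_inf : (core {2}ᶜ 𝐂(A) ⊔ A) ⊓ S = A := by
  rw [sup_inf_modular' h.le (Or.inl (h.le.trans h.S_norm_O)),
    inf_eq_bot_of_two h.two (odd_core _), bot_sup_eq]

theorem fr1 (k : K1 A S) : Fr A S :=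
  ⟨k.trans le_normalizer, fun _ _ _ _ hc _ => k hc⟩

/-- an element of `⟨δ⟩` fixing a coset `u A` lies in `⟨δ⁵⟩` -/
theorem five_dvd (k : K5 A S δ) (hu : u ∈ S) (u1 : u ∉ A) {r : ℕ}
    (e : δ ^ r * u * (δ ^ r)⁻¹ * u⁻¹ ∈ A) : 5 ∣ r := by
  by_contra n
  refine u1 (k.free (2 * r) (by omega) ⟨hu, mem_cent1.2 ?_⟩)
  have c := mem_cent.1 (pow_mem k.δA r) _ e
  have q := h.sq _ e
  rw [two_mul, pow_add]
  generalize δ ^ r = d at c q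
  obtain ⟨z, hz⟩ : ∃ z, z = d * u * d⁻¹ * u⁻¹ := ⟨_, rfl⟩
  have w : d * u = z * u * d := by rw [hz]; group
  rw [← hz] at c q
  calc u * (d * d) = z * z * u * d * d := by rw [q]; group
    _ = z * (d * u) * d := by rw [w]; group
    _ = d * (z * u * d) := by rw [← mul_assoc z, c]; group
    _ = _ := by rw [← w, mul_assoc]

theorem fr5 (k : K5 A S δ) : Fr A S := by
  have n : zpowers δ ≤ 𝐍(core {2}ᶜ 𝐂(A) ⊔ S) :=
    zpowers_le.2 (le_normalizer_sup (A := zpowers δ)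
      (zpowers_le.2 ((core_normal _ _).norm k.δA)) (zpowers_le.2 k.δS) (mem_zpowers δ))
  refine ⟨k.dec.trans (sup_le le_normalizer n), fun u hu u1 c hc e => ?_⟩
  obtain ⟨m, hm, d, hd, rfl⟩ := (H1.mem_sup_of_le_normalizer' n).1 (k.dec hc)
  obtain ⟨o, ho, s, hs, rfl⟩ := (H1.mem_sup_of_le_normalizer' h.S_norm_O).1 hm
  obtain ⟨r, rfl⟩ := nat_pow hd
  have hv : δ ^ r * u * (δ ^ r)⁻¹ ∈ S := (conj_mem_iff_of_norm (pow_mem k.δS r)).2 hu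
  obtain ⟨j, rfl⟩ : 5 ∣ r := by
    refine h.five_dvd k hu u1 ?_
    generalize δ ^ r = d at e hv
    have o1 : o⁻¹ ∈ core {2}ᶜ 𝐂(A) ⊔ A := mem_sup_left (inv_mem ho)
    have o2 : u * o * u⁻¹ ∈ core {2}ᶜ 𝐂(A) ⊔ A :=
      mem_sup_left ((conj_mem_iff_of_norm (h.S_norm_O hu)).2 ho)
    have m : s * (d * u * d⁻¹) * s⁻¹ * u⁻¹ ∈ A := h.OA_inf.le (mem_inf.2 ⟨by
      convert mul_mem (mul_mem o1 e) o2 using 1; group,
      mul_mem (mul_mem (mul_mem hs hv) (inv_mem hs)) (inv_mem hu)⟩)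
    convert mul_mem (inv_mem (h.comm_mem hs hv)) m using 1
    group
  exact mul_mem hm (mem_sup_left (by rw [pow_mul]; exact pow_mem k.pow j))

variable (f : Fr A S)
include f

theorem WS_normal (ha : a ∈ A) (a1 : a ≠ 1) : WW A a ⊔ S ⊴ 𝐂[a] :=
  ⟨sup_le (h.W_le ha) (h.S_le.trans (cent_le_cent1 ha)), (h.dec a ha a1).trans (sup_le
    ((le_sup_left.trans le_sup_left).trans le_normalizer)
    (by rw [WW, sup_assoc]; exact le_normalizer_sup (TIc.C_norm_T ha) f.nrm))⟩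

theorem key (ha : a ∈ A) (a1 : a ≠ 1) (hu : u ∈ S) (u1 : u ∉ A) (hg : g ∈ 𝐂[a])
    (e : g * u * g⁻¹ * u⁻¹ ∈ WW A a ⊔ A) : g ∈ WW A a ⊔ S := by
  obtain ⟨t, ht, c, hc, rfl⟩ := (h.sd ha a1).mem_iff.1 hg
  have uC := h.S_le hu
  have t1 : t⁻¹ ∈ WW A a ⊔ A := mem_sup_left (mem_sup_left (inv_mem ht))
  have t2 : u * t * u⁻¹ ∈ WW A a ⊔ A :=
    mem_sup_left (mem_sup_left ((conj_mem_iff_of_norm (TIc.C_norm_T ha uC)).2 ht))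
  have m : c * u * c⁻¹ * u⁻¹ ∈ (WW A a ⊔ A) ⊓ 𝐂(A) := mem_inf.2 ⟨by
    convert mul_mem (mul_mem t1 e) t2 using 1; group,
    mul_mem (mul_mem (mul_mem hc uC) (inv_mem hc)) (inv_mem uC)⟩
  rw [sup_inf_modular' h.sq.cent (Or.inl (h.le.trans (h.S_norm_W ha))), h.W_inf ha a1] at m
  exact mul_mem (mem_sup_left (mem_sup_left ht))
    (sup_le_sup_right (le_sup_right : _ ≤ WW A a) S (f.key u hu u1 c hc m))

end Bs

end Cfsg.Agent.Go
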