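import Cfsg.Agent.Go.BD1
import Cfsg.Agent.Go.BL2
import Cfsg.Agent.Go.E2

/-! Slice BD of notes/goldschmidt.md: the degree bound. -/

set_option autoImplicit false

namespace Cfsg.Agent.Go.BD

open Subgroup Cfsg.Agent.H1 Cfsg.Agent.L Cfsg.Agent.FT Cfsg.Agent.Sg Cfsg.Agent.R1
open scoped Pointwise commutatorElement ComplexConjugate

variable {G : Type} [Group G] [Finite G] {A S I : Subgroup G} {a g u w x δ ρ : G} {χ μ ν : G → ℂ}

local notation "𝐎" A => core {2}ᶜ 𝐂(A)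

theorem not_odd (a2 : a * a = 1) (a1 : a ≠ 1) (h : a ∈ zpowers x) : ¬ Odd (orderOf x) := fun o =>
  a1 (BL.eq_one_of_odd (by rwa [Nat.card_zpowers]) h a2)

theorem conj_zp (h : a ∈ zpowers x) : g * a * g⁻¹ ∈ zpowers (g * x * g⁻¹) :=
  conj_zpowers g x ▸ conj_mem_conj g h

variable (h : Bs A S ρ) (ha : a ∈ A) (a1 : a ≠ 1)
include h ha a1

theorem cf : Cf 𝐂[a] (TT A a) a :=
  ⟨h.T_normal ha a1, h.T_comm' ha a1, h.T_odd ha, self_mem_cent1 a, le_cent1_iff.1 le_rfl,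
    h.sq a ha, a1⟩

theorem inv_eq (hT : TT A a ≤ I) (hI : ∀ c ∈ 𝐂(A) ⊓ I, TT A a ⊓ 𝐂[c] ≠ ⊥) (hw : w ∈ 𝐂[a] ⊓ I)
    (w2 : w * w = 1) (w1 : w ≠ 1) : w = a := by
  obtain ⟨t, ht, c, hc, rfl⟩ := (h.sd ha a1).mem_iff.1 hw.1
  have c2 : c * c = 1 := (h.T_inf ha a1).le ⟨by
    have := (TT A a).inv_mem (mul_mem ht (conj_mem_of_mem_normalizer (TIc.C_norm_T ha hc) ht))
    rwa [← mul_one (_⁻¹), ← w2, show (t * (c * t * c⁻¹))⁻¹ * (t * c * (t * c)) = c * c by group]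
      at this, mul_mem hc hc⟩
  rcases BL.eq_of_fix h ha a1 (h.om c hc c2)
    (hI c ⟨hc, (I.mul_mem_cancel_left (hT ht)).1 hw.2⟩) with rfl | rfl
  · exact absurd (BL.eq_one_of_odd (h.T_odd ha) ht (by simpa using w2)) (by simpa using w1)
  · rw [BL.eq_one_of_odd (h.T_odd ha) ht (by
      rwa [mul_assoc, ← mul_assoc c, ← mem_cent1.1 (h.T_le ha ht), mul_assoc, c2, mul_one] at w2),
      one_mul]

theorem he (hμ : Irr (TT A a) μ) (μ1 : μ ≠ cf1 (TT A a)) (hx : x ∈ 𝐂[a] ⊓ inert μ)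
    (e : ¬ Odd (orderOf x)) : a ∈ zpowers x := by
  obtain ⟨w, hw, w2⟩ := exists_mem_orderOf_eq (H := zpowers x) Nat.prime_two (by
    rw [Nat.card_zpowers]; exact (Nat.not_odd_iff_even.1 e).two_dvd)
  exact inv_eq h ha a1 hμ.cf.le_inert (BL.fixT h.toTIc ha a1 hμ μ1) (zpowers_le.2 hx hw)
    (Be.sq_of_two w2) (Be.ne_one_of_two w2) ▸ hw

theorem ti : NormedTI ({x | a ∈ zpowers x} ∪ sharp (TT A a)) ⊤ 𝐂[a] := by
  have a2 := h.sq a ha
  have g2 : ∀ g : G, g * a * g⁻¹ * (g * a * g⁻¹) = 1 := fun g => by rw [conj_mul, a2]; simp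
  have g1 : ∀ g : G, g * a * g⁻¹ ≠ 1 := fun g => mt conj_eq_one_iff.1 a1
  refine ⟨⟨a, Or.inl (mem_zpowers a)⟩, le_top, fun g hg x hx => hx.imp (fun k => ?_)
    (sharp_conj_mem (h.T_normal ha a1).norm g hg x), fun g _ x hx hy =>
      mem_cent1.2 (mul_inv_eq_iff_eq_mul.1 ?_)⟩
  · show a ∈ zpowers _
    simpa only [mul_inv_eq_iff_eq_mul.2 (mem_cent1.1 hg)] using conj_zp (g := g) k
  rcases hx with hx | hx <;> rcases hy with hy | hy
  · have := eq_of_cyclic_of_card_eq (cyclic_zpowers _) (zpowers_le.2 hy) (zpowers_le.2 (conj_zp hx))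
      (by rw [Nat.card_zpowers, Nat.card_zpowers, orderOf_conj'])
    exact (Be.zpowers_cases a2 (this.ge (mem_zpowers _))).resolve_left (g1 g)
  · exact absurd (h.odd_T ha hy.1) (not_odd (g2 g) (g1 g) (conj_zp hx))
  · exact absurd (orderOf_conj' g x ▸ h.odd_T ha hx.1) (not_odd a2 a1 hy)
  have c : g * a * g⁻¹ ∈ 𝐂[g * x * g⁻¹] := conj_cent1 g x ▸ conj_mem_conj g
    (mem_cent1_comm.1 (h.T_le ha hx.1))
  exact inv_eq h ha a1 ((h.T_comm ha a1).trans (cent_le_cent1 hy.1))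
    (fun c hc e => hy.2 (e.le ⟨hy.1, mem_cent1_comm.1 hc.2⟩)) ⟨h.ti a ha a1 _ (zpowers_le.2 hy.1)
      (zpowers_ne_bot.2 hy.2) (le_norm_zpowers_of_cent le_rfl c), c⟩ (g2 g) (g1 g)

theorem der_le (sm : Sm A S) (hμ : Irr (TT A a) μ) (μ1 : μ ≠ cf1 (TT A a)) :
    ⁅𝐂[a] ⊓ inert μ, 𝐂[a] ⊓ inert μ⁆ ≤ cfker (TT A a) μ := by
  haveI := h.T_comm' ha a1
  have l := hμ.linChr_of_comm
  have e : 𝐂[a] ⊓ inert μ ≤ TT A a ⊔ 𝐂(A) ⊓ inert μ := fun x hx => by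
    obtain ⟨t, ht, c, hc, rfl⟩ := (h.sd ha a1).mem_iff.1 hx.1
    exact mul_mem (mem_sup_left ht) (mem_sup_right
      ⟨hc, ((inert μ).mul_mem_cancel_left (hμ.cf.le_inert ht)).1 hx.2⟩)
  have n1 := hμ.cf.cfker_normal.norm
  have n2 : 𝐂(A) ⊓ inert μ ≤ 𝐍(cfker (TT A a) μ) := le_norm_iff.2 fun c hc x hx =>
    conj_mem_cfker (TIc.C_norm_T ha hc.1) hc.2 hx
  have k : ⁅𝐂(A) ⊓ inert μ, TT A a⁆ ≤ cfker (TT A a) μ := commutator_le.2 fun c hc t ht =>
    l.mem_cfker.2 (by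
      rw [commutatorElement_def, l.map_mul (conj_mem_of_mem_normalizer (TIc.C_norm_T ha hc.1) ht)
        (inv_mem ht), hc.2, ← l.map_mul ht (inv_mem ht), mul_inv_cancel, l.2])
  exact (commutator_mono e e).trans (B9.comm_sup_left_le n1 n2 (B9.comm_sup_right_le n1 n2
    l.der1_le_cfker (B9.comm_le_symm k)) (B9.comm_sup_right_le n1 n2 k
      ((comm_eq_bot_iff.2 (le_cent_self (sm.ab a ha a1 μ l μ1))).trans_le bot_le)))

theorem mult (hc : Cst (TT A a) a χ) (hμ : Irr (TT A a) μ) (μ1 : μ ≠ cf1 (TT A a)) {L : Subgroup G}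
    (h1 : TT A a ≤ L) (h2 : L ≤ 𝐂[a] ⊓ inert μ) (h3 : ∀ x ∈ L, x ^ 2 ^ 2 ∈ TT A a) (hν : LinChr L ν)
    (e : res (TT A a) ν = μ) :
    dot (TT A a) χ μ = (TT A a).relIndex L * dot L χ ν := by
  rw [← e, dot_res_right]
  exact mult_eq h1 hν (e ▸ μ1) fun x hx k => hc x (he h ha a1 hμ μ1 (h2 hx) fun o => k
    (B9.mem_of_pow_mem_coprime (h3 x hx) (Nat.Coprime.pow_left 2 (Nat.coprime_two_left.2 o))))

theorem mult_const (sm : Sm A S) (hχ : Irr ⊤ χ) (hc : Cst (TT A a) a χ) (hμ : Irr (TT A a) μ)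
    (μ1 : μ ≠ cf1 (TT A a)) (hν : Irr (TT A a) ν) (ν1 : ν ≠ cf1 (TT A a)) :
    dot (TT A a) χ μ = dot (TT A a) χ ν := by
  have c := cf h ha a1
  by_cases j : ν ∈ cfclass 𝐂[a] (TT A a) μ
  · exact (dot_res_of_mem_cfclass c.nT.norm (le_top.trans hχ.cf.le_inert) j).symm
  obtain ⟨B, f, g, e, p, q⟩ := c.fam hμ μ1 (der_le h ha a1 sm hμ μ1) (fun x => he h ha a1 hμ μ1)
    (D := {x | a ∈ zpowers x} ∪ sharp (TT A a)) (fun x => Or.inl) hχ.cf hc
  obtain ⟨B', f', g', e', p', q'⟩ := c.fam hν ν1 (der_le h ha a1 sm hν ν1)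
    (fun x => he h ha a1 hν ν1)
    (D := {x | a ∈ zpowers x} ∪ sharp (TT A a)) (fun x => Or.inl) hχ.cf hc
  have KH : TT A a ⊔ zpowers a ≤ 𝐂[a] := sup_le c.nT.le (zpowers_le.2 c.aH)
  have K2 : ∀ x ∈ TT A a ⊔ zpowers a, x ∈ TT A a ∨ ∃ t ∈ TT A a, x = t * a := fun x hx => by
    obtain ⟨t, ht, y, hy, rfl⟩ := c.dp.mem_iff.1 hx
    rcases Be.zpowers_cases c.a2 hy with rfl | rfl
    exacts [Or.inl (by simpa using ht), Or.inr ⟨t, ht, rfl⟩]
  have cm : ∀ t ∈ TT A a, Commute t a := fun t ht => mem_cent1.1 (c.nT.le ht)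
  have es : ∑ i ∈ B.disjSum B', Sum.elim (fun _ => (1 : ℂ)) (fun _ => -1) i • Sum.elim f f' i =
      ind 𝐂[a] (TT A a ⊔ zpowers a) (c.hat μ - c.hat ν) := by
    rw [map_sub, e, e', Finset.sum_disjSum]; simp [sub_eq_add_neg]
  have cf := (c.hat_lin hμ).1.cf.sub (c.hat_lin hν).1.cf
  have pp : ∀ i ∈ B.disjSum B', (Irr 𝐂[a] (Sum.elim f f' i) ∧ Irr 𝐂[a] (Sum.elim g g' i)) ∧
      (Sum.elim f f' i a = Sum.elim f f' i 1 ∧ Sum.elim g g' i a = - Sum.elim g g' i 1) ∧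
      CFOn 𝐂[a] ({x | a ∈ zpowers x} ∪ sharp (TT A a)) (Sum.elim f f' i - Sum.elim g g' i) ∧
      dot 𝐂[a] (Sum.elim f f' i - Sum.elim g g' i) χ = 0 := by
    rintro (i | i) hi
    · exact ⟨(p i (Finset.inl_mem_disjSum.1 hi)).1, (p i (Finset.inl_mem_disjSum.1 hi)).2.2⟩
    · exact ⟨(p' i (Finset.inr_mem_disjSum.1 hi)).1, (p' i (Finset.inr_mem_disjSum.1 hi)).2.2⟩
  have cr : ∀ i ∈ B, ∀ k ∈ B', f i ≠ f' k ∧ g i ≠ g' k := fun i hi k hk =>
    ⟨fun e => j ((p i hi).1.1.mem_cfclass_of_under c.nT hμ hν (p i hi).2.1.1 (e ▸ (p' k hk).2.1.1)),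
      fun e => j ((p i hi).1.2.mem_cfclass_of_under c.nT hμ hν (p i hi).2.1.2
        (e ▸ (p' k hk).2.1.2))⟩
  have z := theta (ti h ha a1) (fun k => k.elim (fun k => a1 (by simpa using k)) fun k => k.2 rfl)
    (B.disjSum B') (Sum.elim f f') (Sum.elim g g') (Sum.elim (fun _ => 1) fun _ => -1)
    (by rintro (i | i) <;> simp) (fun i hi => (pp i hi).1) ?_ (fun i hi k hk e => ?_) ?_
    (fun i hi => (pp i hi).2.2.1) hχ fun i hi => (pp i hi).2.2.2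
  · rw [es, dot_ind_left KH cf.zero (le_top.trans hχ.cf.le_inert), dot_sub_left, sub_eq_zero] at z
    have m : ∀ {μ}, Irr (TT A a) μ → μ ≠ cf1 (TT A a) → dot (TT A a) χ μ =
        (TT A a).relIndex (TT A a ⊔ zpowers a) * conj (dot (TT A a ⊔ zpowers a) (c.hat μ) χ) :=
      fun hμ μ1 => by
        rw [conj_dot]
        refine mult h ha a1 hc hμ μ1 le_sup_left (le_inf KH (sup_le hμ.cf.le_inert
          (zpowers_le.2 fun x => ?_))) (fun x hx => ?_) (c.hat_lin hμ)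
          (ext_on (fun x => res_apply_of_notMem _) hμ.1 fun t ht => by
            rw [res_apply_of_mem _ ht, c.hat_T ht])
        · by_cases hx : x ∈ TT A a
          · rw [← (cm x hx).eq, mul_inv_cancel_right]
          · rw [hμ.1 x hx, hμ.1 _ (mt (c.nT.conj_mem_iff c.aH).1 hx)]
        · rcases K2 x hx with k | ⟨t, ht, rfl⟩
          · exact pow_mem k _
          · rw [(cm t ht).mul_pow, show a ^ 2 ^ 2 = a * a * (a * a) by simp [pow_succ, mul_assoc], c.a2, mul_one, mul_one]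
            exact pow_mem ht _
    rw [m hμ μ1, m hν ν1, z]
  · rintro (i | i) hi (k | k) hk n <;>
      simp only [Finset.inl_mem_disjSum, Finset.inr_mem_disjSum] at hi hk
    · exact q i hi k hk fun e => n (congrArg _ e)
    · exact cr i hi k hk
    · exact (cr k hk i hi).imp Ne.symm Ne.symm
    · exact q' i hi k hk fun e => n (congrArg _ e)
  · have h1 := (pp k hk).2.1.2
    rw [← e, (pp i hi).2.1.1] at h1
    exact (pp i hi).1.1.apply_one_ne_zero (self_eq_neg.1 h1)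
  · rw [es]
    refine CFOn.ind_of_invariant ⟨cf, fun x hx => ?_⟩ KH (ti h ha a1).conj_mem
    by_cases k : x ∈ TT A a ⊔ zpowers a
    swap
    · exact cf.zero x k
    rcases K2 x k with k | ⟨t, ht, rfl⟩
    · obtain rfl : x = 1 := by_contra fun n => hx (Or.inr ⟨k, n⟩)
      simp [(c.hat_lin hμ).2, (c.hat_lin hν).2]
    · refine absurd (Or.inl ⟨orderOf t, ?_⟩) hx
      simp only [zpow_natCast]
      rw [(cm t ht).mul_pow, pow_orderOf_eq_one, one_mul, BL.pow_odd c.a2 (h.odd_T ha ht)]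

theorem dvd_64 (hχ : Chr ⊤ χ) (hc : Cst (TT A a) a χ) {d : ℕ}
    (hd : χ 1 - dot (TT A a) χ (cf1 (TT A a)) = d) : 64 ∣ d := by
  have := Fintype.ofFinite S
  have := Fintype.ofFinite (TT A a)
  have n := h.S_le.trans (TIc.C_norm_T ha)
  have sd := SDProd.mk_sup n (inf_eq_bot_of_two h.two (h.T_odd ha))
  obtain ⟨m, hm⟩ := (chr_cf1 ⊤).vchr.exists_int_dot_res (hχ.res (le_top (a := S))).vchr le_top
  obtain ⟨k, hk⟩ := (chr_cf1 ⊤).vchr.exists_int_dot_res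
    (hχ.res (le_top (a := TT A a ⊔ S))).vchr le_top
  rw [dot_res_right, ← dot_res_left, res_cf1 le_top] at hm hk
  rw [← cfSd_cf1 sd, dot_cfSd_left] at hk
  have z : dot S (cf1 S) (χ - cosAv (TT A a) χ) = (m - k : ℤ) := by
    rw [dot_sub_right, hm, hk, Int.cast_sub]
  rw [dot_eq_sum, Finset.sum_eq_single 1 (fun s _ s1 => ?_) (by simp), h.cardS, Pi.sub_apply,
    cosAv_eq, inv_mul_eq_iff_eq_mul₀ (by norm_num)] at z
  · simp only [OneMemClass.coe_one, mul_one, cf1_one, one_mul] at z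
    rw [← dot_cf1_right, hd, Complex.conj_natCast] at z
    exact Int.natCast_dvd_natCast.1 ⟨m - k, by exact_mod_cast z⟩
  rw [Pi.sub_apply, cosAv_of_const (c := χ s) fun t ht => ?_, sub_self, map_zero, mul_zero]
  by_cases j : a ∈ zpowers (s : G)
  · rw [hχ.cf.mul_comm (mem_top t), hc s j t ht]
  obtain ⟨w, hw, w2⟩ := exists_mem_orderOf_eq Nat.prime_two (pgroup_dvd_card Nat.prime_two
    (h.two.to_le (zpowers_le.2 s.2)) (zpowers_ne_bot.2 fun e => s1 (Subtype.ext e)))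
  obtain ⟨y, -, e⟩ := exists_conj_of_reg (n s.2) (eq_bot_iff.2 ((inf_le_inf_left _
    (cent_zpowers (s : G) ▸ cent_le_cent1 hw)).trans (h.T_inf1 ha ((h.mem_iff
      (zpowers_le.2 s.2 hw)).2 (Be.sq_of_two w2)) a1 (Be.ne_one_of_two w2)
        fun e => j (e ▸ hw)).le)) ht
  rw [e, hχ.cf.conj_eq y (mem_top y)]

theorem exists_mu (hu : u ∈ S) (u1 : u ∉ A) (u2 : u * u = a) :
    ∃ μ, Irr (TT A a) μ ∧ μ ≠ cf1 (TT A a) ∧ u ∈ inert μ := by
  obtain ⟨b, hb, b1, ba⟩ := exists_third h.card.ge a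
  have n := h.S_le.trans (TIc.C_norm_T ha)
  have ab := h.T_comm ha a1
  obtain ⟨μ, hμ, m1, m2⟩ := exists_lin_not_le_cfker (K := TT A a) (N := TT A a ⊓ 𝐂[u * b])
    (NormalIn.of_le_cent inf_le_left (inf_le_left.trans ab)) fun k => by
      rw [comm_eq_bot_iff.2 ab, bot_sup_eq, le_inf_iff, le_cent1_iff] at k
      obtain ⟨s, hs, e⟩ := h.conj_mul hu u1 hb
      have : u ∈ 𝐂(TT A a) :=
        (conj_mem_iff_of_norm (norm_le_norm_cent _ (n hs))).1 (e ▸ k.2)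
      exact EA.T_ne h.toTIc ha a1 (h.T_inf1 ha hb a1 b1 ba ▸ (inf_eq_left.2 (le_cent1_iff.2
        (((𝐂(TT A a)).mul_mem_cancel_left this).1 k.2))).symm)
  refine ⟨μ, hμ.irr, fun e => m2 (hμ.irr.le_cfker_iff_eq_cf1.2 e), fun t => ?_⟩
  by_cases ht : t ∈ TT A a
  swap
  · rw [hμ.1.1 t ht, hμ.1.1 _ (mt (conj_mem_iff_of_norm (n hu)).1 ht)]
  have h1 := conj_mem_of_mem_normalizer (n hu) ht
  have h2 := mul_mem h1 (inv_mem ht)
  rw [← inv_mul_cancel_right (u * t * u⁻¹) t]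
  refine apply_mul_of_mem_cfker (m1 ⟨h2, mem_cent1.2 (mul_inv_eq_iff_eq_mul.1 ?_).symm⟩) t
  calc _ = u * (b * (u * t * u⁻¹ * t⁻¹) * b⁻¹) * u⁻¹ := by group
    _ = u * t * u⁻¹ * (u * u * t⁻¹ * (u * u)⁻¹) := by rw [h.inv a ha b hb a1 b1 ba _ h2]; group
    _ = _ := by rw [u2, ← mem_cent1.1 (h.T_le ha (inv_mem ht)), mul_inv_cancel_right]

theorem four_dvd (hχ : Chr ⊤ χ) (hc : Cst (TT A a) a χ) (hu : u ∈ S) (u1 : u ∉ A) (u2 : u * u = a)
    (hμ : Irr (TT A a) μ) (μ1 : μ ≠ cf1 (TT A a)) (hi : u ∈ inert μ) :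
    ∃ m : ℕ, dot (TT A a) χ μ = 4 * m := by
  haveI := h.T_comm' ha a1
  have n := zpowers_le.2 (TIc.C_norm_T ha (h.S_le hu))
  have sd := SDProd.mk_sup n (inf_eq_bot_of_two (h.two.to_le (zpowers_le.2 hu)) (h.T_odd ha))
  have i := sup_le hμ.cf.le_inert (zpowers_le.2 hi)
  obtain ⟨ν, hν, e⟩ := hμ.exists_extension_of_cycMod sd.normal i (sd.cycMod (cyclic_zpowers u))
  obtain ⟨m, hm⟩ := hχ.exists_nat_dot_res hν.chr le_top
  have r : (TT A a).relIndex (TT A a ⊔ zpowers u) = 2 ^ 2 := by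
    rw [sd.relIndex_left, Nat.card_zpowers]
    exact orderOf_eq_prime_pow (p := 2) (n := 1) (by rwa [pow_one, pow_two, u2])
      (by rw [show u ^ 2 ^ (1 + 1) = u * u * (u * u) by simp [pow_succ, mul_assoc], u2, h.sq a ha])
  refine ⟨m, ?_⟩
  rw [mult h ha a1 hc hμ μ1 le_sup_left (le_inf (sup_le (h.T_le ha)
    (zpowers_le.2 (cent_le_cent1 ha (h.S_le hu)))) i)
    (fun x hx => r ▸ B9.pow_relIndex_mem sd.normal.norm hx)
    (hν.linChr (by rw [← res_one (TT A a) ν, e, hμ.apply_one_of_comm])) e, r, hm]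
  norm_num

theorem orbit_ge (k : K5 A S δ) (sm : Sm A S) (hu : u ∈ S) (u1 : u ∉ A) (u2 : u * u = a)
    (hμ : Irr (TT A a) μ) (μ1 : μ ≠ cf1 (TT A a)) (hi : u ∈ inert μ) :
    80 ≤ (inert μ).relIndex 𝐂(A) := by
  haveI := h.T_comm' ha a1
  have hA : ∀ x ∈ S ⊓ inert μ, x ∈ A → x = 1 ∨ x = a := fun x hx xA =>
    BL.eq_of_fix h ha a1 xA (BL.fixT h.toTIc ha a1 hμ μ1 x ⟨h.sq.cent xA, hx.2⟩)
  have hA' : ∀ x ∈ S ⊓ inert μ, x ∈ A → x ∈ zpowers u := fun x hx xA =>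
    (hA x hx xA).elim (fun e => e ▸ one_mem _) fun e => by
      rw [e, ← u2]; exact mul_mem (mem_zpowers u) (mem_zpowers u)
  have l : 𝐂(A) ⊓ inert μ ≤ (𝐎 A) ⊔ zpowers u := fun c hc => by
    obtain ⟨o, ho, s, hs, rfl⟩ := (H1.mem_sup_of_le_normalizer' h.S_norm_O).1
      ((h.fr5 k).key u hu u1 c hc.1 (by
        rw [← mem_cent.1 (le_cent_self (sm.ab a ha a1 μ hμ.linChr_of_comm μ1) hc) u
          ⟨h.S_le hu, hi⟩]; simp))
    have sI : s ∈ S ⊓ inert μ := ⟨hs, B9.mem_of_pow_mem_coprime (n := orderOf o) (by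
      have := (inert μ).pow_mem hc.2 (orderOf o)
      rwa [(show Commute o s from (mem_cent.1 (sm.cen ho) s hs).symm).mul_pow,
        pow_orderOf_eq_one, one_mul] at this) (((cop_two h.two (odd_core _)).symm.coprime_dvd_left
        (orderOf_dvd_natCard _ ho)).coprime_dvd_right (orderOf_dvd_natCard _ hs))⟩
    refine mul_mem (mem_sup_left ho) (mem_sup_right ?_)
    by_cases s1 : s ∈ A
    · exact hA' s sI s1
    · exact ((zpowers u).mul_mem_cancel_left (mem_zpowers u)).1 (hA' _ (mul_mem ⟨hu, hi⟩ sI)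
        (BL.coset h inf_le_left hA ⟨hu, hi⟩ sI u1 s1))
  have h1 := (card_le_of_le' l).trans (Nat.le_of_dvd (Nat.mul_pos Nat.card_pos (by norm_num))
    (B9.card_sup_zpowers_dvd (h.S_norm_O hu) (n := 4) (by
      rw [show u ^ 4 = u * u * (u * u) by simp [pow_succ, mul_assoc], u2, h.sq a ha]; exact one_mem _)))
  have h2 := card_mul_relIndex_of_le (inf_le_left : 𝐂(A) ⊓ inert μ ≤ _)
  have h3 := card_sup_of_disjoint h.S_norm_O (disjoint_of_coprime_natCard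
    (cop_two h.two (odd_core _)))
  have h4 := B9.card_sup_zpowers (by norm_num : Nat.Prime 5) ((h.fr5 k).nrm k.δA) (fun e => by
    obtain ⟨o, ho, s, hs, e⟩ := (H1.mem_sup_of_le_normalizer' h.S_norm_O).1 e
    have := h.five_dvd k hu u1 (r := 1) (by
      have c := mem_cent.1 (sm.cen ho) _ (mul_mem (mul_mem hs hu) (inv_mem hs))
      rw [pow_one, ← e, show o * s * u * (o * s)⁻¹ = o * (s * u * s⁻¹) * o⁻¹ by group, ← c,
        mul_inv_cancel_right]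
      exact h.comm_mem hs hu)
    omega) (mem_sup_left k.pow)
  have h5 := card_le_of_le' (sup_le (sup_le (core_le {2}ᶜ _) h.S_le) (zpowers_le.2 k.δA))
  have h6 := Nat.card_pos (α := 𝐎 A)
  rw [sup_comm, h.cardS] at h3
  rw [inf_relIndex_left] at h2
  by_contra! n
  have := Nat.mul_le_mul h1 (Nat.le_of_lt_succ n)
  omega

omit h ha a1 in
instance instBD : BD where
  main := fun {G _ _ _ A S ρ a χ} h ha a1 hχ χ1 hc => by
    classical
    haveI := h.T_comm' ha a1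
    obtain ⟨n, hn, e⟩ := (hχ.chr.res (le_top (a := TT A a))).exists_eq_sum_nat
    simp only [dot_res_left] at hn
    set X := (irrs (TT A a)).erase (cf1 (TT A a))
    have ir : ∀ θ ∈ X, Irr (TT A a) θ := fun θ k => mem_irrs.1 (Finset.mem_of_mem_erase k)
    have e0 : ∀ t ∈ TT A a, χ t = ∑ μ ∈ X, n μ * μ t + n (cf1 (TT A a)) := fun t ht => by
      have := congrFun e t
      rw [res_apply_of_mem _ ht, Finset.sum_apply,
        ← Finset.sum_erase_add _ _ (cf1_mem_irrs (TT A a))] at this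
      simpa [ht] using this
    have e1 : χ 1 = (∑ μ ∈ X, n μ : ℕ) + n (cf1 (TT A a)) := by
      rw [e0 1 (one_mem _), Nat.cast_sum]
      exact congrArg (· + _) (Finset.sum_congr rfl fun μ k => by
        rw [(ir μ k).apply_one_of_comm, mul_one])
    have hd : χ 1 - dot (TT A a) χ (cf1 (TT A a)) = (∑ μ ∈ X, n μ : ℕ) := by
      rw [e1, hn _ (irr_cf1 _), add_sub_cancel_right]
    have le : ∀ k : ℕ, k ≤ ∑ μ ∈ X, n μ → (k : ℝ) ≤ (χ 1).re := fun k hk => by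
      rw [e1, ← Nat.cast_add, Complex.natCast_re, Nat.cast_le]; omega
    obtain ⟨ν, hν, n0⟩ : ∃ ν ∈ X, n ν ≠ 0 := by
      by_contra! k
      have := (hχ.chr.le_cfker_iff (N := TT A a) le_top).2 fun t ht => by
        rw [e0 t ht, e0 1 (one_mem _), Finset.sum_eq_zero fun μ j => by simp [k μ j],
          Finset.sum_eq_zero fun μ j => by simp [k μ j]]
      rcases (NormalIn.top_iff.1 hχ.cf.cfker_normal).eq_bot_or_eq_top with j | j
      · exact EA.T_ne h.toTIc ha a1 (eq_bot_iff.2 (j ▸ this))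
      · exact χ1 (hχ.le_cfker_iff_eq_cf1.1 j.ge)
    have d0 : 0 < ∑ μ ∈ X, n μ := (Nat.pos_of_ne_zero n0).trans_le
      (Finset.single_le_sum (fun _ _ => Nat.zero_le _) hν)
    have d1 := dvd_64 h ha a1 hχ.chr hc hd
    refine ⟨le 64 (Nat.le_of_dvd d0 d1), fun δ k => le 320 (by_contra fun j => ?_)⟩
    have sm := BL.main h k ha a1 hχ.chr hc _ hd (by omega) (by omega)
    obtain ⟨u, hu, u1, u2⟩ := h.exists_sq ha a1
    obtain ⟨μ, hμ, μ1, hi⟩ := exists_mu h ha a1 hu u1 u2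
    obtain ⟨m, hm⟩ := four_dvd h ha a1 hχ.chr hc hu u1 u2 hμ μ1 hi
    have h1 := mult_const h ha a1 sm hχ hc hμ μ1 (ir ν hν) (Finset.mem_erase.1 hν).1
    have h2 := orbit_ge h ha a1 k sm hu u1 u2 hμ μ1 hi
    have h3 : ∑ φ ∈ cfclass 𝐂(A) (TT A a) μ, n φ ≤ ∑ μ ∈ X, n μ :=
      Finset.sum_le_sum_of_subset fun φ k => Finset.mem_erase.2 ⟨fun j => by
        obtain ⟨-, g, hg, l⟩ := mem_cfclass'.1 (mem_cfclass_symm hμ k)
        exact μ1 (by rw [l, j, cfJ_cf1 (TIc.C_norm_T ha hg)]), mem_irrs.2 (irr_of_mem_cfclass k)⟩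
    rw [Finset.sum_congr rfl (g := fun _ => n μ) fun φ k => by
      have := dot_res_of_mem_cfclass (TIc.C_norm_T ha) (le_top.trans hχ.cf.le_inert) k
      rw [hn _ (irr_of_mem_cfclass k), hn _ hμ] at this
      exact_mod_cast this, Finset.sum_const, card_cfclass_eq (TIc.C_norm_T ha) hμ, smul_eq_mul] at h3
    rw [hn _ hμ] at hm h1
    rw [hn _ (ir ν hν), Nat.cast_inj] at h1
    have hm' : n μ = 4 * m := by exact_mod_cast hm
    have := Nat.mul_le_mul h2 (show 4 ≤ n μ by omega)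
    omega

end Cfsg.Agent.Go.BD
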