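import Cfsg.Agent.Go.Loc
import Cfsg.Agent.Go.E1
import Cfsg.Agent.H6.Rank2
import Cfsg.Agent.S0949
import Cfsg.Agent.Be.P1M

/-! Goldschmidt, rank two endgame: the slice `BS`. -/

set_option autoImplicit false
set_option linter.unusedSectionVars false

namespace Cfsg.Agent.Go.BS

open Subgroup Cfsg Cfsg.Agent.H1 Cfsg.Agent.L Cfsg.Agent.FT Cfsg.Agent.Sg Cfsg.Agent.R1
  Cfsg.Agent.H6
open scoped Pointwise commutatorElement

theorem u_aux : ∀ a b c d a' b' c' d' a'' b'' c'' d'' : ZMod 2, ¬ (a = 0 ∧ b = 0 ∧ c = 0 ∧ d = 0) →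
    (a' * d + b' * c + b' * d = a * d' + b * c' + b * d' ∧ a' * c + b' * d = a * c' + b * d') →
    (a'' * d + b'' * c + b'' * d = a * d'' + b * c'' + b * d'' ∧ a'' * c + b'' * d = a * c'' + b * d'') →
    (a'' * d' + b'' * c' + b'' * d' = a' * d'' + b' * c'' + b' * d'' ∧
      a'' * c' + b'' * d' = a' * c'' + b' * d'') := by
  decide +kernel

theorem u_comm_iff : ∀ x y : U64, x * y = y * x ↔ (y.a * x.d + y.b * x.c + y.b * x.d =
    x.a * y.d + x.b * y.c + x.b * y.d ∧ y.a * x.c + y.b * x.d = x.a * y.c + x.b * y.d) := by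
  decide +kernel

theorem u_cent_ab (u v w : U64) (h : u * u ≠ 1) (h1 : u * v = v * u) (h2 : u * w = w * u) :
    v * w = w * v := by
  rw [u_comm_iff] at *
  exact u_aux _ _ _ _ _ _ _ _ _ _ _ _ (mt (U64.sq_iff u).2 h) h1 h2

variable {G : Type*} [Group G] {A S N H : Subgroup G} {g h u v w x y ρ : G}

theorem mem_of_coprime_pow {p k : ℕ} (hc : p.Coprime k) (h1 : h ^ p ∈ N) (h2 : h ^ k ∈ N) : h ∈ N := by
  obtain ⟨a, b, e⟩ := Nat.isCoprime_iff_coprime.2 hc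
  have := mul_mem (zpow_mem h1 a) (zpow_mem h2 b)
  rwa [← zpow_natCast, ← zpow_natCast, ← zpow_mul, ← zpow_mul, ← zpow_add, mul_comm, mul_comm (k : ℤ),
    e, zpow_one] at this

theorem pow_four (e : S ≃* U64) (hx : x ∈ S) : x * x * (x * x) = 1 :=
  congrArg Subtype.val (e.injective (a₁ := ⟨x, hx⟩ * ⟨x, hx⟩ * (⟨x, hx⟩ * ⟨x, hx⟩)) (a₂ := 1)
    (by simp only [map_mul, map_one, U64.pow_four]))

theorem comm_sq (e : S ≃* U64) (hx : x ∈ S) (hy : y ∈ S) :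
    (x * y * x⁻¹ * y⁻¹) * (x * y * x⁻¹ * y⁻¹) = 1 :=
  congrArg Subtype.val (e.injective (a₁ := (⟨x, hx⟩ * ⟨y, hy⟩ * (⟨x, hx⟩ : S)⁻¹ * (⟨y, hy⟩ : S)⁻¹) *
    (⟨x, hx⟩ * ⟨y, hy⟩ * (⟨x, hx⟩ : S)⁻¹ * (⟨y, hy⟩ : S)⁻¹)) (a₂ := 1)
    (by simp only [map_mul, map_inv, map_one, U64.comm_sq]))

theorem no_quat (e : S ≃* U64) (hx : x ∈ S) (hy : y ∈ S) (h1 : x * x = y * y)
    (h2 : x * y * (x * y) = x * x) : x * x = 1 :=
  congrArg Subtype.val (e.injective (a₁ := ⟨x, hx⟩ * ⟨x, hx⟩) (a₂ := 1) (by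
    rw [map_mul, map_one]
    refine U64.no_quat _ (e ⟨y, hy⟩) ?_ ?_ <;> simp only [← map_mul] <;>
      exact congrArg e (Subtype.ext (by assumption))))

theorem cent_ab (e : S ≃* U64) (hu : u ∈ S) (hv : v ∈ S) (hw : w ∈ S) (h : u * u ≠ 1)
    (h1 : u * v = v * u) (h2 : u * w = w * u) : v * w = w * v :=
  congrArg Subtype.val (e.injective (a₁ := ⟨v, hv⟩ * ⟨w, hw⟩) (a₂ := ⟨w, hw⟩ * ⟨v, hv⟩) (by
    rw [map_mul, map_mul]
    refine u_cent_ab (e ⟨u, hu⟩) _ _ (fun e' => h ?_) ?_ ?_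
    · rw [← map_mul, MulEquiv.map_eq_one_iff] at e'
      exact congrArg Subtype.val e'
    all_goals simp only [← map_mul]; exact congrArg e (Subtype.ext (by assumption))))

variable [Finite G]

theorem exists_ppart {p : ℕ} (hp : p.Prime) (h1 : h ^ p ∈ N) (h2 : h ∉ N) :
    ∃ k j, (h ^ k) ^ p ^ j = 1 ∧ h ^ k ∉ N := by
  have o := (orderOf_pos h).ne'
  refine ⟨ordCompl[p] (orderOf h), (orderOf h).factorization p, ?_, fun m =>
    h2 (mem_of_coprime_pow (Nat.coprime_ordCompl hp o) h1 m)⟩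
  rw [← pow_mul, mul_comm, Nat.ordProj_mul_ordCompl_eq_self, pow_orderOf_eq_one]

theorem dvd_ncard_cls {O : Set G} {n : ℕ} (h1 : ∀ g ∈ H, ∀ x ∈ O, g * x * g⁻¹ ∈ O)
    (h2 : ∀ x ∈ O, n ∣ (𝐂[x]).relIndex H) : n ∣ O.ncard := by
  refine Be.P1.dvd_ncard (Ω := Be.P1.Cj G) (U := H) _ rfl O.toFinite h1 fun x hx => ?_
  rw [Be.P1.ncard_orb]
  convert h2 x hx
  exact Subgroup.ext fun g => (mul_inv_eq_iff_eq_mul (G := G)).trans (mem_cent1 (G := G) (x := x)).symm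

/-- an odd order element centralising `A` and an element of `S` outside `A` centralises `S` -/
theorem cent_of_fix (e : S ≃* U64) (p2 : IsPGroup 2 S) (hS : S ≤ 𝐂(A))
    (om : ∀ u ∈ 𝐂(A), u * u = 1 → u ∈ A) (ho : Odd (orderOf g)) (h1 : g ∈ 𝐂(A)) (h2 : g ∈ 𝐍(S))
    (hu : u ∈ S) (u1 : u ∉ A) (h3 : g ∈ 𝐂[u]) : g ∈ 𝐂(S) := by
  have c : ∀ P ≤ S, (#|P|).Coprime #|zpowers g| := fun P hP => cop_two (p2.to_le hP)
    (by rwa [Nat.card_zpowers])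
  have cj : ∀ s ∈ S, g * s * g⁻¹ ∈ S := fun s hs => (mem_normalizer_iff.1 h2 s).1 hs
  have fx : ∀ a ∈ A, g * a * g⁻¹ = a := fun a ha => by rw [← mem_cent.1 h1 a ha, mul_inv_cancel_right]
  have gu : g * u * g⁻¹ = u := by rw [mem_cent1.1 h3, mul_inv_cancel_right]
  have k : ∀ P Q : Subgroup G, P ≤ S → g ∈ 𝐍(P) → g ∈ 𝐂(Q) → (∀ s ∈ P, s * (g * s⁻¹ * g⁻¹) ∈ Q) →
      g ∈ 𝐂(P) := fun P Q hP n hQ m => by
    refine B1.le_cent_of_comm_le_cent (zpowers_le.2 n) (c P hP) ?_ (mem_zpowers g)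
    refine (le_centMod_iff.1 (zpowers_le.2 (mem_centMod.2 ⟨⟨n, cent_le_norm _ ?_⟩, fun s hs => ?_⟩))).2.2
    · exact le_cent_symm (le_refl 𝐂(zpowers g)) (mem_zpowers g)
    · refine le_cent_symm (zpowers_le.2 hQ) ?_
      simpa only [commutatorElement_def, mul_assoc] using m s hs
  refine k S (S ⊓ 𝐂[u]) le_rfl h2 (k _ A inf_le_left (le_normalizer_inf (zpowers_le.2 h2)
    ((zpowers_le.2 h3).trans le_normalizer) (mem_zpowers g)) h1 fun s hs => ?_) fun s hs => ?_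
  · have m := cj _ (inv_mem hs.1)
    have m' : u * (g * s⁻¹ * g⁻¹) = g * s⁻¹ * g⁻¹ * u :=
      (mem_cent1.1 (mul_mem (mul_mem h3 (inv_mem hs.2)) (inv_mem h3))).symm
    have e1 := cent_ab e hu hs.1 m (fun e' => u1 (om u (hS hu) e')) (mem_cent1.1 hs.2).symm m'
    have e2 := fx _ (inv_mem (om _ (hS (mul_mem hs.1 hs.1)) (pow_four e hs.1)))
    refine om _ (hS (mul_mem hs.1 m)) ?_
    calc _ = s * (g * s⁻¹ * g⁻¹ * s) * (g * s⁻¹ * g⁻¹) := by group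
      _ = s * s * (g * (s * s)⁻¹ * g⁻¹) := by rw [← e1]; group
      _ = 1 := by rw [e2, mul_inv_cancel]
  · refine ⟨mul_mem hs (cj _ (inv_mem hs)), mem_cent1.2 ?_⟩
    have e1 := fx _ (om _ (hS (mul_mem (mul_mem (mul_mem (inv_mem hs) hu) (inv_mem (inv_mem hs)))
      (inv_mem hu))) (comm_sq e (inv_mem hs) hu))
    calc s * (g * s⁻¹ * g⁻¹) * u = s * (g * s⁻¹ * g⁻¹) * (g * u * g⁻¹) := by rw [gu]
      _ = s * (g * (s⁻¹ * u * s⁻¹⁻¹ * u⁻¹) * g⁻¹) * (g * u * g⁻¹) * (g * s⁻¹ * g⁻¹) := by group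
      _ = _ := by rw [e1, gu]; group

theorem exists_rho (h : TIc A) (hS : L.IsSylowIn 2 S ⊤) (h2 : S ≤ 𝐂(A)) :
    ∃ ρ ∈ 𝐍(A) ⊓ 𝐍(S), ρ ∉ 𝐂(A) ∧ ∃ j, ρ ^ 3 ^ j = 1 := by
  obtain ⟨a, ha, a1, -⟩ := exists_third h.card.ge 1
  obtain ⟨b, hb, b1, ba⟩ := exists_third h.card.ge a
  obtain ⟨n, hn, e⟩ := h.tr a ha b hb a1 b1
  obtain ⟨c, hc, m, hm, rfl⟩ := (sylow_frattini Nat.prime_two (hS.of_le h2 le_top)
    (NormalIn.cent_norm A)).2.2 n hn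
  have m1 : m ∉ 𝐂(A) := fun m' => ba (by rw [← e, ← mem_cent.1 (mul_mem hc m') a ha, mul_inv_cancel_right])
  have m3 : m ^ 3 ∈ 𝐂(A) := by
    haveI := (NormalIn.cent_norm A).normal_subgroupOf
    have hb := (mem_normalizer_iff.1 hm.1 a).1 ha
    have b1 : m * a * m⁻¹ ≠ 1 := by simpa using a1
    have ab : a ≠ m * a * m⁻¹ := fun e => m1 (mem_cent_of_fix h.sq h.card h.idx hm.1 ha a1 e.symm)
    refine mem_cent_of_fix h.sq h.card h.idx (pow_mem hm.1 3) ha a1 ?_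
    have e3 : m ^ 3 * a * (m ^ 3)⁻¹ = m * (m * (m * a * m⁻¹) * m⁻¹) * m⁻¹ := by
      rw [pow_succ, pow_two]; group
    rcases four_cases h.sq h.card ha hb a1 b1 ab ((mem_normalizer_iff.1 hm.1 _).1 hb) with h' | h' | h' | h'
    · exact absurd (by simpa using h') a1
    · exact absurd (mem_cent_of_sq h.idx hm.1 (mem_cent_of_fix h.sq h.card h.idx (mul_mem hm.1 hm.1)
        ha a1 (Eq.trans (by group) h'))) m1
    · exact absurd (mem_cent_of_fix h.sq h.card h.idx hm.1 hb b1 h') m1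
    · rw [e3, h', ← conj_mul, h', ← mul_assoc, mem_cent.1 (h.sq.cent ha) _ hb, mul_assoc, h.sq _ hb, mul_one]
  obtain ⟨k, j, e1, e2⟩ := exists_ppart Nat.prime_three m3 m1
  exact ⟨m ^ k, pow_mem hm k, e2, j, e1⟩

theorem tri (h : TIc A) (om : ∀ u ∈ 𝐂(A), u * u = 1 → u ∈ A) (p2 : IsPGroup 2 S) (h1 : A ≤ S)
    (h2 : S ≤ 𝐂(A)) (hρ : ρ ∈ 𝐍(A)) (hρS : ρ ∈ 𝐍(S)) (hρC : ρ ∉ 𝐂(A)) {a : G} (ha : a ∈ A)
    (a1 : a ≠ 1) : Tri (S.normalizerMonoidHom ⟨ρ, hρS⟩) ⟨a, h1 ha⟩ := by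
  have hb := (mem_normalizer_iff.1 hρ a).1 ha
  have b1 : ρ * a * ρ⁻¹ ≠ 1 := by simpa using a1
  have ab : a ≠ ρ * a * ρ⁻¹ := fun e => hρC (mem_cent_of_fix h.sq h.card h.idx hρ ha a1 e.symm)
  refine ⟨p2, fun e => a1 (congrArg Subtype.val e), Subtype.ext (h.sq a ha),
    fun t => Subtype.ext (mem_cent.1 (h2 t.2) a ha).symm, fun e => ab (congrArg Subtype.val e).symm,
    Subtype.ext ?_, fun t ht => ?_⟩
  · change ρ * (ρ * a * ρ⁻¹) * ρ⁻¹ = a * (ρ * a * ρ⁻¹)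
    rcases four_cases h.sq h.card ha hb a1 b1 ab ((mem_normalizer_iff.1 hρ _).1 hb) with h' | h' | h' | h'
    · exact absurd (by simpa using h') a1
    · exact absurd (mem_cent_of_sq h.idx hρ (mem_cent_of_fix h.sq h.card h.idx (mul_mem hρ hρ)
        ha a1 (Eq.trans (by group) h'))) hρC
    · exact absurd (mem_cent_of_fix h.sq h.card h.idx hρ hb b1 h') hρC
    · exact h'
  · rcases four_cases h.sq h.card ha hb a1 b1 ab (om t (h2 t.2) (congrArg Subtype.val ht)) with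
      e | e | e | e
    exacts [Or.inl (Subtype.ext e), Or.inr (Or.inl (Subtype.ext e)),
      Or.inr (Or.inr (Or.inl (Subtype.ext e))), Or.inr (Or.inr (Or.inr (Subtype.ext e)))]

theorem not_comm [IsSimpleGroup G] (h : TIc A) (ns : ¬ L.IsSylowIn 2 A ⊤) :
    ¬ ∀ x y : G, x * y = y * x := fun e => by
  rcases (⟨fun a ha g => by rwa [e g, mul_inv_cancel_right]⟩ : A.Normal).eq_bot_or_eq_top with e | e
  · have := h.card
    rw [e, card_bot] at this; omega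
  · exact ns (e ▸ isSylowIn_self (e ▸ h.sq.two))

theorem core_free {W : Type*} [Group W] [Finite W] (sq : Sq A) {φ : 𝐂(A) →* W}
    (p1 : mim φ 𝐂(A) = ⊤) (p2 : mker φ = A ⊔ core {2}ᶜ 𝐂(A)) : core {2}ᶜ (⊤ : Subgroup W) = ⊥ := by
  set X := mpre φ (core {2}ᶜ (⊤ : Subgroup W))
  have nX : X ⊴ 𝐂(A) := ⟨mpre_le _ _, norm_mpre φ (core_normal _ _)⟩
  have e : mim φ X = core {2}ᶜ ⊤ := mim_mpre (H := 𝐂(A)) (le_top.trans p1.ge)
  have hk : A ⊔ core {2}ᶜ 𝐂(A) ≤ X := p2 ▸ mker_le_mpre _ _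
  have hA : HallIn {2} A X := ⟨le_sup_left.trans hk, (piGrp_iff_isPGroup Nat.prime_two).2 sq.two, by
    rw [← relIndex_mul_relIndex A _ X le_sup_left hk, isPiNum_mul_iff,
      relIndex_sup_of_norm (le_norm_of_le_cent (core_le _ _)), ← p2, ← card_mim φ nX.le, e]
    exact ⟨(core_pi _ _).relIndex A, core_pi _ _⟩⟩
  obtain ⟨H, sd, hH⟩ := hA.exists_sdprod (le_norm_of_le_cent nX.le)
  have h1 := hH.eq_core (sd.dprod (sd.right_le.trans nX.le)).normal_right.norm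
  rw [← e, mim_eq_bot_iff nX.le, p2, ← sd.sup, h1]
  exact sup_le_sup_left (nX.core_le _) _

end Cfsg.Agent.Go.BS

namespace Cfsg.Agent.Go.BS

open Subgroup Cfsg Cfsg.Agent.H1 Cfsg.Agent.L Cfsg.Agent.FT Cfsg.Agent.Sg Cfsg.Agent.R1
  Cfsg.Agent.H6
open scoped Pointwise commutatorElement

variable {G : Type} [Group G] [Finite G] [IsSimpleGroup G] {A S : Subgroup G} {ρ : G}

theorem norm_sup [Be.BeI] (ih : IH (Nat.card G)) (hn : ¬ ∀ x y : G, x * y = y * x) (h : TIc A)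
    (om : ∀ u ∈ 𝐂(A), u * u = 1 → u ∈ A) (hS : L.IsSylowIn 2 S ⊤) (h1 : A ≤ S) (h2 : S ≤ 𝐂(A))
    (e : S ≃* U64) : S ⊔ core {2}ᶜ 𝐂(A) ⊴ 𝐂(A) := by
  obtain ⟨a, ha, a1, -⟩ := exists_third h.card.ge 1
  have nO := core_normal {2}ᶜ 𝐂(A)
  obtain ⟨W, _, _, φ, p1, p2⟩ := exists_quo ((NormalIn.of_le_cent h.sq.cent
    (le_cent_symm le_rfl)).sup nO)
  have su : Function.Surjective φ := fun w => let ⟨x, _, e⟩ := p1.ge (mem_top w); ⟨x, e⟩
  have hO := core_free h.sq p1 p2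
  have one : ∀ x : 𝐂(A), (x : G) ∈ A → φ x = 1 := fun x hx => coe_mem_mker.1 (p2 ▸ mem_sup_left hx)
  have sq : Sq (mim φ S) := by
    rintro _ ⟨x, hx, rfl⟩
    rw [← map_mul]
    exact one _ (om _ (x * x).2 (pow_four e hx))
  have hs := sylow_mim Nat.prime_two (hS.of_le h2 le_top) le_rfl φ
  rw [p1] at hs
  have sc : SC (mim φ S) := ⟨sq.two, sq.cent, fun x hx g hg => sylow_le_of_norm Nat.prime_two hs le_top
    (R1.two_zpowers (by rw [conj_mul, sq x hx, mul_one, mul_inv_cancel])) (Or.inr (zpowers_le.2 hg))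
    (mem_zpowers _)⟩
  have cf := ih.cf (card_lt_of_surj (fun e' => cent1_ne_top hn a1 (top_le_iff.1
    (e'.ge.trans (cent_le_cent1 ha)))) su) sc sq hO
  have := norm_mpre φ (normal_of_cent_comp sc hO fun K hK => by_contra fun c => ?_)
  · rw [mpre_mim φ h2, p2, ← sup_assoc, sup_eq_left.2 h1] at this
    exact ⟨sup_le h2 nO.le, this⟩
  have ck := cf.ck K hK c
  have hP := sylow_comp hs hK
  have b0 : ∀ v ∈ mim φ S ⊓ K, v ∈ 𝐂(K) → v = 1 := fun v hv m => mem_bot.1 ((comm_eq_bot_iff.2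
    (sq.of_le inf_le_left).cent).le (inf_cent_le_der (qs_commutator hK.2) inf_le_right hP.isPGroup
      (by rw [← Nat.not_even_iff_odd, even_iff_two_dvd]; exact hP.not_dvd_relIndex) ⟨hv, m⟩))
  have h4 : 4 ≤ #|mim φ S ⊓ K| := by
    have := card_mim_dvd (QuotientGroup.mk' (center K)) (mim φ S ⊓ K)
    rw [mim_inf_dom, (pr_mk K).card sq ck] at this
    exact ck.q4.trans (Nat.le_of_dvd Nat.card_pos this)
  have key : ∀ x y : 𝐂(A), (x : G) ∈ S → (y : G) ∈ S → φ x ∈ K → φ y ∈ K → φ x ≠ 1 → φ y ≠ 1 →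
      (x : G) * x = y * y := fun x y hx hy kx ky x1 y1 => by
    have mx := mem_mim_of_mem φ x hx
    have my := mem_mim_of_mem φ y hy
    obtain ⟨d, hd, e1⟩ := ck.tr _ mx _ my (fun m => x1 (b0 _ ⟨mx, kx⟩ m)) fun m => y1 (b0 _ ⟨my, ky⟩ m)
    have e2 := b0 _ (mem_inf.2 ⟨mul_mem ((mem_normalizer_iff.1 hd.2 _).1 mx) (inv_mem my),
      mul_mem (mul_mem (mul_mem hd.1 kx) (inv_mem (mem_inf.1 hd).1)) (inv_mem ky)⟩) e1
    obtain ⟨c, rfl⟩ := su d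
    rw [← map_inv, ← map_inv, ← map_mul, ← map_mul, ← map_mul, ← coe_mem_mker, p2] at e2
    obtain ⟨b, hb, o, ho, e3⟩ := (nO.mem_sup' h.sq.cent).1 e2
    have xA := om _ (x * x).2 (pow_four e hx)
    have yA := om _ (y * y).2 (pow_four e hy)
    have e4 : (c : G) * x * (c : G)⁻¹ = o * y * b := by
      rw [← mem_cent.1 (mul_mem (nO.le ho) y.2) b hb, ← mul_assoc, e3]; simp
    have e5 : (x : G) * x * ((y : G) * y)⁻¹ = o * (y * o * (y : G)⁻¹) := by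
      have e6 := mem_cent.1 c.2 _ xA
      have e7 := mem_cent.1 (mul_mem (nO.le ho) y.2) b hb
      calc (x : G) * x * ((y : G) * y)⁻¹ = (x * x : 𝐂(A)) * c * (c : G)⁻¹ * ((y : G) * y)⁻¹ := by simp
        _ = (c * x * (c : G)⁻¹) * (c * x * (c : G)⁻¹) * ((y : G) * y)⁻¹ := by rw [e6]; simp [mul_assoc]
        _ = o * y * (b * (o * y)) * b * ((y : G) * y)⁻¹ := by rw [e4]; group
        _ = o * y * (o * y) * (b * b) * ((y : G) * y)⁻¹ := by rw [e7]; group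
        _ = _ := by rw [h.sq b hb]; group
    exact mul_inv_eq_one.1 (mem_bot.1 ((inf_eq_bot_of_two h.sq.two (odd_core 𝐂(A))).le
      (mem_inf.2 ⟨e5 ▸ mul_mem ho (nO.conj_mem y.2 ho), mul_mem xA (inv_mem yA)⟩)))
  obtain ⟨_, ⟨⟨x, hx, rfl⟩, kx⟩, x1, -⟩ := exists_third h4 1
  obtain ⟨_, ⟨⟨y, hy, rfl⟩, ky⟩, y1, yx⟩ := exists_third h4 (φ x)
  have hx : (x : G) ∈ S := hx
  have hy : (y : G) ∈ S := hy
  refine x1 (one x (om _ x.2 (no_quat e hx hy (key x y hx hy kx ky x1 y1)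
    (key (x * y) x (mul_mem hx hy) hx (by rw [map_mul]; exact mul_mem kx ky) kx (fun e' => yx ?_) x1))))
  rw [map_mul] at e'
  rw [eq_inv_of_mul_eq_one_right e', sq.inv (mem_mim_of_mem φ x hx)]

theorem k15 (h : TIc A) (om : ∀ u ∈ 𝐂(A), u * u = 1 → u ∈ A) (hS : L.IsSylowIn 2 S ⊤) (h2 : S ≤ 𝐂(A))
    (e : S ≃* U64) (hN : S ⊔ core {2}ᶜ 𝐂(A) ⊴ 𝐂(A)) {a : G} (a1 : a ≠ 1)
    (hc : {x | x ∈ S ∧ x * x = a}.ncard = 20) (ha : a ∈ A) : K1 A S ∨ ∃ δ, K5 A S δ := by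
  have nO := core_normal {2}ᶜ 𝐂(A)
  obtain ⟨H, sd, hH⟩ := (sylow_hall Nat.prime_two (hS.of_le (le_inf h2 le_normalizer)
    le_top)).exists_sdprod inf_le_right
  have HC := sd.right_le.trans inf_le_left
  have oH := odd_iff_piGrp.2 hH.pi
  have dc : 𝐂(A) ≤ core {2}ᶜ 𝐂(A) ⊔ S ⊔ H := by
    refine (sylow_frattini Nat.prime_two (hS.of_le le_sup_left le_top) hN).sup.ge.trans (sup_le
      (le_sup_of_le_left (sup_comm _ _).le) (sd.sup.ge.trans (sup_le_sup_right le_sup_right _)))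
  have n1 : H ⊓ 𝐂(S) ⊴ H := NormalIn.subcent sd.norm
  have h3 : H ⊓ 𝐂(S) ≤ core {2}ᶜ 𝐂(A) := le_sup_left.trans (le_core ⟨sup_le (inf_le_left.trans HC) nO.le,
    dc.trans (sup_le (sup_le (le_sup_right.trans le_normalizer) (le_normalizer_sup
      (le_norm_of_le_cent (le_cent_symm inf_le_right)) (h2.trans nO.norm)))
      (le_normalizer_sup n1.norm (HC.trans nO.norm)))⟩ ((hH.pi.of_le inf_le_left).sup (core_pi _ _)
      (Or.inl ((inf_le_left.trans HC).trans nO.norm))))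
  have fx : ∀ g ∈ H, ∀ u ∈ S, u ∉ A → g ∈ 𝐂[u] → g ∈ 𝐂(S) := fun g hg u hu u1 m =>
    cent_of_fix e hS.isPGroup h2 om (Be.odd_orderOf_of_mem oH hg) (HC hg) (sd.norm hg) hu u1 m
  have h4 : (𝐂(S)).relIndex H ∣ 20 := by
    refine hc ▸ dvd_ncard_cls (fun g hg x hx =>
      ⟨(mem_normalizer_iff.1 (sd.norm hg) x).1 hx.1, ?_⟩) fun x hx => ?_
    · rw [conj_mul, hx.2, ← mem_cent.1 (HC hg) a ha, mul_inv_cancel_right]
    · rw [← inf_relIndex_right, ← inf_relIndex_right 𝐂[x], le_antisymm (inf_le_inf_right H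
        (cent_le_cent1 hx.1)) fun g hg => ⟨fx g hg.2 x hx.1 (fun m => a1 (hx.2.symm.trans (h.sq x m)))
          hg.1, hg.2⟩]
  have h5 : (𝐂(S)).relIndex H ∣ 5 := Nat.Coprime.dvd_of_dvd_mul_left (m := 2 ^ 2)
    (Nat.Coprime.pow_right 2 (Nat.coprime_two_right.2 (oH.of_dvd_nat (relIndex_dvd_card' _ _)))) h4
  rcases (Nat.dvd_prime Nat.prime_five).1 h5 with e1 | e1
  · exact Or.inl (dc.trans (sup_le le_rfl (le_sup_of_le_left
      ((le_inf le_rfl (relIndex_eq_one.1 e1)).trans h3))))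
  haveI := n1.normal_subgroupOf
  rw [← inf_relIndex_left] at e1
  have p5 : ∀ g ∈ H, g ^ 5 ∈ H ⊓ 𝐂(S) := fun g hg => e1 ▸ ((H ⊓ 𝐂(S)).subgroupOf H).pow_index_mem ⟨g, hg⟩
  obtain ⟨g, hg, g1⟩ := SetLike.not_le_iff_exists.1 fun m : H ≤ H ⊓ 𝐂(S) => by
    rw [relIndex_eq_one.2 m] at e1; omega
  obtain ⟨k, j, e2, e3⟩ := exists_ppart Nat.prime_five (p5 g hg) g1
  have m := pow_mem hg k
  refine Or.inr ⟨g ^ k, HC m, sd.norm m, ?_, h3 (p5 _ m), dc.trans (sup_le le_sup_left ?_),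
    fun r hr u hu => by_contra fun u1 => e3 (mem_of_coprime_pow ((Nat.Prime.coprime_iff_not_dvd
      Nat.prime_five).2 hr) (p5 _ m) ⟨pow_mem m r, fx _ (pow_mem m r) u hu.1 u1 (mem_cent1_comm.1 hu.2)⟩)⟩
  · obtain ⟨i, -, e4⟩ := (Nat.dvd_prime_pow Nat.prime_five).1 (orderOf_dvd_of_pow_eq_one e2)
    exact pgroup_of_card (by rw [Nat.card_zpowers, e4])
  · have l1 : H ⊓ 𝐂(S) ⊔ zpowers (g ^ k) ≤ H := sup_le inf_le_left (zpowers_le.2 m)
    have e4 := relIndex_mul_relIndex _ _ _ le_sup_left l1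
    rw [e1] at e4
    rcases (Nat.dvd_prime Nat.prime_five).1 (Dvd.intro_left _ e4) with e5 | e5
    · exact (relIndex_eq_one.1 e5).trans (sup_le_sup_right (h3.trans le_sup_left) _)
    · rw [e5] at e4
      exact absurd (relIndex_eq_one.1 (Nat.eq_of_mul_eq_mul_right (by norm_num) (e4.trans (one_mul 5).symm))
        (mem_sup_right (mem_zpowers _))) e3

instance instBS [St4] [Be.BeI] : BS := ⟨fun {G} _ _ _ {A} ih h om ns => by
  have hn := not_comm h ns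
  obtain ⟨S, hS, h1⟩ := exists_isSylowIn_ge h.sq.two le_top
  have h2 := le_cent_of_odd_index h.sc h.idx h1 hS.isPGroup
  obtain ⟨ρ, hρ, ρC, j, e3⟩ := exists_rho h hS h2
  obtain ⟨a, ha, a1, -⟩ := exists_third h.card.ge 1
  have t := tri h om hS.isPGroup h1 h2 hρ.1 hρ.2 ρC ha a1
  have h3 := Tri.cube_aux _ _ _ _ rfl t ⟨j, by
    rw [← map_pow, show (⟨ρ, hρ.2⟩ : 𝐍(S)) ^ 3 ^ j = 1 from Subtype.ext e3, map_one]⟩
  obtain ⟨e⟩ : Nonempty (S ≃* U64) := (t.classify₃ h3).resolve_left fun ⟨n, x, y, H⟩ => by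
    rcases n with _ | n
    · exact ns (eq_of_le_of_card_le h1 (by rw [H.card, h.card]; rfl) ▸ hS)
    obtain ⟨e⟩ := H.equiv
    rcases (S0949.result hS.toSylowTop _ (by omega) e fun N hN o => le_bot_iff.1
      ((Be.le_oddCore hN o).trans (simple_core hn).le)).1.eq_bot_or_eq_top with e' | e'
    · exact a1 (mem_bot.1 (e'.le (h1 ha)))
    · exact hn fun u v => congrArg Subtype.val (H.commute ⟨u, e'.ge (mem_top u)⟩ ⟨v, e'.ge (mem_top v)⟩).eq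
  refine ⟨S, ρ, ⟨h, om, hS, h1, ⟨e⟩, hρ.1, hρ.2, ρC, fun s hs => congrArg Subtype.val (t.prod h3 ⟨s, hs⟩),
    fun s hs => congrArg Subtype.val (t.comm h3 ⟨s, hs⟩).eq, fun c hc c1 u hu u1 x hx y hy x1 y1 tx ty =>
      by_contra fun xy => ?_⟩, k15 h om hS h2 e (norm_sup ih hn h om hS h1 h2 e) a1 ?_ ha⟩
  · have hA : A ≤ 𝐂[c] := le_cent1_iff.2 hc
    obtain ⟨⟨σ, hσ, σC⟩, hR⟩ := St4.main ih h (cent1_ne_top hn c1) hA hx hy x1 y1 xy tx ty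
    obtain ⟨b, hb, z, hz, rfl⟩ := (setProd_sup (Or.inr (le_norm_cent (hA.trans (norm_KK A _))))).2.2 u
      (hR (A ⊔ zpowers u) (sup_le hA (zpowers_le.2 hu.2)) (hS.isPGroup.to_le
        (sup_le h1 (zpowers_le.2 hu.1))) le_sup_left (mem_sup_right (mem_zpowers u)))
    have zS : z ∈ S := (mul_mem_cancel_left (h1 hb)).1 hu.1
    refine σC (mem_cent_of_fix h.sq h.card h.idx hσ.2 (om _ (h2 (mul_mem zS zS)) (pow_four e zS))
      (fun e' => u1 (mul_mem hb (om z (h2 zS) e'))) ?_)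
    rw [mem_cent.1 (mul_mem hz hz) σ hσ.1, mul_inv_cancel_right]
  · have c1 := t.card_eq fun x => Subtype.ext (pow_four e x.2)
    rw [Nat.card_congr e.toEquiv, U64.card_eq] at c1
    have c2 : Nat.card {x : S // x * x = ⟨a, h1 ha⟩} = {x | x ∈ S ∧ x * x = a}.ncard :=
      Nat.card_congr ⟨fun x => ⟨x.1, x.1.2, congrArg Subtype.val x.2⟩,
        fun x => ⟨⟨x.1, x.2.1⟩, Subtype.ext x.2.2⟩, fun _ => rfl, fun _ => rfl⟩
    omega⟩

end Cfsg.Agent.Go.BS
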