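import Cfsg.Agent.Go.C1

/-! The perfect cores of the centralisers of the maximal subgroups of a strongly closed set. -/

set_option autoImplicit false
set_option linter.unusedSectionVars false

namespace Cfsg.Agent.Go

open Subgroup Cfsg.Agent.FT Cfsg.Agent.H1 Cfsg.Agent.L Cfsg.Agent.Sg
open scoped Pointwise commutatorElement

variable {G G' : Type*} [Group G] [Group G'] {s : Set G} {H K T T' U B D X Y : Subgroup G}

/-- `T` is a maximal `2`-subgroup of `H` inside `s` -/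
structure Mxs (s : Set G) (H T : Subgroup G) : Prop where
  le : T ≤ H
  two : IsPGroup 2 T
  sub : ∀ x ∈ T, x ∈ s
  max : ∀ x ∈ s, x ∈ H → x ∈ 𝐍(T) → x ∈ T

/-- the statement proved by induction -/
def Cl (s : Set G) (H : Subgroup G) : Prop :=
  ∀ T D : Subgroup G, Mxs s H T → D ≤ H → D ≤ ⁅D, D⁆ → D ≤ 𝐂(T) → ⁅D, nn s H⁆ ≤ OO H

theorem Mxs.mono (h : Mxs s H T) (h1 : T ≤ K) (h2 : K ≤ H) : Mxs s K T :=
  ⟨h1, h.two, h.sub, fun x a b => h.max x a (h2 b)⟩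

theorem conj_sub (h : SCS s) (hU : ∀ x ∈ U, x ∈ s) (g : G) : ∀ x ∈ g ⋆ U, x ∈ s := fun x hx => by
  obtain ⟨y, hy, rfl⟩ := mem_conj'.1 hx
  exact h.conj y (hU y hy) g

theorem Mxs.conj (hs : SCS s) (h : Mxs s ⊤ T) (g : G) : Mxs s ⊤ (g ⋆ T) :=
  ⟨le_top, pgroup_conj h.two g, conj_sub hs h.sub g, fun x a _ b => mem_conj.2 (h.max _
    (by simpa using hs.conj x a g⁻¹) trivial (by rwa [← conj_norm, mem_conj] at b))⟩

theorem Mxs.subgroupOf (h : Mxs s H T) : Mxs (H.subtype ⁻¹' s) ⊤ (T.subgroupOf H) :=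
  ⟨le_top, h.two.comap_subtype, fun x hx => h.sub x hx, fun x a _ b => h.max x a x.2 (by
    have := map_norm_le H.subtype _ (mem_map_of_mem _ b)
    rwa [map_subgroupOf_eq_of_le h.le] at this)⟩

variable [Finite G]

theorem Mxs.eq (h : Mxs s H T) (h1 : T ≤ U) (h2 : U ≤ H) (two : IsPGroup 2 U)
    (hU : ∀ x ∈ U, x ∈ s) : T = U :=
  eq_of_nil_of_norm_le (pgroup_nil Nat.prime_two two) h1 fun x hx =>
    h.max x (hU x hx.1) (h2 hx.1) hx.2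

theorem Mxs.of_sylow (hs : SCS s) {P : Subgroup G} (hP : IsSylowIn 2 P H) :
    Mxs s H (hs.sub hP.isPGroup) := by
  refine ⟨(hs.sub_le _).trans hP.le, hP.isPGroup.to_le (hs.sub_le _), fun _ h => h.1,
    fun x a b c => ?_⟩
  obtain ⟨g, g1, g2⟩ := sylow_exists_conj_le Nat.prime_two (((sylow_hall Nat.prime_two hP).of_le
    (le_inf hP.le (le_normalizer.trans (hs.norm_sub hP.isPGroup))) inf_le_left).sylow Nat.prime_two)
    (zpowers_le.2 ⟨b, c⟩) (hs.two x a)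
  simpa [mul_assoc] using conj_mem_of_mem_normalizer' g1.2
    (show _ ∈ hs.sub hP.isPGroup from ⟨hs.conj x a g, g2 (conj_mem_conj g (mem_zpowers x))⟩)

theorem exists_mxs (hs : SCS s) (two : IsPGroup 2 U) (h : U ≤ H) :
    ∃ T, Mxs s H T ∧ U ≤ 𝐍(T) ∧ ∀ x ∈ U, x ∈ s → x ∈ T := by
  obtain ⟨P, hP, h1⟩ := exists_isSylowIn_ge two h
  exact ⟨_, .of_sylow hs hP, h1.trans (le_normalizer.trans (hs.norm_sub _)),
    fun x a b => ⟨b, h1 a⟩⟩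

theorem Mxs.exists_conj (hs : SCS s) (h : Mxs s H T) (h2 : U ≤ H) (two : IsPGroup 2 U)
    (hU : ∀ x ∈ U, x ∈ s) : ∃ g ∈ H, g ⋆ U ≤ T := by
  obtain ⟨P, hP, h1⟩ := exists_isSylowIn_ge h.two h.le
  obtain ⟨g, g1, g2⟩ := sylow_exists_conj_le Nat.prime_two hP h2 two
  refine ⟨g, g1, fun x hx => ?_⟩
  rw [h.eq (U := hs.sub hP.isPGroup) (fun x hx => ⟨h.sub x hx, h1 hx⟩) ((hs.sub_le _).trans hP.le)
    (hP.isPGroup.to_le (hs.sub_le _)) fun _ h => h.1]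
  exact ⟨conj_sub hs hU g x hx, g2 hx⟩

theorem zp_sub (hs : SCS s) {x : G} (hx : x ∈ s) : ∀ y ∈ zpowers x, y ∈ s := fun _ hy =>
  ((zpowers_le (H := hs.sub (hs.two x hx))).2 ⟨hx, mem_zpowers x⟩ hy).1

theorem Mxs.exists_conj1 (hs : SCS s) (h : Mxs s H T) {x : G} (h1 : x ∈ s) (h2 : x ∈ H) :
    ∃ g ∈ H, g * x * g⁻¹ ∈ T := by
  obtain ⟨g, g1, g2⟩ := h.exists_conj hs (zpowers_le.2 h2) (hs.two x h1) (zp_sub hs h1)
  exact ⟨g, g1, g2 (conj_mem_conj g (mem_zpowers x))⟩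

theorem Mxs.map (hs : SCS s) (h : Mxs s ⊤ T) (f : G →* G') : Mxs (f '' s) ⊤ (T.map f) := by
  refine ⟨le_top, h.two.map f, ?_, ?_⟩
  · rintro _ ⟨x, hx, rfl⟩; exact ⟨x, h.sub x hx, rfl⟩
  rintro _ ⟨x, hx, rfl⟩ - b
  obtain ⟨g, g1, g2⟩ := (h.mono (K := (𝐍(T.map f)).comap f)
    (map_le_iff_le_comap.1 le_normalizer) le_top).exists_conj1 hs hx b
  simpa [mul_assoc] using conj_mem_of_mem_normalizer' g1 (mem_map_of_mem f g2)

theorem Mxs.frattini (hs : SCS s) (h : Mxs s H T) : H ≤ nn s H ⊔ H ⊓ 𝐍(T) := fun x hx => by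
  obtain ⟨g, g1, g2⟩ := (h.mono (le_nn h.sub h.le) nn_le).exists_conj hs (le_nn (conj_sub hs h.sub x)
    (conj_le_of_mem hx h.le)) (pgroup_conj h.two x) (conj_sub hs h.sub x)
  rw [← inv_mul_cancel_left g x]
  exact mul_mem_sup (inv_mem g1) ⟨mul_mem (nn_le g1) hx, mem_norm_of_conj_le (mul_conj g x T ▸ g2)⟩

theorem OO_norm_le (h : IsPGroup 2 U) : OO 𝐍(U) ≤ 𝐂(U) := le_cent_of_disjoint
  (le_normalizer.trans (core_normal _ _).norm) (core_le _ _) (inf_eq_bot_of_two h (odd_OO _))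

theorem comm_le_OO (hB : H ≤ 𝐍(B ⊔ OO H)) (h : B ≤ H) (ho : Odd #|X|) (hX : X ≤ H)
    (hn : B ≤ 𝐍(X)) (hD : D ≤ B ⊔ OO H) : X ≤ 𝐍(D ⊔ OO H) := by
  have n := core_normal {2}ᶜ H
  have h1 : B ⊔ OO H ⊴ H := ⟨sup_le h n.le, hB⟩
  have h2 : X ⊓ (B ⊔ OO H) ≤ OO H := le_sup_left.trans ((le_core (N := X ⊓ (B ⊔ OO H) ⊔ OO H)
    ⟨sup_le inf_le_right le_sup_right, sup_le (le_normalizer_sup (le_normalizer_inf hn
      (h.trans hB)) (h.trans n.norm)) (le_sup_right.trans le_normalizer)⟩ (odd_iff_piGrp.1 (odd_sup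
      (odd_of_le ho inf_le_left) (odd_OO H) (Or.inl (inf_le_left.trans (hX.trans n.norm)))))).trans
        (h1.core_le _))
  refine comm_le_left_iff.1 (le_sup_of_le_right ((commutator_mono (sup_le hD le_sup_right)
    le_rfl).trans (comm_sup_left_le ?_ (n.comm_le_left hX) (h.trans n.norm) le_normalizer)))
  exact (le_inf (comm_le_right hn) ((commutator_mono le_sup_left le_rfl).trans
    (h1.comm_le_left hX))).trans h2

theorem norm_sup_OO (hs : SCS s) (h : Mxs s H T) (hc : ⁅D, nn s H⁆ ≤ OO H) (hD : D ≤ H)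
    (hn : ∀ g ∈ H ⊓ 𝐍(T), g ⋆ D ≤ D ⊔ OO H) : H ≤ 𝐍(D ⊔ OO H) := by
  have n := core_normal {2}ᶜ H
  refine (h.frattini hs).trans (sup_le (comm_le_left_iff.1 (le_sup_of_le_right (comm_sup_left_le hc
    (n.comm_le_left nn_le) (hD.trans n.norm) le_normalizer))) fun g hg => mem_norm_of_conj_le ?_)
  rw [conj_sup, n.conj_eq hg.1]
  exact sup_le (hn g hg) le_sup_right

theorem star (hs : SCS s) (loc : ∀ U : Subgroup G, U ≠ ⊥ → IsPGroup 2 U → Cl s 𝐍(U))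
    (h1 : U ≠ ⊥) (hT : Mxs s ⊤ T) (hT' : Mxs s ⊤ T') (hU : U ≤ T) (hU' : U ≤ T') :
    pc 𝐂(T) ≤ pc 𝐂(T') ⊔ OO 𝐍(U) := by
  induction U using WellFoundedGT.induction generalizing T T' with
  | ind U ih =>
  have two := hT.two.to_le hU
  have lt : ∀ {T}, Mxs s ⊤ T → U ≤ T → U ≠ T → U < T ⊓ 𝐍(U) := fun hT a b =>
    lt_inf_norm_of_nil (pgroup_nil Nat.prime_two hT.two) (a.lt_of_ne b)
  by_cases e : U = T
  · rw [hT.eq (e ▸ hU') le_top hT'.two hT'.sub]; exact le_sup_left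
  have e' : U ≠ T' := fun e' => e (e'.trans (hT'.eq (e' ▸ hU) le_top hT.two hT.sub))
  obtain ⟨W, hW, -, hW1⟩ := exists_mxs hs two (le_normalizer : U ≤ 𝐍(U))
  obtain ⟨T₀, h0, -, h2⟩ := exists_mxs hs hW.two (le_top : W ≤ ⊤)
  replace h2 : W ≤ T₀ := fun x hx => h2 x hx (hW.sub x hx)
  have n := core_normal {2}ᶜ 𝐍(U)
  have cH : ∀ {V : Subgroup G}, U ≤ V → 𝐂(V) ≤ 𝐍(U) := fun a => (cent_anti a).trans (cent_le_norm U)
  have mv : ∀ {T}, Mxs s ⊤ T → U ≤ T → U ≠ T → ∃ g ∈ 𝐍(U), ∃ V, U < V ∧ V ≤ g ⋆ T ∧ V ≤ W :=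
    fun {T} hT a b => by
      obtain ⟨g, g1, g2⟩ := hW.exists_conj hs (inf_le_right : T ⊓ 𝐍(U) ≤ _)
        (hT.two.to_le inf_le_left) fun x hx => hT.sub x hx.1
      exact ⟨g, g1, _, (conj_of_mem_norm g1).ge.trans_lt (conj_lt_conj_iff.2 (lt hT a b)),
        conj_mono g inf_le_left, g2⟩
  have UW : U < W := by
    obtain ⟨-, -, V, a, -, b⟩ := mv hT hU e
    exact a.trans_le b
  have ih' : ∀ {V T T' : Subgroup G}, U < V → Mxs s ⊤ T → Mxs s ⊤ T' → V ≤ T → V ≤ T' →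
      OO 𝐍(V) ≤ 𝐍(pc 𝐂(T') ⊔ OO 𝐍(U)) → pc 𝐂(T) ≤ pc 𝐂(T') ⊔ OO 𝐍(U) :=
    fun {V T T'} a b c d d' k => perf_le_odd (pc_perf _) ((ih V a (ne_bot_of_le h1 a.le) b c d d').trans
      (sup_le_sup_right le_sup_left _)) k (odd_OO _)
  have lc : ∀ D : Subgroup G, D ≤ ⁅D, D⁆ → D ≤ 𝐂(W) → ⁅D, nn s 𝐍(U)⁆ ≤ OO 𝐍(U) := fun D a b =>
    loc U h1 two W D hW (b.trans (cH UW.le)) a b
  have oV : ∀ {V : Subgroup G}, U < V → V ≤ W → OO 𝐍(V) ≤ 𝐍(U) := fun a b =>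
    (OO_norm_le (hW.two.to_le b)).trans (cH a.le)
  have nV : ∀ {V T : Subgroup G}, V ≤ T → pc 𝐂(T) ≤ 𝐍(OO 𝐍(V)) := fun a =>
    ((pc_le.trans (cent_anti a)).trans (cent_le_norm _)).trans (core_normal _ _).norm
  have kB := norm_sup_OO hs hW (lc _ (pc_perf _) pc_le) (pc_le.trans (cH UW.le)) fun g hg =>
    (conj_of_mem_norm (norm_pc _ (norm_le_norm_cent _ hg.2))).le.trans le_sup_left
  have kA := norm_sup_OO hs hW (lc _ (pc_perf 𝐂(T₀)) (pc_le.trans (cent_anti h2)))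
    (pc_le.trans (cH (UW.le.trans h2))) fun g hg => by
      rw [conj_pc, conj_cent]
      exact ih' UW (h0.conj hs g) h0 (conj_of_mem_norm hg.2 ▸ conj_mono g h2) h2
        (comm_le_OO kB (pc_le.trans (cH UW.le)) (odd_OO _) (oV UW le_rfl) (nV le_rfl)
          (le_sup_of_le_left (pc_mono (cent_anti h2))))
  have kC : ∀ {T}, Mxs s ⊤ T → U ≤ T → U ≠ T → pc 𝐂(T) ⊔ OO 𝐍(U) = pc 𝐂(T₀) ⊔ OO 𝐍(U) :=
    fun {T} hT a b => by
      obtain ⟨g, g1, V, v1, v2, v3⟩ := mv hT a b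
      have k1 := ih' v1 (hT.conj hs g) h0 v2 (v3.trans h2) ((oV v1 v3).trans kA)
      have k2 := ih' v1 h0 (hT.conj hs g) (v3.trans h2) v2 (comm_le_OO kA (pc_le.trans
        (cH (UW.le.trans h2))) (odd_OO _) (oV v1 v3) (nV (v3.trans h2)) k1)
      rw [← conj_eq_conj_iff (g := g), conj_of_mem_norm (kA g1), conj_sup, n.conj_eq g1, conj_pc,
        conj_cent]
      exact le_antisymm (sup_le k1 le_sup_right) (sup_le k2 le_sup_right)
  rw [kC hT' hU' e', ← kC hT hU e]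
  exact le_sup_left

end Cfsg.Agent.Go
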