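import Cfsg.Agent.Go.C2
import Cfsg.Agent.Be.Main
import Cfsg.Agent.Be.Cor1
import Cfsg.Agent.R1.SC

/-! The perfect core of the centraliser of a strongly closed `2`-subgroup (S1173), modulo the
theorem on strongly closed elementary abelian subgroups. -/

set_option autoImplicit false
set_option linter.unusedSectionVars false
set_option linter.style.haveILetI false

namespace Cfsg.Agent.Go

open Subgroup Cfsg.Agent.FT Cfsg.Agent.H1 Cfsg.Agent.L Cfsg.Agent.Sg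
open scoped Pointwise commutatorElement

/-- the form of Goldschmidt's theorem that is needed -/
class GoS : Prop where
  out : ∀ {G : Type} [Group G] [Finite G] [IsSimpleGroup G] (A : Subgroup G),
    ¬ IsMulCommutative G → A ≠ ⊥ → Sq A → R1.SC A →
      (∃ H : Subgroup G, IsStronglyEmbedded H) ∨ Odd A.index

theorem sys_of_se {G : Type} [Group G] [Finite G] [IsSimpleGroup G] {H : Subgroup G}
    (h : IsStronglyEmbedded H) : Nonempty (Sz.Sys G) := by
  obtain ⟨g, hg⟩ := H6.SE.exists_not_mem h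
  obtain ⟨S, -⟩ := Be.BeI.sys H h (by
    by_contra h4
    have e := Be.oddCore_sup h h4
    rcases (Be.oddCore_normal (G := G)).eq_bot_or_eq_top with e1 | e1
    · rw [e1, bot_sup_eq] at e; exact hg (e ▸ mem_top g)
    · obtain ⟨a, -, a2⟩ := H6.SE.exists_involution h
      exact absurd (a2 ▸ Be.odd_orderOf_of_mem H6.odd_card_oddCore (e1 ▸ mem_top a)) (by decide))
    ((H.normalCore_normal.eq_bot_or_eq_top).resolve_right fun e => hg (H.normalCore_le (e ▸ mem_top g)))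
  exact ⟨S⟩

theorem simple_case [GoS] {G : Type} [Group G] [Finite G] {K A D : Subgroup G} [IsSimpleGroup K]
    (hK : K ≤ ⁅K, K⁆) (hA : A ≤ K) (A1 : A ≠ ⊥) (sq : Sq A) (sc : R1.SC (A.subgroupOf K))
    (hD : D ≤ ⁅D, D⁆) (h1 : A ≤ D) (h2 : D ≤ 𝐂(A)) (h3 : D ≤ 𝐍(K)) : False := by
  have nc : ¬ K ≤ 𝐂(K) := fun e => A1 (le_bot_iff.1 (hA.trans (hK.trans (comm_eq_bot_iff.2 e).le)))
  obtain ⟨a, ha, a1⟩ := exists_mem_ne_one A1
  have a1' : (⟨a, hA ha⟩ : K) ≠ 1 := fun e => a1 (congrArg Subtype.val e)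
  have sq' : Sq (A.subgroupOf K) := fun x hx => Subtype.ext (sq x hx)
  rcases GoS.out (A.subgroupOf K) (fun e => nc (comm_iff_le_cent.1 e)) (ne_bot_of_mem ha a1')
    sq' sc with ⟨H, hH⟩ | ho
  · obtain ⟨S⟩ := sys_of_se hH
    obtain ⟨g, hg⟩ := S.exists_conj_Q (sq' ⟨a, hA ha⟩ ha)
    have g1 := conj_ne_one (g := g) a1'
    have g2 := conj_mem_conj g (show (⟨a, hA ha⟩ : K) ∈ A.subgroupOf K from ha)
    have g3 : ∀ x ∈ g ⋆ A.subgroupOf K, x * x = 1 := fun x hx => by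
      obtain ⟨y, hy, rfl⟩ := mem_conj'.1 hx
      rw [conj_mul, sq' y hy]; simp
    have k1 : g ⋆ A.subgroupOf K ≤ S.Q := fun x hx =>
      S.inv_mem_Q (S.mem_H_of_comm hg g1 (sc.comm' hx g2)) (g3 x hx)
    have k2 : S.Q0 ≤ g ⋆ A.subgroupOf K := fun u hu => by
      by_cases u1 : u = 1
      · exact u1 ▸ one_mem _
      obtain ⟨b, -, e1⟩ := S.exists_K_conj hg g1 (g3 _ g2)
      obtain ⟨c, -, rfl⟩ := S.exists_K_conj hu.1 u1 hu.2
      exact sc.mem_of_cl (R1.Cl.conj (R1.Cl.of_conj ⟨g, e1 ▸ g2⟩) c)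
        (cent_le_norm _ (cent_anti k1 (S.Q0_cent hu)))
    have k3 := A0_perf (S := S) (Y := MulAut.conj g ⋆ (⊤ : Subgroup D).map (B1.conjHom h3))
      (perf_map (perf_map ((map_le_map_iff_of_injective D.subtype_injective).1 (by
        rw [Subgroup.map_commutator, ← MonoidHom.range_eq_map, range_subtype]; exact hD)) _) _)
      fun α hα x hx => by
        obtain ⟨_, ⟨d, -, rfl⟩, rfl⟩ := mem_conj'.1 hα
        have : B1.conjHom h3 d (g⁻¹ * x * g) = g⁻¹ * x * g := Subtype.ext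
          (mul_inv_eq_iff_eq_mul.2 (mem_cent.1 (h2 d.2) _ (mem_conj (G := K).1 (k2 hx))).symm)
        show g * B1.conjHom h3 d (g⁻¹ * x * g) * g⁻¹ = x
        rw [this]; group
    have k4 := (B1.conjHom_eq_one_iff h3 ⟨a, h1 ha⟩).1 (mem_bot.1
      (conj_eq_bot_iff.1 k3 ▸ mem_map_of_mem _ (mem_top _)))
    exact a1' (mem_bot.1 (S.center_eq_bot ▸ mem_center_iff.2 fun x => Subtype.ext (k4 x x.2)))
  have hS : HallIn {2} A K := ⟨hA, (piGrp_iff_isPGroup Nat.prime_two).2 sq.two,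
    (isPiNum_compl_singleton_iff Nat.prime_two).2 ho.not_two_dvd_nat⟩
  have n := core_normal {2}ᶜ (K ⊓ 𝐂(A))
  have d0 := le_norm_core (le_norm_subcent h3 (le_norm_of_le_cent h2)) {2}ᶜ
  have k1 := (B1.burnside_normal_complement Nat.prime_two ((hS.of_le (le_inf hA sq.cent)
    inf_le_left).sylow Nat.prime_two) (inf_le_left.trans inf_le_right)).sup
  have k2 : ⁅K ⊓ 𝐍(A), D⁆ ≤ OO (K ⊓ 𝐂(A)) := perf_comm hD (le_norm_core (le_norm_subcent
    (inf_le_left.trans le_normalizer) inf_le_right) _) d0 ((commutator_mono ((le_inf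
      ((commutator_mono inf_le_left le_rfl).trans (comm_le_left h3)) ((commutator_mono inf_le_right
      h2).trans ((NormalIn.cent_norm A).comm_le_right le_rfl))).trans k1.ge) le_rfl).trans
      (comm_sup_left_le (comm_le_left d0) ((comm_eq_bot_iff'.2 h2).le.trans bot_le) le_normalizer
        ((le_inf hA sq.cent).trans n.norm)))
  have k3 := (B1.burnside_normal_complement Nat.prime_two (hS.sylow Nat.prime_two)
    (comm_eq_bot_iff.1 (le_bot_iff.1 ((le_inf ((commutator_mono le_rfl h1).trans k2)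
      (comm_le_right inf_le_right)).trans (inf_eq_bot_of_two sq.two (odd_OO _)).le)))).der1_le sq.comm
  exact A1 (le_bot_iff.1 ((le_inf (hA.trans (hK.trans k3)) le_rfl).trans
    (inf_eq_bot_of_two sq.two (odd_OO _)).le))

section
variable {G : Type*} [Group G] [Finite G] {s : Set G} {K T D X : Subgroup G}

/-- the `2`-elements of the perfect cores -/
def rr (s : Set G) : Set G := {x | IsPGroup 2 (zpowers x) ∧ ∃ T, Mxs s ⊤ T ∧ x ∈ pc 𝐂(T)}

theorem mem_of_rr (hs : SCS s) (loc : ∀ U : Subgroup G, U ≠ ⊥ → IsPGroup 2 U → Cl s 𝐍(U))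
    (hT : Mxs s ⊤ T) (h1 : T ≠ ⊥) {y : G} (hy : y ∈ rr s) (hn : y ∈ 𝐍(T)) : y ∈ pc 𝐂(T) := by
  obtain ⟨y2, T', hT', hy⟩ := hy
  have h2 := inf_cent_ne_bot_of_pgroup Nat.prime_two hT.two y2 (zpowers_le.2 hn) h1
  rw [cent_zpowers] at h2
  obtain ⟨c, c1, c2⟩ := (hT'.mono (le_cent1_iff.2 (pc_le hy)) le_top).exists_conj hs
    (inf_le_right : T ⊓ 𝐂[y] ≤ _) (hT.two.to_le inf_le_left) fun x hx => hT.sub x hx.1
  have h3 := star hs loc h2 (hT'.conj hs c⁻¹) hT (conj_le_iff.1 c2) inf_le_left (x := y) (by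
    rw [← conj_cent, ← conj_pc, mem_conj, inv_inv, mem_cent1.1 c1, mul_inv_cancel_right]; exact hy)
  have h4 := norm_pc _ (norm_le_norm_cent _ hn)
  have h5 : y ∈ pc 𝐂(T) ⊔ OO 𝐍(T ⊓ 𝐂[y]) ⊓ 𝐍(pc 𝐂(T)) := by
    rw [← sup_inf_modular le_normalizer (Or.inr (((pc_le.trans (cent_anti inf_le_left)).trans
      (cent_le_norm _)).trans (core_normal _ _).norm))]
    exact ⟨h3, h4⟩
  refine zpowers_le.1 ((NormalIn.sup_left inf_le_right).le_of_coprime (zpowers_le.2 h5)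
    (pgroup_coprime Nat.prime_two y2 ?_))
  rw [relIndex_sup_of_norm inf_le_right]
  exact ((odd_of_le (odd_OO _) inf_le_left).of_dvd_nat (relIndex_dvd_card' _ _)).not_two_dvd_nat

theorem rr_loc (hs : SCS s) (loc : ∀ U : Subgroup G, U ≠ ⊥ → IsPGroup 2 U → Cl s 𝐍(U))
    (hT : Mxs s ⊤ T) (h1 : T ≠ ⊥) {R : Subgroup G} (hR : IsPGroup 2 R) : ∃ T, Mxs s ⊤ T ∧
      (∀ x ∈ R, x ∈ s → x ∈ T) ∧ ∀ x ∈ R, x ∈ rr s → x ∈ pc 𝐂(T) := by
  obtain ⟨T', h2, h3, h4⟩ := exists_mxs hs hR (le_top : R ≤ ⊤)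
  refine ⟨T', h2, h4, fun x a b => mem_of_rr hs loc h2 (fun e => h1 ?_) b (h3 a)⟩
  obtain ⟨g, -, hg⟩ := h2.exists_conj hs le_top hT.two hT.sub
  exact conj_eq_bot_iff.1 (le_bot_iff.1 (e ▸ hg))

theorem scs_rr (hs : SCS s) (loc : ∀ U : Subgroup G, U ≠ ⊥ → IsPGroup 2 U → Cl s 𝐍(U))
    (hT : Mxs s ⊤ T) (h1 : T ≠ ⊥) : SCS (rr s) := by
  refine ⟨fun x ⟨a, T, b, c⟩ g => ⟨conj_zpowers g x ▸ pgroup_conj a g, _, b.conj hs g, ?_⟩,
    fun x h => h.1, ⟨by rw [zpowers_one_eq_bot]; exact IsPGroup.of_bot, T, hT, one_mem _⟩,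
    fun R hR x hx y hy a b => ?_⟩
  · rw [← conj_cent, ← conj_pc]; exact conj_mem_conj g c
  obtain ⟨T, h2, -, h3⟩ := rr_loc hs loc hT h1 hR
  exact ⟨hR.to_le (zpowers_le.2 (mul_mem a (inv_mem b))), T, h2,
    mul_mem (h3 x a hx) (inv_mem (h3 y b hy))⟩

theorem le_nn_rr (hr : SCS (rr s)) (hT : Mxs s ⊤ T) : pc 𝐂(T) ≤ nn (rr s) ⊤ := by
  obtain ⟨P, hP⟩ := exists_isSylowIn 2 (pc 𝐂(T))
  have n : pc 𝐂(T) ≤ 𝐍(nn (rr s) ⊤) := le_top.trans (hr.nn_normal ⊤).norm
  rw [← quo_eq_bot_iff n]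
  refine perf_bot ((mim_mono _ (pc_perf _)).trans (mim_comm _ n n).le) (sol_of_odd ?_)
  rw [odd_iff_piGrp, piGrp_quo_iff n]
  exact (sylow_hall Nat.prime_two hP).index_of_le (le_nn (fun x hx =>
    ⟨hP.isPGroup.to_le (zpowers_le.2 hx), T, hT, hP.le hx⟩) le_top)

theorem comap_inf_cent_le (h0 : OO (⊤ : Subgroup G) = ⊥) [K.Normal] (h2 : IsPGroup 2 K) :
    (OO (⊤ : Subgroup (G ⧸ K))).comap (QuotientGroup.mk' K) ⊓ 𝐂(K) ≤ K := by
  have hK : K ⊴ ⊤ := NormalIn.top_iff.2 inferInstance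
  set X := (OO (⊤ : Subgroup (G ⧸ K))).comap (QuotientGroup.mk' K) ⊓ 𝐂(K)
  have x1 : X ⊴ ⊤ := ((core_normal _ _).comap _).inf ⟨le_top, le_norm_cent hK.norm⟩
  have x2 : HallIn {2} (K ⊓ X) X := by
    refine ⟨inf_le_right, (piGrp_iff_isPGroup Nat.prime_two).2 (h2.to_le inf_le_left), ?_⟩
    have := (core_pi {2}ᶜ (⊤ : Subgroup (G ⧸ K))).of_le (map_le_iff_le_comap.2
      (inf_le_left : X ≤ _))
    rwa [PiGrp, ← relIndex_ker, QuotientGroup.ker_mk', ← inf_relIndex_right] at this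
  obtain ⟨D, d1, d2⟩ := x2.exists_sdprod ((hK.inf x1).norm.trans' le_top)
  have d3 : D = ⊥ := le_bot_iff.1 (h0 ▸ (le_core (d1.dprod ((d1.right_le.trans inf_le_right).trans
    (cent_anti inf_le_left))).normal_right d2.pi).trans (x1.core_le _))
  have := d1.sup
  rw [d3, sup_bot_eq] at this
  exact this.ge.trans inf_le_left

theorem cent_nn (hs : SCS s) (hT : Mxs s ⊤ T) (hD : D ≤ 𝐂(T)) (h : ⁅D, nn s ⊤⁆ ≤ 𝐂(nn s ⊤)) :
    D ≤ 𝐂(nn s ⊤) := le_cent_symm ((closure_le _).2 fun x hx => mem_cent.2 fun d hd => by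
  obtain ⟨k, k1, k2⟩ := (hT.mono (le_nn hT.sub le_top) le_top).exists_conj1 hs hx.1
    (subset_closure hx)
  have e1 := mem_cent.1 (hD hd) _ k2
  have e2 := mem_cent.1 (h (commutator_mem_commutator hd k1)) _ (mem_nn (hT.sub _ k2) trivial)
  calc d * x = k⁻¹ * ⁅d, k⁆⁻¹ * (d * (k * x * k⁻¹)) * d⁻¹ * ⁅d, k⁆ * k * d := by
        rw [commutatorElement_def]; group
    _ = k⁻¹ * ⁅d, k⁆⁻¹ * (k * x * k⁻¹ * ⁅d, k⁆) * k * d := by rw [← e1]; group
    _ = _ := by rw [e2]; group)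

end

theorem subn_bot {G : Type*} [Group G] [Finite G] (h0 : OO (⊤ : Subgroup G) = ⊥)
    (h2 : core {2} (⊤ : Subgroup G) = ⊥) {X : Subgroup G} (hX : X.IsSubnormal) :
    OO X = ⊥ ∧ (X ≤ 𝐂(X) → X = ⊥) := by
  constructor
  · rw [← le_bot_iff, ← h0, OO, OO, core_top_eq_pPrimeCore Nat.prime_two, ← core_top_map]
    refine le_pPrimeCore_of_isSubnormal ((NormalIn.top_iff.1 (core_normal _ _)).isSubnormal.trans' hX) ?_
    rw [core_top_map]; exact Nat.coprime_two_right.2 (odd_OO X)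
  intro h
  exact le_bot_iff.1 (((H2.le_fittingSubgroup_of_isSubnormal hX (nil_of_comm (comm_iff_le_cent.2
    h))).trans (le_fit (NormalIn.top_iff.2 inferInstance) inferInstance)).trans
      ((fit_eq_core Nat.prime_two h0).trans h2).le)

theorem not_inter [GoS] {G : Type} [Group G] [Finite G] {s : Set G} {T : Subgroup G} (hs : SCS s)
    (loc : ∀ U : Subgroup G, U ≠ ⊥ → IsPGroup 2 U → Cl s 𝐍(U)) (hT : Mxs s ⊤ T) (h1 : T ≠ ⊥)
    (h0 : OO (⊤ : Subgroup G) = ⊥) (h2 : core {2} (⊤ : Subgroup G) = ⊥) {x : G} (hx : x ∈ rr s)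
    (hx' : x ∈ s) : x = 1 := by
  have hr := scs_rr hs loc hT h1
  have cm : ∀ R : Subgroup G, IsPGroup 2 R → ∀ x ∈ rr s, ∀ y ∈ s, x ∈ R → y ∈ R → y * x = x * y :=
    fun R hR x a y b c d => by
      obtain ⟨T, -, k1, k2⟩ := rr_loc hs loc hT h1 hR
      exact mem_cent.1 (pc_le (k2 x c a)) y (k1 y d b)
  have ha : SCS {x | x ∈ rr s ∧ x ∈ s ∧ x * x = 1} :=
    ⟨fun x h g => ⟨hr.conj x h.1 g, hs.conj x h.2.1 g, by rw [conj_mul, h.2.2]; simp⟩,
      fun x h => h.1.1, ⟨hr.one, hs.one, one_mul 1⟩, fun R hR x h y h' a b =>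
        ⟨hr.mul R hR x h.1 y h'.1 a b, hs.mul R hR x h.2.1 y h'.2.1 a b, by
          rw [inv_eq_of_mul_eq_one_right h'.2.2, mul_assoc, ← mul_assoc y, cm R hR x h.1 y h'.2.1 a b,
            mul_assoc, h'.2.2, mul_one, h.2.2]⟩⟩
  generalize e : {x | x ∈ rr s ∧ x ∈ s ∧ x * x = 1} = a at ha
  have ma : ∀ x ∈ a, x ∈ rr s ∧ x ∈ s ∧ x * x = 1 := fun x h => by rwa [← e] at h
  by_contra x1
  obtain ⟨K, ⟨k1, y, y1, y2, y3⟩, hm⟩ := exists_minimal_of_wellFoundedLT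
    (fun K : Subgroup G => K.IsSubnormal ∧ ∃ y ∈ a, y ∈ K ∧ y ≠ 1) ⟨⊤, .top, by
      obtain ⟨y, y1, y2⟩ := exists_mem_orderOf_eq Nat.prime_two (pgroup_dvd_card Nat.prime_two hx.1
        (mt zpowers_eq_bot.1 x1))
      exact ⟨y, e ▸ ⟨zp_sub hr hx y y1, zp_sub hs hx' y y1, by rw [← sq, ← y2, pow_orderOf_eq_one]⟩,
        trivial, fun e => by simp [e] at y2⟩⟩
  have sn : ∀ N : Subgroup G, N ⊴ K → N.IsSubnormal := fun N hN =>
    map_subgroupOf_eq_of_le hN.le ▸ hN.normal_subgroupOf.isSubnormal.trans' k1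
  have K1 := ne_bot_of_mem y2 y3
  have kn : K ≤ nn a K := hm ⟨sn _ (ha.nn_normal K), y, y1, mem_nn y1 y2, y3⟩ nn_le
  have sm : ∀ N : Subgroup G, N ⊴ K → N = ⊥ ∨ N = K := fun N hN => or_iff_not_imp_right.2 fun n => by
    refine (subn_bot h0 h2 (sn N hN)).2 (hN.le.trans (kn.trans ?_))
    rw [← map_nn_top, ← map_subgroupOf_eq_of_le hN.le, map_le_cent_iff K.subtype_injective]
    refine (ha.comap K.subtype_injective).cent_of_disj (NormalIn.top_iff.2 hN.normal_subgroupOf) ?_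
      fun x a b => by_contra fun c => n (hN.le.antisymm (hm ⟨sn N hN, x, a, b, fun e =>
        c (Subtype.ext e)⟩ hN.le))
    rw [← map_eq_bot_iff_of_injective _ K.subtype_injective, OO, core_subgroupOf _ hN.le]
    exact (subn_bot h0 h2 (sn N hN)).1
  haveI : Nontrivial K := (nontrivial_iff_ne_bot K).2 K1
  haveI : IsSimpleGroup K := ⟨fun N _ => (sm _ (.map_subtype N)).imp
    (map_eq_bot_iff_of_injective _ K.subtype_injective).1 fun e => map_injective K.subtype_injective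
      (by rw [e, ← MonoidHom.range_eq_map, range_subtype])⟩
  obtain ⟨A, hA, -, a1⟩ := exists_mxs ha (ha.two y y1) (zpowers_le.2 y2)
  have a2 := a1 y (mem_zpowers y) y1
  obtain ⟨T, -, t1, t2⟩ := rr_loc hs loc hT h1 hA.two
  have dA : pc 𝐂(T) ≤ 𝐂(A) := pc_le.trans (cent_anti fun x h => t1 x h (ma x (hA.sub x h)).2.1)
  have sq : Sq A := fun x h => (ma x (hA.sub x h)).2.2
  refine simple_case ((sm _ (.der1 K)).resolve_left fun e => K1 ((subn_bot h0 h2 k1).2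
    (comm_eq_bot_iff.1 e))).ge hA.le (ne_bot_of_mem a2 y3) sq ⟨hA.two.comap_subtype,
      (Sq.cent fun x hx => Subtype.ext (sq x hx)), fun x hx g hg => hA.subgroupOf.max _
        ((ha.comap K.subtype_injective).conj x (hA.sub x hx) g) trivial hg⟩ (pc_perf _)
    (fun x h => t2 x h (ma x (hA.sub x h)).1) dA fun d hd => ?_
  refine conj_eq_self_iff.1 (eq_of_le_of_card_le ((hm (y := K ⊓ d ⋆ K) ⟨k1.inf (k1.smul _), y, y1,
    ⟨y2, ?_⟩, y3⟩ inf_le_left).trans inf_le_right) (card_conj d K).le).symm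
  have := conj_mem_conj d y2
  rwa [← mem_cent.1 (dA hd) y a2, mul_inv_cancel_right] at this

theorem cl_aux [GoS] (n : ℕ) : ∀ {G : Type} [Group G] [Finite G], Nat.card G = n →
    ∀ {s : Set G}, SCS s → Cl s ⊤ := by
  induction n using Nat.strong_induction_on with
  | _ n ih =>
  intro G _ _ hn s hs T D hT _ hD hc
  have loc : ∀ H : Subgroup G, H ≠ ⊤ → Cl s H := fun H hH T D hT h1 h2 h3 => by
    rw [← map_nn_top s H, ← map_subgroupOf_eq_of_le h1, ← Subgroup.map_commutator, OO, ← core_top_map]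
    refine map_mono (ih _ (hn ▸ (card_le_card_group H).lt_of_ne (mt (card_eq_iff_eq_top _).1 hH)) rfl
      (hs.comap H.subtype_injective) _ _ hT.subgroupOf le_top ?_ ?_)
    · rwa [← map_le_map_iff_of_injective H.subtype_injective, Subgroup.map_commutator,
        map_subgroupOf_eq_of_le h1]
    · rwa [← map_le_cent_iff H.subtype_injective, map_subgroupOf_eq_of_le h1,
        map_subgroupOf_eq_of_le hT.le]
  have quo : ∀ (K : Subgroup G) [K.Normal], K ≠ ⊥ →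
      ⁅D, nn s ⊤⁆ ≤ (OO ⊤).comap (QuotientGroup.mk' K) := fun K _ h1 => by
    rw [← map_le_iff_le_comap, Subgroup.map_commutator, map_nn]
    exact ih _ (by
      rw [← hn, card_eq_card_quotient_mul_card_subgroup K]
      exact lt_mul_of_one_lt_right Nat.card_pos ((one_lt_card_iff_ne_bot K).2 h1)) rfl
      (hs.map (QuotientGroup.mk'_surjective K)) _ _ (hT.map hs _) le_top (perf_map hD _)
      (map_le_cent _ hc)
  have n1 := hs.nn_normal ⊤
  by_cases h0 : OO (⊤ : Subgroup G) = ⊥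
  swap
  · haveI := NormalIn.top_iff.1 (core_normal {2}ᶜ (⊤ : Subgroup G))
    have e := B1.core_map_mk_eq_bot {2}ᶜ (⊤ : Subgroup G)
    rw [map_top_of_surjective _ (QuotientGroup.mk'_surjective _)] at e
    have := quo _ h0
    have := this.trans (comap_mono e.le)
    rwa [MonoidHom.comap_bot, QuotientGroup.ker_mk'] at this
  rw [h0, le_bot_iff, comm_eq_bot_iff]
  have q1 := core_normal {2} (⊤ : Subgroup G)
  have q2 := core_pgroup Nat.prime_two (⊤ : Subgroup G)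
  by_cases h2 : core {2} (⊤ : Subgroup G) = ⊥
  swap
  · by_cases k1 : hs.sub q2 = ⊥
    · haveI := NormalIn.top_iff.1 q1
      have c := hs.cent_of_disj q1 (core_eq_bot (by rw [compl_compl]; exact core_pi _ _))
        fun x a b => mem_bot.1 (k1 ▸ ⟨a, b⟩)
      exact cent_nn hs hT hc (((le_inf (quo _ h2) ((n1.comm_le_right le_top).trans c)).trans
        (comap_inf_cent_le h0 q2)).trans (le_cent_symm c))
    have k2 : hs.sub q2 ⊴ ⊤ := ⟨le_top, q1.norm.trans (hs.norm_sub q2)⟩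
    haveI := NormalIn.top_iff.1 k2
    obtain ⟨g, -, hg⟩ := hT.exists_conj hs le_top (q2.to_le (hs.sub_le q2)) fun _ h => h.1
    rw [k2.conj_eq trivial] at hg
    have c := hc.trans (cent_anti hg)
    have := ((le_inf (quo _ k1) ((commutator_mono c le_top).trans (NormalIn.comm_le_left
      ⟨le_top, le_norm_cent k2.norm⟩ le_rfl))).trans (comap_inf_cent_le h0
        (q2.to_le (hs.sub_le q2)))).trans (le_cent_symm c)
    rw [commutator_comm] at this
    exact comm_eq_bot_iff'.1 (le_bot_iff.1 (perf_comm hD (le_top.trans norm_bot.ge)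
      (le_top.trans norm_bot.ge) (comm_eq_bot_iff.2 this).le))
  by_cases h1 : T = ⊥
  · refine le_cent_symm ((closure_le _).2 fun x hx => ?_)
    obtain ⟨g, -, hg⟩ := hT.exists_conj1 hs hx.1 trivial
    rw [h1, mem_bot, conj_eq_one_iff] at hg
    exact hg ▸ one_mem _
  have loc' : ∀ U : Subgroup G, U ≠ ⊥ → IsPGroup 2 U → Cl s 𝐍(U) := fun U a b => loc _ fun e =>
    a (le_bot_iff.1 (h2 ▸ le_core_of_pgroup Nat.prime_two ⟨le_top, e.ge⟩ b))
  have hr := scs_rr hs loc' hT h1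
  have := (Pair.mk hr hs (fun R hR x a y b c d => by
    obtain ⟨T, -, k1, k2⟩ := rr_loc hs loc' hT h1 hR
    exact (mem_cent.1 (pc_le (k2 x c a)) y (k1 y d b)).symm)
    fun x a b => not_inter hs loc' hT h1 h0 h2 a b).comm_le ⊤
  rw [h0, le_bot_iff, comm_eq_bot_iff] at this
  exact ((le_pc hc hD).trans (le_nn_rr hr hT)).trans this

theorem cl_top [GoS] {G : Type*} [Group G] [Finite G] {s : Set G} (hs : SCS s) : Cl s ⊤ :=
  fun T D hT _ hD hc => by
    obtain ⟨K, _, _, ⟨e⟩⟩ := Be.exists_small G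
    have := cl_aux _ rfl (hs.map (f := e.toMonoidHom) e.surjective) _ _ (hT.map hs _) le_top
      (perf_map hD _) (map_le_cent _ hc)
    rwa [← map_nn, ← Subgroup.map_commutator, ← map_top_of_surjective e.toMonoidHom e.surjective, OO,
      ← map_core_inj _ _ e.injective, map_le_map_iff_of_injective e.injective] at this

theorem pc_eq {G : Type*} [Group G] [Finite G] (X : Subgroup G) :
    (⨅ n : ℕ, derivedSeries X n).map X.subtype = pc X := by
  refine le_antisymm ?_ fun x hx => ⟨⟨x, pc_le hx⟩, mem_iInf.2 fun n => ?_, rfl⟩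
  · obtain ⟨_, ⟨n, rfl⟩, hn⟩ := exists_minimal_of_wellFoundedLT (· ∈ Set.range (der X)) ⟨_, 0, rfl⟩
    exact (map_mono (iInf_le _ n)).trans ((der_eq_derivedSeries X n).ge.trans
      (le_pc (der_le X n) (hn ⟨n + 1, rfl⟩ (der_succ_le X n))))
  have : pc X ≤ der X n := by
    induction n with
    | zero => exact pc_le
    | succ n ih => exact (pc_perf X).trans (der1_mono ih)
  obtain ⟨y, hy, e⟩ := (der_eq_derivedSeries X n).le (this hx)
  rwa [← show y = ⟨x, pc_le hx⟩ from Subtype.ext e]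

theorem s1173 [GoS] {G : Type*} [Group G] [Finite G] (hO : oddCore G = ⊥) (S : Sylow 2 G)
    (T : Subgroup G) (hT : IsStronglyClosed T (S : Subgroup G)) :
    ((⨅ n : ℕ, derivedSeries 𝐂(T) n).map (𝐂(T)).subtype).Normal := by
  have hs := scs_cl S hT
  have h1 : Mxs (cl T) ⊤ T := by
    have := Mxs.of_sylow hs (isSylowIn_top S)
    rwa [show hs.sub _ = T from le_antisymm (fun x hx => by
      simpa using mem_of_cl hT hx.1 (g := 1) (by rw [inv_one, mul_one, one_mul]; exact hx.2)) fun x hx =>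
        ⟨mem_cl hx, hT.1 hx⟩] at this
  have h2 := cl_top hs T _ h1 le_top (pc_perf _) pc_le
  rw [OO_top_eq, hO, le_bot_iff, comm_eq_bot_iff] at h2
  rw [pc_eq, le_antisymm (le_pc h2 (pc_perf _)) (pc_mono (cent_anti (le_nn h1.sub le_top)))]
  exact NormalIn.top_iff.1 ⟨le_top, (le_norm_cent (hs.nn_normal ⊤).norm).trans (norm_pc _)⟩

end Cfsg.Agent.Go
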