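import Cfsg.Agent.Go.EA2

/-! A four-group that is a direct factor of a Sylow subgroup. -/

set_option autoImplicit false
set_option maxHeartbeats 400000

namespace Cfsg.Agent.Go.EA

open Subgroup Cfsg.Agent.H1 Cfsg.Agent.L Cfsg.Agent.FT Cfsg.Agent.Sg Cfsg.Agent.R1
open scoped Pointwise commutatorElement

variable {G : Type*} [Group G] [Finite G] {A T : Subgroup G} {ρ n : G}

theorem sq_cent (sq : Sq A) (h4 : #|A| = 4) (h1 : ρ ∈ 𝐍(A)) {x : G} (hx : x ∈ A) (x1 : x ≠ 1)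
    (e : ρ * x * ρ⁻¹ = x) : ρ * ρ ∈ 𝐂(A) := mem_cent.2 fun y hy => by
  suffices ρ * (ρ * y * ρ⁻¹) * ρ⁻¹ = y by
    calc _ = ρ * (ρ * y * ρ⁻¹) * ρ⁻¹ * (ρ * ρ) := by rw [this]
      _ = _ := by group
  by_cases y1 : y = 1
  · simp [y1]
  by_cases y2 : x = y
  · rw [← y2, e, e]
  rcases four_cases sq h4 hx hy x1 y1 y2 (conj_mem_of_mem_normalizer h1 hy) with k | k | k | k
  · exact absurd (conj_eq_one_iff.1 k) y1
  · exact absurd (by simpa using e.trans k.symm) y2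
  · rw [k, k]
  · rw [k, ← conj_mul, e, k, ← mul_assoc, sq x hx, one_mul]

theorem fpf' (sq : Sq A) (h4 : #|A| = 4) (ho : Odd (𝐂(A)).index) (h1 : ρ ∈ 𝐍(A)) (h2 : ρ ∉ 𝐂(A))
    {x : G} (hx : x ∈ A) (e : ρ * x * ρ⁻¹ = x) : x = 1 := by_contra fun x1 =>
  h2 (Sm.mem_of_odd_index ho (norm_le_norm_cent A h1) (sq_cent sq h4 h1 hx x1 e))

theorem norm_le (sq : Sq A) (h4 : #|A| = 4) (ho : Odd (𝐂(A)).index) (h1 : ρ ∈ 𝐍(A)) (h2 : ρ ∉ 𝐂(A))
    (hn : n ∈ 𝐍(A)) : ∃ z ∈ zpowers ρ, n * z ∈ 𝐂(A) := by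
  obtain ⟨a, ha, a1, -⟩ := exists_third h4.ge (1 : G)
  have f := fun {x} => fpf' sq h4 ho h1 h2 (x := x)
  have k : ∀ z ∈ zpowers ρ, z * a * z⁻¹ = n⁻¹ * a * n → ∃ z ∈ zpowers ρ, n * z ∈ 𝐂(A) :=
    fun z hz e => ⟨z, hz, by_contra fun k => a1 (fpf' sq h4 ho (mul_mem hn (zpowers_le.2 h1 hz)) k ha
      (by rw [mul_assoc n z, mul_inv_rev, ← mul_assoc, mul_assoc n, e]; group))⟩
  have ha' := conj_mem_of_mem_normalizer h1 ha
  have n1 := mt (conj_eq_one_iff (a := ρ)).1 a1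
  have n2 := Ne.symm (mt (f ha) a1)
  rcases four_cases sq h4 ha ha' a1 n1 n2 (conj_mem_of_mem_normalizer' hn ha) with e | e | e | e
  · exact absurd (conj_eq_one_iff.1 (by rwa [inv_inv] : n⁻¹ * a * n⁻¹⁻¹ = 1)) a1
  · exact k 1 (one_mem _) (by simp [e])
  · exact k ρ (mem_zpowers ρ) e.symm
  refine k (ρ * ρ) (mul_mem (mem_zpowers ρ) (mem_zpowers ρ)) ?_
  rw [show ρ * ρ * a * (ρ * ρ)⁻¹ = ρ * (ρ * a * ρ⁻¹) * ρ⁻¹ by group, e]
  rcases four_cases sq h4 ha ha' a1 n1 n2 (conj_mem_of_mem_normalizer h1 ha') with l | l | l | l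
  · exact absurd (conj_eq_one_iff.1 l) n1
  · exact absurd (eq_inv_of_mul_eq_one_left (f (mul_mem ha ha') (by
      rw [← conj_mul, l, mem_cent.1 (sq.cent ha) _ ha']))) (by rwa [sq.inv ha'])
  · exact absurd (f ha' l) n1
  · exact l

theorem eq_of_split [IsSimpleGroup G] (sc : SC A) (sq : Sq A) (h4 : #|A| = 4) (S : Sylow 2 G)
    (h1 : A ≤ S) (h2 : (S : Subgroup G) ≤ 𝐂(A)) (h3 : (S : Subgroup G) ≤ A ⊔ T) (hT : T ≤ 𝐍(A))
    (hd : A ⊓ T = ⊥) (r1 : ρ ∈ 𝐍(A)) (r2 : ρ ∈ 𝐂(T)) (r3 : ρ ∉ 𝐂(A)) : (S : Subgroup G) = A := by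
  have ho : Odd (𝐂(A)).index := by
    rw [← Nat.not_even_iff_odd, even_iff_two_dvd]
    exact fun e => S.not_dvd_index (e.trans (index_dvd_of_le h2))
  have dec : (S : Subgroup G) ≤ A ⊔ (S : Subgroup G) ⊓ T := by
    rw [inf_comm, ← sup_inf_modular h1 (Or.inl hT)]; exact le_inf h3 le_rfl
  have nR : A ≤ 𝐍((S : Subgroup G) ⊓ T) := le_norm_of_le_cent (le_cent_symm (inf_le_left.trans h2))
  have der : ⁅(S : Subgroup G), (S : Subgroup G)⁆ ≤ (S : Subgroup G) ⊓ T := (commutator_mono dec le_rfl).trans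
    (comm_sup_left_le ((comm_eq_bot_iff'.2 h2).trans_le bot_le) ((commutator_mono le_rfl dec).trans
      (comm_le_left (sup_le nR le_normalizer))) nR le_normalizer)
  have key : ∀ a ∈ A, a ∈ ⁅𝐂(A), 𝐂(A)⁆ → a = 1 := fun a ha e => by_contra fun a1 => by
    rw [der1_eq_commutator] at e
    obtain ⟨a, e, rfl⟩ := e
    refine H6.not_mem_commutator_of_controlled (p := 2) ((S : Subgroup G).subgroupOf 𝐂(A))
      (((S : Subgroup G) ⊓ T).subgroupOf 𝐂(A))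
      ((NormalIn.of_der1_le inf_le_left der).subgroupOf _).normal_subgroupOf
      (fun x hx y hy => der (commutator_mem_commutator hx hy))
      ((Nat.Prime.coprime_iff_not_dvd Nat.prime_two).2
        ((L.isSylowIn_top S).of_le h2 le_top).not_dvd_relIndex) a (h1 ha)
      (fun k => a1 (mem_bot.1 (hd.le ⟨ha, k.2⟩))) ⟨1, Subtype.ext (by simpa [pow_two] using sq _ ha)⟩
      (fun m g _ => ?_) e
    rw [show g * a ^ m = a ^ m * g from Subtype.ext (mem_cent.1 g.2 _ (pow_mem ha m)).symm,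
      mul_inv_cancel_right, mul_inv_cancel]
    exact one_mem _
  have T0 : (S : Subgroup G) ⊓ T = ⊥ := by
    by_contra e
    have k : ∀ {U : Subgroup G}, U ≠ ⊥ → normalClosure (U : Set G) = ⊤ := fun e =>
      (Normal.eq_bot_or_eq_top inferInstance).resolve_left (ne_bot_of_le e le_normalClosure)
    have A1 : A ≠ ⊥ := fun e => by rw [e, card_bot] at h4; omega
    have := Sg.dp S (T := A) (U := (S : Subgroup G) ⊓ T) ⟨h1, fun x hx g hg => sc.mem x hx g (cent_le_norm A (h2 hg))⟩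
      ⟨inf_le_left, fun x hx g hg => ?_⟩ (inf_le_left.trans h2)
      (eq_bot_iff.2 (hd ▸ inf_le_inf_left _ inf_le_right))
    · rw [k e, k A1, der_top A1 fun e => r3 (sq.cent (e ▸ trivial)), ← OO_top_eq] at this
      exact A1 (eq_bot_iff.2 (inf_eq_bot_of_two sq.two (odd_core ⊤) ▸
        le_inf (le_top.trans this) le_rfl))
    obtain ⟨n, hn, e⟩ := sc.ctrl h1 hx.1 hg
    obtain ⟨z, hz, c⟩ := norm_le sq h4 ho r1 r3 hn
    have e2 : g * x * g⁻¹ * x⁻¹ = ⁅n * z, x⁆ := by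
      rw [← e, commutatorElement_def, mul_assoc n z, ← mem_cent.1 (zpowers_le.2 r2 hz) x hx.2]; group
    obtain ⟨α, hα, r, hr, e3⟩ := (H1.mem_sup_of_le_normalizer nR).1 (dec hg)
    have m : α * (r * x⁻¹) ∈ ⁅𝐂(A), 𝐂(A)⁆ := by
      rw [← mul_assoc, e3, e2]; exact commutator_mem_commutator c (h2 hx.1)
    have := key _ (mul_mem (conj_mem_of_mem_normalizer r1 hα) (inv_mem hα)) (by
      have := mul_mem (conj_mem_of_mem_normalizer (norm_le_norm_der1 _ (norm_le_norm_cent A r1)) m)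
        (inv_mem m)
      rwa [← conj_mul, ← mem_cent.1 r2 _ (mul_mem hr.2 (inv_mem hx.2)), mul_inv_cancel_right,
        mul_inv_rev, mul_assoc, mul_inv_cancel_left] at this)
    rw [← e3, fpf' sq h4 ho r1 r3 hα (mul_inv_eq_one.1 this), one_mul]
    exact hr
  exact le_antisymm (by rwa [T0, sup_bot_eq] at dec) h1

end Cfsg.Agent.Go.EA
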