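import Cfsg.Agent.Go.E2
import Cfsg.Agent.FT.CFBasic4
import Cfsg.Agent.H3.Princ

/-! The principal `2`-block, packaged for the case `β` of the rank two endgame. -/

set_option autoImplicit false
set_option maxHeartbeats 400000

namespace Cfsg.Agent.Go.E

open Subgroup Cfsg Cfsg.Agent.H1 Cfsg.Agent.L Cfsg.Agent.FT Cfsg.Agent.Sg Cfsg.Agent.H5
  Cfsg.Agent.H3
open scoped Pointwise commutatorElement ComplexConjugate

variable {G : Type} [Group G] [Finite G] {L N : Subgroup G} {χ : G → ℂ} {g v w w' x x' : G}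

/-- `2`-elements -/
abbrev Two (x : G) : Prop := ∃ k, orderOf x = 2 ^ k

/-- `L / N` has just one `2`-block -/
def OneB (L N : Subgroup G) : Prop := ∃ Q : Subgroup G, IsPGroup 2 Q ∧ N ⊔ Q ⊴ L ∧
  ∀ g ∈ L, Odd (orderOf g) → (∀ q ∈ Q, g * q * g⁻¹ * q⁻¹ ∈ N) → g ∈ N

/-- what is used of the principal block -/
structure Blk (P : (G → ℂ) → Prop) : Prop where
  one : P (cf1 ⊤)
  const : ∀ {χ : G → ℂ} {x v w : G} {N : Subgroup G}, Irr ⊤ χ → P χ → Two x → N ⊴ 𝐂[x] →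
    Odd #|N| → v ∈ 𝐂[x] → Odd (orderOf v) → w ∈ N → χ (w * (v * x)) = χ (v * x)
  avg : ∀ {χ : G → ℂ} {x v : G} {N : Subgroup G}, Irr ⊤ χ → ¬ P χ → Two x → N ⊴ 𝐂[x] →
    Odd #|N| → OneB 𝐂[x] N → v ∈ 𝐂[x] → Odd (orderOf v) → cosAv N χ (v * x) = 0

omit [Finite G] in
theorem irr_top (h : Irr ⊤ χ) : IsIrrCharacter G χ := h.irr.comp_mulEquiv topEquiv.symm

theorem part (hx : Two x) (hv : v ∈ 𝐂[x]) (o : Odd (orderOf v)) : pPart 2 (v * x) = x := by
  rw [mem_cent1.1 hv]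
  exact pPart_mul_of (mem_cent1.1 hv).symm hx (Nat.two_dvd_ne_zero.2 (Nat.odd_iff.1 o))

theorem conj_part (hx : Two x) (hx' : Two x') (hw : w ∈ 𝐂[x]) (hw' : w' ∈ 𝐂[x'])
    (o : Odd (orderOf w)) (o' : Odd (orderOf w')) (e : g * (w * x) * g⁻¹ = w' * x') :
    g * x * g⁻¹ = x' := by
  rw [← part hx' hw' o', ← e, pPart_conj, part hx hw o]

theorem odd_mul (hN : Odd #|N|) (hv : v ∈ 𝐍(N)) (o : Odd (orderOf v)) (hw : w ∈ N) :
    Odd (orderOf (w * v)) :=
  Be.odd_orderOf_of_mem (odd_sup hN (by rwa [Nat.card_zpowers]) (Or.inr (zpowers_le.2 hv)))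
    (mul_mem_sup hw (mem_zpowers v))

theorem one_block {M : Ideal AlgInt} [M.IsMaximal] [CharP (Res M) 2] (hN : N ⊴ L)
    (h : OneB L N) {ψ : IrrCharacter L} (hψ : ∀ n : L, (n : G) ∈ N → ψ.1 n = ψ.1 1) :
    ψ ∈ principalBlock M L := by
  obtain ⟨Q, hQ, nQ, h⟩ := h
  obtain ⟨W, _, _, φ, p1, p2⟩ := exists_quo hN
  have su : Function.Surjective φ := fun w => let ⟨x, _, e⟩ := p1.ge (mem_top w); ⟨x, e⟩
  obtain ⟨θ, rfl⟩ := exists_inflIrr_eq φ su (ψ := ψ) fun n hn => hψ n (p2 ▸ coe_mem_mker.2 hn)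
  have QL : Q ≤ L := le_sup_right.trans nQ.le
  haveI : (mim φ Q).Normal := NormalIn.top_iff.1 (by
    rw [← p1, ← mim_mker_sup φ QL, p2]; exact nQ.mim φ)
  refine inflIrr_mem_principalBlock φ su (sameBlock_of_centralizer_le (p := 2) (pgroup_mim hQ φ)
    (fun y hy o => ?_) (irrOne W) θ)
  obtain ⟨y, o', rfl⟩ := exists_pReg_lift φ su o
  refine coe_mem_mker.1 (p2.ge (h y y.2 ?_ fun q hq => ?_))
  · rw [Subgroup.orderOf_coe y]; exact Nat.odd_iff.2 (Nat.two_dvd_ne_zero.1 o')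
  · rw [← p2]
    refine (coe_mem_mker (f := φ) (x := y * ⟨q, QL hq⟩ * y⁻¹ * ⟨q, QL hq⟩⁻¹)).2 ?_
    simp only [map_mul, map_inv]
    rw [← mem_cent.1 hy _ (mem_mim_of_mem φ ⟨q, QL hq⟩ hq)]; group

theorem exists_blk (G : Type) [Group G] [Finite G] : ∃ P : (G → ℂ) → Prop, Blk P := by
  classical
  obtain ⟨M, hM⟩ := H5.exists_isPModular 2
  haveI := hM.2.1
  haveI := charP_res hM
  refine ⟨fun χ => SameBlock M (fun _ => 1) χ, ?_, ?_, ?_⟩
  · rw [show cf1 (⊤ : Subgroup G) = fun _ => 1 from funext fun x => cf1_of_mem (mem_top x)]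
    exact sameBlock_refl _
  · intro χ x v w N hχ hP hx hN oN hv ov hw
    have := Fintype.ofFinite (cz x)
    have m : v * x ∈ cz x := mul_mem hv (self_mem_cent1 x)
    have h1 := apply_eq_sum_principal (M := M) hx (χ := ⟨χ, irr_top hχ⟩) hP
      (⟨v * x, m⟩ * ⟨(v * x)⁻¹ * w * (v * x), mul_mem (mul_mem (inv_mem m) (hN.le hw)) m⟩) (by
        rw [coe_mul, show v * x * ((v * x)⁻¹ * w * (v * x)) = w * v * x by group]
        exact part hx (mul_mem (hN.le hw) hv) (odd_mul oN (hN.norm hv) ov hw))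
    have h2 := apply_eq_sum_principal (M := M) hx (χ := ⟨χ, irr_top hχ⟩) hP ⟨v * x, m⟩
      (part hx hv ov)
    haveI := hN.normal_subgroupOf
    refine Eq.trans (congrArg χ (by simp [mul_assoc])) (h1.trans (Eq.trans
      (Finset.sum_congr rfl fun ψ hψ => ?_) h2.symm))
    rw [ψ.2.isCharacter.apply_mul_of_eq_apply_one (ker_of_mem_principalBlock (p := 2)
      (N.subgroupOf (cz x)) (by
        rw [L.card_subgroupOf_of_le hN.le]; exact Nat.two_dvd_ne_zero.2 (Nat.odd_iff.1 oN))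
      (by simpa using hψ) _ (mem_subgroupOf.2 (hN.conj_mem' m hw)))]
  · intro χ x v N hχ hP hx hN oN hB hv ov
    have := Fintype.ofFinite (cz x)
    have := Fintype.ofFinite N
    have cf : IsClassFunction (cz x) fun k => χ k := fun g h =>
      hχ.cf.conj_eq _ (mem_top _) _
    have k : ∀ w : N, χ (w * (v * x)) = ∑ ψ with ψ ∉ principalBlock M (cz x),
        classInner (fun k : cz x => χ k) ψ * extendByZero (cz x) ψ.1 (w * (v * x)) := fun w => by
      have m : w * (v * x) ∈ cz x := mul_mem (hN.le w.2) (mul_mem hv (self_mem_cent1 x))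
      have h1 := blockPart_principal_eq (M := M) hx (irr_top hχ).isClassFunction ⟨_, m⟩ (by
        rw [coe_mk, ← mul_assoc]
        exact part hx (mul_mem (hN.le w.2) hv) (odd_mul oN (hN.norm hv) ov w.2))
      rw [blockPart_irr_of_notMem (χ := ⟨χ, irr_top hχ⟩) hP, blockPart_eq_sum] at h1
      have h2 := cf.apply_eq_sum_irr ⟨_, m⟩
      rw [← Finset.sum_filter_add_sum_filter_not _ (· ∈ principalBlock M (cz x)), ← h1] at h2
      refine (h2.trans (zero_add _)).trans (Finset.sum_congr rfl fun ψ _ => ?_)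
      rw [← H4.ebz_coe (cz x) ψ.1 ⟨_, m⟩]
    rw [cosAv_eq, Finset.sum_congr rfl fun w _ => k w, Finset.sum_comm, Finset.sum_eq_zero,
      mul_zero]
    intro ψ hψ
    rw [← Finset.mul_sum, (irr_ebz ψ.2).sum_mul_eq_zero hN, mul_zero]
    refine fun e => (Finset.mem_filter.1 hψ).2 (one_block hN hB fun n hn => ?_)
    exact (H4.ebz_coe _ ψ.1 n).symm.trans ((apply_of_mem_cfker (e hn)).trans
      (H4.ebz_coe _ ψ.1 1))

end Cfsg.Agent.Go.E
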