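import Cfsg.Agent.Go.EB1

/-! Columns of the character table averaged over cosets, and the final inequality. -/

set_option autoImplicit false
set_option maxHeartbeats 400000

namespace Cfsg.Agent.Go.E

open Subgroup Cfsg Cfsg.Agent.H1 Cfsg.Agent.L Cfsg.Agent.FT Cfsg.Agent.Sg
open scoped Pointwise commutatorElement ComplexConjugate

theorem numeric {ι : Type*} {s : Finset ι} {o : ι} (ho : o ∈ s) {c y : ι → ℤ} {D : ι → ℝ} {m : ℝ}
    (c1 : c o = 1) (y1 : y o = 1) (D1 : D o = 1) (hn : ∑ i ∈ s, c i ^ 2 ≤ 5)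
    (h0 : ∑ i ∈ s, c i * D i = 0) (hp : ∑ i ∈ s, (c i : ℝ) * (y i ^ 2 / D i) ≤ 0)
    (hy : ∑ i ∈ s with c i ≠ 0, (y i : ℝ) ^ 2 ≤ m) (hD : ∀ i ∈ s, i ≠ o → c i ≠ 0 → m ≤ D i) :
    False := by
  classical
  rw [Finset.sum_filter] at hy
  rw [← Finset.add_sum_erase _ _ ho] at hn h0 hp hy
  simp only [c1, y1, D1, one_pow, Int.cast_one, one_mul, div_one, ne_eq, one_ne_zero,
    not_false_eq_true, if_true] at hn h0 hp hy
  have n0 : 0 ≤ ∑ i ∈ s.erase o, if ¬ c i = 0 then (y i : ℝ) ^ 2 else 0 :=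
    Finset.sum_nonneg fun i _ => by split_ifs <;> positivity
  have m1 : 1 ≤ m := by linarith
  by_cases h : ∀ i ∈ s.erase o, -1 ≤ c i
  · have : ∑ i ∈ s.erase o, -(if ¬ c i = 0 then (y i : ℝ) ^ 2 else 0) / m ≤
        ∑ i ∈ s.erase o, (c i : ℝ) * (y i ^ 2 / D i) := Finset.sum_le_sum fun i hi => by
      split_ifs with e
      · simp [e]
      · have d := hD i (Finset.mem_of_mem_erase hi) (Finset.ne_of_mem_erase hi) e
        have : (-1 : ℝ) ≤ c i := by exact_mod_cast h i hi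
        have k : (y i : ℝ) ^ 2 / D i ≤ y i ^ 2 / m := by gcongr
        have k0 : 0 ≤ (y i : ℝ) ^ 2 / D i := div_nonneg (sq_nonneg _) (by linarith)
        rw [neg_div]; nlinarith
    rw [← Finset.sum_div, Finset.sum_neg_distrib, div_le_iff₀ (by linarith)] at this
    nlinarith
  · push Not at h
    obtain ⟨i, hi, e⟩ := h
    rw [← Finset.add_sum_erase _ _ hi] at hn h0
    have z : ∑ j ∈ (s.erase o).erase i, c j ^ 2 = 0 :=
      le_antisymm (by nlinarith) (Finset.sum_nonneg fun _ _ => sq_nonneg _)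
    rw [Finset.sum_eq_zero_iff_of_nonneg fun _ _ => sq_nonneg _] at z
    rw [Finset.sum_eq_zero fun j hj => by rw [pow_eq_zero_iff two_ne_zero |>.1 (z j hj)]; simp]
      at h0
    have d := hD i (Finset.mem_of_mem_erase hi) (Finset.ne_of_mem_erase hi) (by omega)
    have : (c i : ℝ) ≤ -2 := by exact_mod_cast (show c i ≤ -2 by omega)
    nlinarith

variable {G : Type} [Group G] [Finite G] {L N N' : Subgroup G} {χ F Φ Y : G → ℂ} {a g x : G}

/-- the indicator function of the coset `N x` -/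
noncomputable def cs (N : Subgroup G) (x : G) : G → ℂ := fun g => cf1 N (g * x⁻¹)

/-- the class function dual to `χ ↦ cosAv N χ x` -/
noncomputable def col (N : Subgroup G) (x : G) : G → ℂ := ind ⊤ N (cs N x)

theorem cf_col (N : Subgroup G) (x : G) : FT.CF ⊤ (col N x) :=
  cf_ind N fun y h => absurd (mem_top y) h

theorem dot_cs (hN : N ≤ L) (hx : x ∈ L) (F : G → ℂ) :
    (#|L| : ℂ) * dot L F (cs N x) = #|N| * cosAv N F x := by
  classical
  have := Fintype.ofFinite G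
  rw [dot_eq_sum_univ fun y hy => by
      rw [cs, cf1_of_notMem fun m => hy (by simpa using mul_mem (hN m) hx)]; simp,
    cosAv_eq, mul_inv_cancel_left₀ (card_ne_zero_C L), mul_inv_cancel_left₀ (card_ne_zero_C N),
    ← Equiv.sum_comp (Equiv.mulRight x), sum_coe_eq_sum_filter N fun k => F (k * x),
    Finset.sum_filter]
  refine Finset.sum_congr rfl fun y _ => ?_
  by_cases h : y ∈ N <;> simp [cs, h, cf1_of_notMem]

theorem dot_col (hF : FT.CF ⊤ F) (N : Subgroup G) (x : G) : dot ⊤ F (col N x) = cosAv N F x := by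
  rw [col, ind_eq_smul_ind ⊤ N ⊤, dot_smul_right,
    dot_ind_right le_rfl (fun y h => absurd (mem_top y) h) hF.le_inert, map_div₀, map_natCast,
    map_natCast, div_mul_eq_mul_div, dot_cs le_top (mem_top x),
    mul_div_cancel_left₀ _ (card_ne_zero_C N)]

theorem col_apply (h : ∀ y, y * g * y⁻¹ * x⁻¹ ∈ N ↔ y ∈ L) : col N x g = (#|L| : ℂ) / #|N| := by
  classical
  have := Fintype.ofFinite G
  rw [col, ind_apply', sum_coe_eq_sum_univ ⊤ (f := fun y => cs N x (y * g * y⁻¹))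
    fun y h => absurd (mem_top y) h, Finset.sum_congr rfl fun y _ => show _ = cf1 L y by
      rw [cs, cf1_apply, cf1_apply]; simp only [h],
    ← sum_coe_eq_sum_univ L fun y => cf1_of_notMem]
  simp [div_eq_inv_mul]

theorem col_zero (h : ∀ y, y * g * y⁻¹ * x⁻¹ ∉ N) : col N x g = 0 :=
  ind_apply_eq_zero fun y _ => cf1_of_notMem (h y)

theorem cosAv_zero (hN : N ≤ N') (h : ∀ v ∈ N', cosAv N F (v * x) = 0) : cosAv N' F x = 0 := by
  have := Fintype.ofFinite N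
  have := Fintype.ofFinite N'
  have k : ∑ v : N', ∑ w : N, F (w * (v * x)) = 0 := Finset.sum_eq_zero fun v _ => by
    have := h v v.2
    rwa [cosAv_eq, mul_eq_zero_iff_left (inv_ne_zero (card_ne_zero_C N))] at this
  rw [Finset.sum_comm, Finset.sum_congr rfl fun w _ => show _ = ∑ v : N', F (v * x) from
    (Equiv.sum_comp (Equiv.mulLeft (⟨w, hN w.2⟩ : N')) fun v => F (v * x)).symm ▸ by
      simp [mul_assoc], Finset.sum_const, Finset.card_univ, nsmul_eq_mul, ← Nat.card_eq_fintype_card,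
    mul_eq_zero_iff_left (card_ne_zero_C N)] at k
  rw [cosAv_eq, k, mul_zero]

theorem cosAv_int (hχ : VChr ⊤ χ) (sq : a * a = 1) (ha : a ∈ 𝐍(N)) (h : a ∉ N) :
    ∃ n : ℤ, cosAv N χ a = n := by
  obtain ⟨n, hn⟩ := hχ.exists_int_dot_res (vchr_cf1 (N ⊔ zpowers a)) le_top
  obtain ⟨m, hm⟩ := hχ.exists_int_dot_res (vchr_cf1 N) le_top
  have a1 : a ≠ 1 := fun e => h (e ▸ one_mem N)
  have o : #|zpowers a| = 2 := by
    rw [Nat.card_zpowers, orderOf_eq_prime (p := 2) (by rwa [pow_two]) a1]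
  have c : #|N ⊔ zpowers a| = #|N| * 2 := by
    rw [(SDProd.mk_sup (zpowers_le.2 ha) ?_).card, o]
    rw [inf_comm]
    exact inf_eq_bot_of_prime (o ▸ Nat.prime_two) (mt zpowers_le.1 h)
  have e : dot (N ⊔ zpowers a) χ (cf1 _) = dot (N ⊔ zpowers a) χ (cs N 1 + cs N a) :=
    dot_congr (fun _ _ => rfl) fun y hy => by
      rw [cf1_of_mem hy, Pi.add_apply, cs, cs, inv_one, mul_one, inv_eq_of_mul_eq_one_right sq]
      rcases EA.sup_cases sq ha hy with k | k
      · rw [cf1_of_mem k, cf1_of_notMem (mt (N.mul_mem_cancel_left k).1 h), add_zero]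
      · rw [cf1_of_mem k, cf1_of_notMem fun k' => h ((N.mul_mem_cancel_left k').1 k), zero_add]
  have e1 := dot_cs (L := N ⊔ zpowers a) le_sup_left (one_mem _) χ
  have e2 := dot_cs (L := N ⊔ zpowers a) le_sup_left (mem_sup_right (mem_zpowers a)) χ
  have e3 : cosAv N χ 1 = m := hm ▸ dot_congr (fun _ _ => by simp) fun y hy => by simp [hy]
  refine ⟨2 * n - m, mul_left_cancel₀ (card_ne_zero_C N) ?_⟩
  rw [hn, dot_add_right] at e
  rw [c] at e1 e2
  push_cast at e1 e2 ⊢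
  linear_combination -e2 - e1 - 2 * (#|N| : ℂ) * e - (#|N| : ℂ) * e3

theorem cosAv_bot (F : G → ℂ) (x : G) : cosAv ⊥ F x = F x :=
  cosAv_of_const fun k hk => by rw [mem_bot.1 hk, one_mul]

theorem final (sq : a * a = 1) (a1 : a ≠ 1) (hΦ : FT.CF ⊤ Φ) (hY : FT.CF ⊤ Y) {n m : ℕ} (n5 : n ≤ 5)
    (hc : ∀ χ, Irr ⊤ χ → ∃ c : ℤ, dot ⊤ χ Φ = c) (h1 : dot ⊤ (cf1 ⊤) Φ = 1) (hn : dot ⊤ Φ Φ = n)
    (h0 : Φ 1 = 0) (hp : ∀ y, (Φ (a * (y * a * y⁻¹))).re ≤ 0) (hm : dot ⊤ Y Y = m)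
    (hD : ∀ χ, Irr ⊤ χ → dot ⊤ χ Φ ≠ 0 → dot ⊤ χ Y = χ a ∧ (χ ≠ cf1 ⊤ → m ≤ (χ 1).re)) :
    False := by
  classical
  have := Fintype.ofFinite (⊤ : Subgroup G)
  choose! c hc using hc
  have hy : ∀ χ : G → ℂ, Irr ⊤ χ → ∃ y : ℤ, χ a = y := fun χ h => by
    simpa only [cosAv_bot] using cosAv_int (N := ⊥) h.vchr sq (norm_bot.ge (mem_top a)) (mt mem_bot.1 a1)
  choose! y hy using hy
  have hc' : ∀ χ ∈ irrs ⊤, dot ⊤ Φ χ = c χ := fun χ h => by
    rw [← conj_dot, hc χ (mem_irrs.1 h), map_intCast]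
  have i1 := irr_cf1 (⊤ : Subgroup G)
  refine numeric (cf1_mem_irrs ⊤) (c := c) (y := y) (D := fun χ => (χ 1).re) (m := m) ?_ ?_
    (by simp) ?_ ?_ ?_ ?_ fun χ h n1 n0 => (hD χ (mem_irrs.1 h) ?_).2 n1
  · exact_mod_cast (hc _ i1).symm.trans h1
  · exact_mod_cast (hy _ i1).symm.trans (cf1_of_mem (mem_top a))
  · rw [hΦ.dot_eq_sum_irrs, Finset.sum_congr rfl fun χ h => show _ = ((c χ ^ 2 : ℤ) : ℂ) by
      rw [hc' χ h, map_intCast, Int.cast_pow, pow_two]] at hn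
    have : ∑ χ ∈ irrs ⊤, c χ ^ 2 = n := by exact_mod_cast hn
    omega
  · have := congrArg Complex.re (h0.symm.trans (hΦ.apply_eq_sum_irrs 1))
    rw [Complex.re_sum] at this
    exact (Finset.sum_congr rfl fun χ h => by rw [hc' χ h]; simp).trans this.symm
  · have k : ∑ z : (⊤ : Subgroup G), Φ (a * (z * a * (z : G)⁻¹)) =
        #|(⊤ : Subgroup G)| * ((∑ χ ∈ irrs ⊤, (c χ : ℝ) * (y χ ^ 2 / (χ 1).re) : ℝ) : ℂ) := by
      rw [Finset.sum_congr rfl fun z _ => hΦ.apply_eq_sum_irrs _, Finset.sum_comm,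
        Complex.ofReal_sum, Finset.mul_sum]
      refine Finset.sum_congr rfl fun χ h => ?_
      have i := mem_irrs.1 h
      rw [← Finset.mul_sum, i.sum_mul_conj (mem_top a) (mem_top a), hc' χ h, hy χ i]
      push_cast
      rw [i.vchr.ofReal_re_one]; ring
    have k' := congrArg Complex.re k
    rw [Complex.re_sum, ← Complex.ofReal_natCast, ← Complex.ofReal_mul, Complex.ofReal_re] at k'
    exact nonpos_of_mul_nonpos_right (k'.symm.trans_le (Finset.sum_nonpos fun z _ => hp z)) (card_pos_R ⊤)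
  · rw [← nrm_eq_of_dot (hm.trans (Complex.ofReal_natCast m).symm), hY.nrm_eq_sum_irrs]
    refine le_trans (le_of_eq (Finset.sum_congr rfl fun χ h => ?_))
      (Finset.sum_le_sum_of_subset_of_nonneg (Finset.filter_subset _ _) fun _ _ _ => sq_nonneg _)
    obtain ⟨h, n0⟩ := Finset.mem_filter.1 h
    have i := mem_irrs.1 h
    rw [← conj_dot, (hD χ i (by rw [hc χ i]; exact_mod_cast n0)).1, hy χ i]
    simp
  · rw [hc χ (mem_irrs.1 h)]; exact_mod_cast n0

end Cfsg.Agent.Go.E
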