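import Cfsg.Agent.Go.EB2

/-! Local analysis for the principal block argument in case `β`. -/

set_option autoImplicit false
set_option maxHeartbeats 400000

namespace Cfsg.Agent.Go.E

open Subgroup Cfsg Cfsg.Agent.H1 Cfsg.Agent.L Cfsg.Agent.FT Cfsg.Agent.Sg Cfsg.Agent.H5
open scoped Pointwise commutatorElement ComplexConjugate

variable {G : Type} [Group G] [Finite G] {A S K R H N : Subgroup G} {χ : G → ℂ}
  {ρ δ a g j s t u v w x x' z : G} {P : (G → ℂ) → Prop}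

theorem card5 (h1 : δ ∈ 𝐍(N)) (h2 : δ ^ 5 ∈ N) (h3 : δ ∉ N) : #|N ⊔ zpowers δ| = #|N| * 5 := by
  rw [← card_mul_relIndex_of_le le_sup_left, B9.relIndex_sup_zpowers Nat.prime_five h1 h3 h2]

theorem mem_of_sd (h : SDProd K R H) (hR : IsPGroup 2 R) (hg : g ∈ H) (o : Odd (orderOf g)) :
    g ∈ K :=
  zpowers_le.1 (h.normal.le_of_coprime (zpowers_le.2 hg) (by
    rw [h.relIndex_left]; exact (cop_two hR (by rwa [Nat.card_zpowers])).symm))

theorem two_of_sq (h : a * a = 1) : Two a := isPElt_of_pow (k := 1) (by rwa [pow_one, pow_two])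

theorem col_self (hx : Two x) (hN : N ⊴ 𝐂[x]) (o : Odd #|N|) (hw : w ∈ N) :
    col N x (w * x) = (#|𝐂[x]| : ℂ) / #|N| := col_apply fun y => by
  refine ⟨fun e => mem_cent1.2 (mul_inv_eq_iff_eq_mul.1 (conj_part hx hx (hN.le hw) (hN.le e)
    (Be.odd_orderOf_of_mem o hw) (Be.odd_orderOf_of_mem o e) (by group))), fun e => ?_⟩
  rw [← conj_mul, mul_assoc y x, ← mul_assoc y x, mem_cent1.1 e, mul_inv_cancel_right,
    mul_inv_cancel_right]
  exact hN.conj_mem e hw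

theorem dot_col_self (hx : Two x) (hN : N ⊴ 𝐂[x]) (o : Odd #|N|) :
    dot ⊤ (col N x) (col N x) = (#|𝐂[x]| : ℂ) / #|N| := by
  rw [dot_col (cf_col N x), cosAv_of_const fun w hw => col_self hx hN o hw]

theorem col_ne (hx : Two x) (hN : N ≤ 𝐂[x]) (o : Odd #|N|) (hx' : Two x') (hw : w ∈ 𝐂[x'])
    (o' : Odd (orderOf w)) (h : ∀ g, g * x' * g⁻¹ ≠ x) : col N x (w * x') = 0 :=
  col_zero fun y e => h y (conj_part hx' hx hw (hN e) o' (Be.odd_orderOf_of_mem o e) (by group))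

theorem col_one (hx : Two x) (hN : N ≤ 𝐂[x]) (o : Odd #|N|) (x1 : x ≠ 1) : col N x 1 = 0 := by
  simpa using col_ne (w := 1) hx hN o (two_of_sq (mul_one 1)) (one_mem _) (by simp)
    fun g => by simpa using x1.symm

theorem dot_col_ne (hx : Two x) (hN : N ≤ 𝐂[x]) (o : Odd #|N|) (hx' : Two x') (hK : K ≤ 𝐂[x'])
    (o' : Odd #|K|) (h : ∀ g, g * x' * g⁻¹ ≠ x) : dot ⊤ (col N x) (col K x') = 0 := by
  rw [dot_col (cf_col N x), cosAv_of_const fun w hw =>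
    col_ne hx hN o hx' (hK hw) (Be.odd_orderOf_of_mem o' hw) h]

theorem Blk.dot_pos (b : Blk P) (hχ : Irr ⊤ χ) (p : P χ) (hx : Two x) (hN : N ⊴ 𝐂[x])
    (o : Odd #|N|) : dot ⊤ χ (col N x) = χ x := by
  rw [dot_col hχ.cf, cosAv_of_const fun w hw => by
    simpa using b.const hχ p hx hN o (one_mem _) (by simp) hw]

theorem Blk.dot_neg (b : Blk P) (hχ : Irr ⊤ χ) (p : ¬ P χ) (hx : Two x) (hN : N ⊴ 𝐂[x])
    (o : Odd #|N|) (hB : OneB 𝐂[x] N) : dot ⊤ χ (col N x) = 0 := by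
  simpa [dot_col hχ.cf] using b.avg hχ p hx hN o hB (one_mem _) (by simp)

theorem Blk.cst (b : Blk P) (h : TIc A) (ha : a ∈ A) (a1 : a ≠ 1) (hχ : Irr ⊤ χ) (p : P χ) :
    Cst (TT A a) a χ := fun g hg t ht => by
  have nT := h.T_normal ha a1
  obtain ⟨k, hk⟩ := nat_pow hg
  have hx : 𝐂[pPart 2 g] ≤ 𝐂[a] := fun y hy => by
    rw [← pPart_of_pElt (two_of_sq (h.sq a ha)), ← hk, pPart, ← pow_mul, mul_comm k, pow_mul]
    exact mem_cent1_comm.1 (pow_mem (mem_cent1_comm.1 hy) k)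
  have tw : Two (pPart 2 g) := pPart_pElt g
  have hv : pReg 2 g ∈ 𝐂[pPart 2 g] := mem_cent1.2 (commute_pPart_pReg g).symm
  have ov : Odd (orderOf (pReg 2 g)) := Nat.odd_iff.2 (Nat.two_dvd_ne_zero.1 (pReg_pReg g))
  have e := pReg_mul_pPart (p := 2) g
  generalize pPart 2 g = x at *
  generalize pReg 2 g = v at *
  subst e
  have nx : zpowers x ≤ 𝐍(TT A a) := (zpowers_le_cent1 x).trans (hx.trans nT.norm)
  have cop := cop_two (isPGroup_zpowers tw) (h.T_odd ha)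
  obtain ⟨n, hn, c, hc, rfl⟩ := exists_mul_centralizer_commutator nx cop
    (Or.inr (sol_of_odd (h.T_odd ha))) ht
  rw [cent_zpowers] at hc
  have nN : TT A a ⊓ 𝐂[x] ⊴ 𝐂[x] :=
    ⟨inf_le_right, le_normalizer_inf (hx.trans nT.norm) le_normalizer⟩
  have oN : Odd #|TT A a ⊓ 𝐂[x]| := odd_of_le (h.T_odd ha) inf_le_left
  have m : c * (v * x) ∈ 𝐂[x] := mul_mem hc.2 (mul_mem hv (self_mem_cent1 x))
  obtain ⟨y, -, e⟩ := exists_conj_of_reg (g := c * (v * x)) (le_normalizer_commutator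
    (hx.trans nT.norm) (le_norm_zpowers_of_cent le_rfl) m) (by
      haveI := h.T_comm' ha a1
      rw [eq_bot_iff, ← inf_centralizer_inf_commutator_eq_bot nx cop]
      refine fun y hy => ⟨⟨comm_le_left nx hy.1, ?_⟩, hy.1⟩
      rw [cent_zpowers, ← part tw (mul_mem hc.2 hv) (odd_mul oN (nN.norm hv) ov hc), mul_assoc]
      exact mem_cent1_comm.1 (pow_mem (mem_cent1_comm.1 hy.2) _)) hn
  rw [hχ.cf.mul_comm (mem_top _), mul_assoc, e, hχ.cf.conj_eq _ (mem_top _),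
    b.const hχ p tw nN oN hv ov hc]

/-- an involution of `C(a)` inverting an element of odd order -/
theorem mem_T (h : TIc A) (om : ∀ u ∈ 𝐂(A), u * u = 1 → u ∈ A) (ha : a ∈ A) (a1 : a ≠ 1)
    (hj : j ∈ 𝐂[a]) (sq : j * j = 1) (hz : z ∈ 𝐂[a]) (o : Odd (orderOf z))
    (e : j * z * j⁻¹ = z⁻¹) : z ∈ TT A a := by
  have sd := h.sd ha a1
  have m : sdProj sd ⟨j, hj⟩ ∈ A := om _ (sdProj_mem sd _) (by
    rw [← map_mul, show (⟨j, hj⟩ * ⟨j, hj⟩ : 𝐂[a]) = 1 from Subtype.ext sq, map_one])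
  have k := congrArg (sdProj sd) (show (⟨j, hj⟩ * ⟨z, hz⟩ * ⟨j, hj⟩⁻¹ : 𝐂[a]) = ⟨z, hz⟩⁻¹ from
    Subtype.ext e)
  rw [map_mul, map_mul, map_inv, map_inv, mem_cent.1 (sdProj_mem sd _) _ m, mul_inv_cancel_right,
    ← mul_eq_one_iff_eq_inv, ← map_mul] at k
  exact mem_of_sq_mem_of_odd o ((mker_sdProj sd).le (coe_mem_mker.2 k))

omit [Finite G] in
theorem inv_prod (sq : a * a = 1) (g y : G) : g * a * g⁻¹ * (g * (a * (y * a * y⁻¹)) * g⁻¹) *
    (g * a * g⁻¹)⁻¹ = (g * (a * (y * a * y⁻¹)) * g⁻¹)⁻¹ := by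
  have := inv_eq_of_mul_eq_one_right sq
  calc _ = g * (a * a) * y * a * y⁻¹ * a⁻¹ * g⁻¹ := by group
    _ = g * y * a⁻¹ * y⁻¹ * a⁻¹ * g⁻¹ := by rw [sq, mul_one, this]
    _ = _ := by group

omit [Finite G] in
theorem conj_sq (sq : a * a = 1) (g : G) : g * a * g⁻¹ * (g * a * g⁻¹) = 1 := by
  rw [conj_mul, sq, mul_one, mul_inv_cancel]

theorem inv_part (hx : Two x) (hw : w ∈ 𝐂[x]) (o : Odd (orderOf w))
    (e : j * (w * x) * j⁻¹ = (w * x)⁻¹) : j * x * j⁻¹ = x⁻¹ := by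
  have := congrArg (pPart 2) e
  rwa [pPart_conj, pPart_inv, part hx hw o] at this

variable (h : Bs A S ρ)
include h

theorem two (hs : s ∈ S) : Two s := isPElt_of_mem h.two hs

theorem sq_of_inv (sq : j * j = 1) (hx : Two x) (e : j * x * j⁻¹ = x⁻¹) : x * x = 1 := by
  have n : zpowers j ≤ 𝐍(zpowers x) := zpowers_le.2 (conj_eq_self_iff.1 (by
    rw [conj_zpowers, e, zpowers_inv]))
  obtain ⟨c, -, hc⟩ := sylow_exists_conj_le Nat.prime_two h.syl le_top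
    (pgroup_sup (R1.two_zpowers sq) (isPGroup_zpowers hx) (Or.inl n))
  have k := h.cmS ((h.mem_iff (hc (conj_mem_conj c (mem_sup_left (mem_zpowers j))))).2
    (conj_sq sq c)) (hc (conj_mem_conj c (mem_sup_right (mem_zpowers x))))
  rw [conj_mul, conj_mul, mul_left_inj, mul_right_inj] at k
  rw [k, mul_inv_cancel_right] at e
  exact mul_eq_one_iff_eq_inv.2 e

theorem col_prod (sq : a * a = 1) (hu : u ∈ S) (u1 : u ∉ A) (hN : N ≤ 𝐂[u]) (o : Odd #|N|) (y : G) :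
    col N u (a * (y * a * y⁻¹)) = 0 := col_zero fun g e => by
  have := inv_prod sq g y
  rw [← inv_mul_cancel_right (g * (a * _) * g⁻¹) u] at this
  exact u1 ((h.mem_iff hu).2 (sq_of_inv h (conj_sq sq g) (two h hu)
    (inv_part (two h hu) (hN e) (Be.odd_orderOf_of_mem o e) this)))

theorem sq_ne (hu : u ∈ S) (u1 : u ∉ A) : u * u ≠ 1 := mt (h.mem_iff hu).2 u1

theorem not_conj (hu : u ∈ S) (u1 : u ∉ A) (sq : a * a = 1) (g : G) : g * a * g⁻¹ ≠ u :=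
  fun e => sq_ne h hu u1 (e ▸ conj_sq sq g)

theorem mod_four (hχ : Irr ⊤ χ) (ha : a ∈ A) (a1 : a ≠ 1) (hu : u ∈ S) (u1 : u ∉ A) :
    ∃ m : ℤ, χ u = χ a + 4 * m := by
  have AR : A ≤ S ⊓ 𝐂[u] := le_inf h.le (le_cent1_iff.2 (h.S_le hu))
  have nA : A ⊴ S ⊓ 𝐂[u] := ⟨AR, inf_le_left.trans (h.S_le.trans (cent_le_norm A))⟩
  have k : ∀ φ, dot (S ⊓ 𝐂[u]) χ φ = χ u * dot (S ⊓ 𝐂[u]) (cf1 _) φ +
      (χ a - χ u) / 4 * dot A (cf1 A) φ + (χ 1 - χ a) / 16 * conj (φ 1) := fun φ => by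
    have e1 := card_mul_dot_of_supp (φ := cf1 A) (ψ := φ) AR fun x _ hx => by
      rw [cf1_of_notMem hx, zero_mul]
    have e2 := card_mul_dot_of_supp (φ := cf1 ⊥) (ψ := φ) (bot_le : _ ≤ S ⊓ 𝐂[u]) fun x _ hx => by
      rw [cf1_of_notMem hx, zero_mul]
    have e3 : dot ⊥ (cf1 ⊥) φ = conj (φ 1) := by
      rw [← conj_dot, ← cosAv_bot φ 1]
      exact congrArg _ (dot_congr (fun _ _ => by simp) fun y hy => by simp [hy])
    rw [h.card_cent hu u1, h.card] at e1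
    rw [h.card_cent hu u1, card_bot, e3] at e2
    rw [dot_congr (φ' := χ u • cf1 (S ⊓ 𝐂[u]) + (χ a - χ u) • cf1 A + (χ 1 - χ a) • cf1 ⊥)
      (ψ' := φ) (fun x hx => ?_) fun _ _ => rfl, dot_add_left, dot_add_left, dot_smul_left,
      dot_smul_left, dot_smul_left]
    · push_cast at e1 e2
      linear_combination (χ a - χ u) / 16 * e1 + (χ 1 - χ a) / 16 * e2
    · simp only [Pi.add_apply, Pi.smul_apply, smul_eq_mul, cf1_of_mem hx]
      by_cases x1 : x = 1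
      · simp [x1]
      rw [cf1_of_notMem (mt mem_bot.1 x1)]
      by_cases xA : x ∈ A
      · obtain ⟨n, -, rfl⟩ := h.tr a ha x xA a1 x1
        rw [cf1_of_mem xA, hχ.cf.conj_eq _ (mem_top _)]; ring
      · obtain ⟨n, rfl⟩ := h.conj_of_cent hu u1 hx xA
        rw [cf1_of_notMem xA, hχ.cf.conj_eq _ (mem_top _)]; ring
  obtain ⟨n, hn⟩ := hχ.vchr.exists_int_dot_res (vchr_cf1 (S ⊓ 𝐂[u])) le_top
  obtain ⟨φ, hφ, -, nk⟩ := exists_irr_not_le_cfker (K := A) (NormalIn.bot (S ⊓ 𝐂[u]))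
    fun e => a1 (mem_bot.1 (e ha))
  obtain ⟨m, hm⟩ := hχ.vchr.exists_int_dot_res hφ.vchr le_top
  haveI := comm_iff_le_cent.2 (h.cent_comm hu u1)
  rw [k, dot_cf1_cf1, ← dot_res_right, res_cf1 AR, dot_cf1_cf1, cf1_one, map_one] at hn
  rw [k, dot_eq_zero_comm.1 (hφ.dot_cf1_eq_zero nA nk), dot_eq_zero_comm.1
    (hφ.dot_cf1_eq_zero (NormalIn.refl _) fun e => nk (AR.trans e)), hφ.apply_one_of_comm,
    map_one] at hm
  obtain ⟨y, hy⟩ : ∃ y : ℤ, χ a = y := by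
    simpa only [cosAv_bot] using cosAv_int (N := ⊥) hχ.vchr (h.sq a ha) (norm_bot.ge (mem_top a))
      (mt mem_bot.1 a1)
  have e : ((4 * (n - m) - y : ℤ) : ℂ) = (3 : ℤ) * χ u := by
    push_cast; linear_combination -4 * hn + 4 * hm + hy
  obtain ⟨l, hl⟩ := AModEq.int_dvd (n := 3) (x := 4 * (n - m) - y) (y := 0) (by norm_num) (by
    rw [e, Int.cast_zero]; exact AModEq.mul_zero _ (hχ.vchr.isIntegral u))
  rw [sub_zero] at hl
  rw [hl] at e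
  refine ⟨l - (n - m), ?_⟩
  have hl' : (4 * (n - m) - y : ℂ) = 3 * l := by exact_mod_cast hl
  push_cast at e ⊢
  linear_combination -e / 3 - hy + hl'

variable (f : Fr A S)
include f

theorem oneB_a (ha : a ∈ A) (a1 : a ≠ 1) : OneB 𝐂[a] (WW A a) := by
  obtain ⟨u, hu, u1, -⟩ := h.exists_sq ha a1
  exact ⟨S, h.two, h.WS_normal f ha a1, fun g hg o e => mem_of_sd (h.sdW ha) h.two
    (h.key f ha a1 hu u1 hg (mem_sup_left (e u hu))) o⟩

omit f in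
theorem cent_le (u : G) : 𝐂[u] ≤ 𝐂[u * u] := fun _ hy =>
  mem_cent1_comm.1 (mul_mem (mem_cent1_comm.1 hy) (mem_cent1_comm.1 hy))

omit f in
theorem nU (hu : u ∈ S) (u1 : u ∉ A) : WW A (u * u) ⊓ 𝐂[u] ⊴ 𝐂[u] :=
  ⟨inf_le_right, le_normalizer_inf
    ((cent_le h u).trans (h.W_normal (h.sq_mem hu) (sq_ne h hu u1)).norm) le_normalizer⟩

omit f in
theorem oU (hu : u ∈ S) : Odd #|WW A (u * u) ⊓ 𝐂[u]| := odd_of_le (h.W_odd (h.sq_mem hu)) inf_le_left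

theorem sdU (hu : u ∈ S) (u1 : u ∉ A) : SDProd (WW A (u * u) ⊓ 𝐂[u]) (S ⊓ 𝐂[u]) 𝐂[u] := by
  have ha := h.sq_mem hu
  refine SDProd.of_normal (nU h hu u1) inf_le_right
    (inf_eq_bot_of_two (IsPGroup.le' h.two inf_le_left) (oU h hu)) fun g hg => ?_
  have := sup_inf_cent (A := zpowers u) (zpowers_le.2 (le_normalizer hu))
    (zpowers_le.2 (h.S_norm_W ha hu)) (h.S_norm_W ha) (isPGroup_zpowers (two h hu)) (h.W_odd ha)
  rw [cent_zpowers] at this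
  rw [sup_comm, ← this, sup_comm]
  exact ⟨h.key f ha (sq_ne h hu u1) hu u1 (cent_le h u hg) (by
    rw [mem_cent1.1 hg, mul_inv_cancel_right, mul_inv_cancel]; exact one_mem _), hg⟩

theorem oneB_u (hu : u ∈ S) (u1 : u ∉ A) : OneB 𝐂[u] (WW A (u * u) ⊓ 𝐂[u]) :=
  ⟨_, IsPGroup.le' h.two inf_le_left, by
    rw [(sdU h f hu u1).sup]; exact NormalIn.refl _, fun _ hg o _ =>
    mem_of_sd (sdU h f hu u1) (IsPGroup.le' h.two inf_le_left) hg o⟩

theorem dot_colU (hu : u ∈ S) (u1 : u ∉ A) :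
    dot ⊤ (col (WW A (u * u) ⊓ 𝐂[u]) u) (col (WW A (u * u) ⊓ 𝐂[u]) u) = 16 := by
  rw [dot_col_self (two h hu) (nU h hu u1) (oU h hu), (sdU h f hu u1).card, h.card_cent hu u1,
    Nat.cast_mul, mul_div_cancel_left₀ _ (card_ne_zero_C _), Nat.cast_ofNat]

end Cfsg.Agent.Go.E
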