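import Cfsg.Agent.Go.EB3

/-! Case `β` of the rank two endgame: the principal block argument. -/

set_option autoImplicit false
set_option maxHeartbeats 400000

namespace Cfsg.Agent.Go.E

open Subgroup Cfsg Cfsg.Agent.H1 Cfsg.Agent.L Cfsg.Agent.FT Cfsg.Agent.Sg Cfsg.Agent.H5
open scoped Pointwise commutatorElement ComplexConjugate

variable {G : Type} [Group G] [Finite G] {A S N N' : Subgroup G} {χ F : G → ℂ}
  {ρ δ a g u v x y z : G} {P : (G → ℂ) → Prop}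

theorem cosAv_two (hN : N ≤ N') {α β : ℂ} (h1 : ∀ z ∈ N, F (z * x) = α)
    (h2 : ∀ z ∈ N', z ∉ N → F (z * x) = β) : cosAv N' F x = β + (α - β) * (#|N| / #|N'|) := by
  have e := card_mul_dot_of_supp (φ := cf1 N) (ψ := cf1 N') hN fun x _ hx => by
    rw [cf1_of_notMem hx, zero_mul]
  rw [← dot_res_right N, res_cf1 hN, dot_cf1_cf1] at e
  rw [cosAv, dot_congr (φ' := β • cf1 N' + (α - β) • cf1 N) (ψ' := cf1 N') (fun z hz => ?_)
    fun z hz => by rw [cf1_of_mem hz, Pi.one_apply], dot_add_left, dot_smul_left, dot_smul_left, dot_cf1_cf1,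
    ← mul_one (#|N| : ℂ), ← e, mul_div_cancel_left₀ _ (card_ne_zero_C N'), mul_one]
  by_cases m : z ∈ N
  · simp [h1 z m, m, hz]
  · simp [h2 z hz m, cf1_of_notMem m, hz]

theorem conj_mul_iff (hy : y ∈ 𝐂[a]) : y * (z * a) * y⁻¹ * a⁻¹ = y * z * y⁻¹ := by
  rw [← conj_mul, mul_assoc y a, ← mul_assoc y a, mem_cent1.1 hy, mul_inv_cancel_right,
    mul_inv_cancel_right]

variable (h : Bs A S ρ)
include h

theorem cent_of_conj (k : K1 A S) (hu : u ∈ S) (u1 : u ∉ A) (hv : g * u * g⁻¹ ∈ S) :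
    g * u * g⁻¹ ∈ 𝐂[u] := by
  obtain ⟨n, hn, e⟩ := h.fusion (h.S_le hu) (h.S_le hv)
  obtain ⟨c, hc, r, rfl⟩ := exists_cent_mul h.sq h.card h.idx h.ρA h.ρC hn
  obtain ⟨o, ho, s, hs, rfl⟩ := (H1.mem_sup_of_le_normalizer' h.S_norm_O).1 (k hc)
  have p : ∀ r : ℕ, ρ ^ r * u * (ρ ^ r)⁻¹ ∈ S ⊓ 𝐂[u] ∧ ρ ^ r * u * (ρ ^ r)⁻¹ ∉ A := fun r => by
    induction r with
    | zero => simpa [hu, u1] using self_mem_cent1 u
    | succ r ih =>
      rw [pow_succ', show ρ * ρ ^ r * u * (ρ * ρ ^ r)⁻¹ = ρ * (ρ ^ r * u * (ρ ^ r)⁻¹) * ρ⁻¹ by group]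
      generalize ρ ^ r * u * (ρ ^ r)⁻¹ = x at ih
      exact ⟨⟨h.cjS ih.1.1, mem_cent1.2 (mem_cent.1 (h.cent_comm ih.1.1 ih.2
        ⟨hu, mem_cent1_comm.1 ih.1.2⟩) _ ⟨h.cjS ih.1.1, mem_cent1.2 (h.comm x ih.1.1).symm⟩)⟩,
        mt h.cjA.1 ih.2⟩
  obtain ⟨⟨hx, xu⟩, -⟩ := p r
  rw [show o * s * ρ ^ r * u * (o * s * ρ ^ r)⁻¹ = o * (s * (ρ ^ r * u * (ρ ^ r)⁻¹) * s⁻¹) * o⁻¹ by
    group] at e
  generalize ρ ^ r * u * (ρ ^ r)⁻¹ = x at hx xu e
  have m : s * x * s⁻¹ ∈ S := mul_mem (mul_mem hs hx) (inv_mem hs)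
  have k : g * u * g⁻¹ * (s * x * s⁻¹)⁻¹ ∈ core {2}ᶜ 𝐂(A) ⊓ S := mem_inf.2 ⟨by
    rw [← e, mul_assoc, mul_assoc, ← mul_assoc (s * x * s⁻¹)]
    exact mul_mem ho ((conj_mem_iff_of_norm (h.S_norm_O m)).2 (inv_mem ho)), mul_mem hv (inv_mem m)⟩
  rw [inf_eq_bot_of_two h.two (odd_core _), mem_bot, mul_inv_eq_one] at k
  rw [k, ← inv_mul_cancel_right (s * x * s⁻¹) x]
  exact mul_mem (le_cent1_iff.2 (h.S_le hu) (h.comm_mem hs hx)) xu

variable [IsSimpleGroup G] [BD]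

theorem case1 (k : K1 A S) : False := by
  obtain ⟨P, b⟩ := exists_blk G
  obtain ⟨a, ha, a1, -⟩ := exists_third h.card.ge (1 : G)
  obtain ⟨u, hu⟩ := h.four
  have f := h.fr1 k
  have ta := two_of_sq (h.sq a ha)
  have neg : ∀ χ, Irr ⊤ χ → ¬ P χ →
      dot ⊤ χ ((4⁻¹ : ℂ) • ∑ i, col (WW A (u i * u i) ⊓ 𝐂[u i]) (u i)) = 0 := fun χ hχ p => by
    rw [dot_smul_right, dot_sum_right, Finset.sum_eq_zero fun i _ => b.dot_neg hχ p (two h (hu i).1)
      (nU h (hu i).1 (hu i).2.1) (oU h (hu i).1) (oneB_u h f (hu i).1 (hu i).2.1), mul_zero]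
  have pos : ∀ χ, Irr ⊤ χ → P χ →
      dot ⊤ χ ((4⁻¹ : ℂ) • ∑ i, col (WW A (u i * u i) ⊓ 𝐂[u i]) (u i)) = 4⁻¹ * ∑ i, χ (u i) :=
    fun χ hχ p => by
      rw [dot_smul_right, dot_sum_right, Finset.sum_congr rfl fun i _ => b.dot_pos hχ p
        (two h (hu i).1) (nU h (hu i).1 (hu i).2.1) (oU h (hu i).1), map_inv₀, map_ofNat]
  refine final (Φ := (4⁻¹ : ℂ) • ∑ i, col (WW A (u i * u i) ⊓ 𝐂[u i]) (u i)) (h.sq a ha) a1
    ((cf_sum fun i _ => cf_col _ _).smul _) (cf_col (WW A a) a) (n := 4) (m := 64) (by norm_num)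
    (fun χ hχ => ?_) ?_ ?_ ?_ (fun y => ?_) ?_ fun χ hχ n0 => ?_
  · by_cases p : P χ
    · choose m hm using fun i => mod_four h hχ ha a1 (hu i).1 (hu i).2.1
      obtain ⟨y, hy⟩ : ∃ y : ℤ, χ a = y := by
        simpa only [cosAv_bot] using cosAv_int (N := ⊥) hχ.vchr (h.sq a ha)
          (norm_bot.ge (mem_top a)) (mt mem_bot.1 a1)
      refine ⟨y + ∑ i, m i, ?_⟩
      rw [pos χ hχ p]
      simp only [hm, hy, Fin.sum_univ_four]
      push_cast; ring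
    · exact ⟨0, by rw [neg χ hχ p, Int.cast_zero]⟩
  · rw [pos _ (irr_cf1 ⊤) b.one]; simp
  · rw [dot_smul_left, dot_smul_right, dot_sum_self_of_ortho _ _ fun i _ j _ ij =>
      dot_col_ne (two h (hu i).1) inf_le_right (oU h (hu i).1) (two h (hu j).1) inf_le_right
        (oU h (hu j).1) fun g e => (hu i).2.2 j ij
          (e ▸ cent_of_conj h k (hu j).1 (hu j).2.1 (e ▸ (hu i).1)),
      Finset.sum_congr rfl fun i _ => dot_colU h f (hu i).1 (hu i).2.1, map_inv₀, map_ofNat]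
    simp; norm_num
  · rw [Pi.smul_apply, Finset.sum_apply, Finset.sum_eq_zero fun i _ => col_one (two h (hu i).1)
      inf_le_right (oU h (hu i).1) fun e => (hu i).2.1 (e ▸ one_mem A), smul_zero]
  · rw [Pi.smul_apply, Finset.sum_apply, Finset.sum_eq_zero fun i _ => col_prod h (h.sq a ha)
      (hu i).1 (hu i).2.1 inf_le_right (oU h (hu i).1) y, smul_zero, Complex.zero_re]
  · have e : WW A a ⊔ S = 𝐂[a] := le_antisymm (h.WS_normal f ha a1).le ((h.dec a ha a1).trans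
      (by rw [WW, sup_assoc]; exact sup_le_sup_left k _))
    rw [dot_col_self ta (h.W_normal ha a1) (h.W_odd ha), ← e, (h.sdW ha).card, h.cardS,
      Nat.cast_mul, mul_div_cancel_left₀ _ (card_ne_zero_C _)]
  · have p : P χ := by_contra fun p => n0 (neg χ hχ p)
    exact ⟨b.dot_pos hχ p ta (h.W_normal ha a1) (h.W_odd ha), fun n1 => by
      exact_mod_cast (BD.main h ha a1 hχ n1 (b.cst h.toTIc ha a1 hχ p)).1⟩

theorem case5 (k : K5 A S δ) : False := by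
  obtain ⟨P, b⟩ := exists_blk G
  obtain ⟨a, ha, a1, -⟩ := exists_third h.card.ge (1 : G)
  obtain ⟨u, hu, u1, rfl⟩ := h.exists_sq ha a1
  have f := h.fr5 k
  have nu := nU h hu u1
  have ou := oU h hu
  have du := dot_colU h f hu u1
  have bu := oneB_u h f hu u1
  generalize u * u = a at ha a1 nu ou du bu
  generalize WW A a ⊓ 𝐂[u] = U at nu ou du bu
  have sq := h.sq a ha
  have ta := two_of_sq sq
  have tu := two h hu
  have nW := h.W_normal ha a1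
  have oW := h.W_odd ha
  have dH : δ ∈ 𝐂[a] := cent_le_cent1 ha k.δA
  have d5 : δ ^ 5 ∈ WW A a := mem_sup_right k.pow
  have od : Odd #|zpowers δ| := by
    obtain ⟨n, hn⟩ := pgroup_card Nat.prime_five k.five
    rw [hn]; exact Odd.pow (by decide)
  have oV : Odd #|WW A a ⊔ zpowers δ| := odd_sup oW od (Or.inr (zpowers_le.2 (nW.norm dH)))
  have dW : δ ∉ WW A a ⊔ S := fun m => by
    have m := mem_of_sd (h.sdW ha) h.two m (by rwa [Nat.card_zpowers] at od)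
    have : δ * u * δ⁻¹ * u⁻¹ ∈ WW A a ⊓ S := mem_inf.2 ⟨by
      rw [mul_assoc, mul_assoc, ← mul_assoc u]
      exact mul_mem m ((conj_mem_iff_of_norm (h.S_norm_W ha hu)).2 (inv_mem m)),
      mul_mem ((conj_mem_iff_of_norm k.δS).2 hu) (inv_mem hu)⟩
    rw [(h.sdW ha).disj, mem_bot] at this
    exact absurd (h.five_dvd k hu u1 (r := 1) (by rw [pow_one, this]; exact one_mem A)) (by decide)
  have cV := card5 (nW.norm dH) d5 (mt mem_sup_left dW)
  have nWS := h.WS_normal f ha a1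
  have eH : WW A a ⊔ S ⊔ zpowers δ = 𝐂[a] := le_antisymm (sup_le nWS.le (zpowers_le.2 dH))
    ((h.dec a ha a1).trans (by rw [WW, sup_assoc, sup_assoc, ← sup_assoc _ S]; gcongr; exact k.dec))
  have cH : #|𝐂[a]| = #|WW A a| * 64 * 5 := by
    rw [← eH, card5 (nWS.norm dH) (mem_sup_left d5) dW, (h.sdW ha).card, h.cardS]
  have nA : A ≤ 𝐍(WW A a ⊔ zpowers δ) := le_normalizer_sup (h.le.trans (h.S_norm_W ha))
    (le_norm_zpowers_of_cent (le_cent1_iff.2 k.δA))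
  have cM : #|WW A a ⊔ zpowers δ ⊔ A| = #|WW A a| * 5 * 4 := by
    rw [(SDProd.mk_sup nA (inf_eq_bot_of_two h.sq.two oV)).card, cV, h.card]
  have VH : WW A a ⊔ zpowers δ ≤ 𝐂[a] := sup_le nW.le (zpowers_le.2 dH)
  have key : ∀ z ∈ WW A a ⊔ zpowers δ, z ∉ WW A a → ∀ y ∈ 𝐂[a],
      y * z * y⁻¹ ∈ WW A a ⊔ zpowers δ → y ∈ WW A a ⊔ zpowers δ ⊔ A := fun z hz z1 y hy e => by
    obtain ⟨w, hw, d, hd, rfl⟩ := (H1.mem_sup_of_le_normalizer' (zpowers_le.2 (nW.norm dH))).1 hz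
    obtain ⟨r, rfl⟩ := nat_pow hd
    obtain ⟨m, hm, d', hd', rfl⟩ :=
      (H1.mem_sup_of_le_normalizer' (zpowers_le.2 (nWS.norm dH))).1 (eH.ge hy)
    obtain ⟨w', hw', s, hs, rfl⟩ := (H1.mem_sup_of_le_normalizer' (h.S_norm_W ha)).1 hm
    have hs' : d'⁻¹ * s * d'⁻¹⁻¹ ∈ S := (conj_mem_iff_of_norm (inv_mem (zpowers_le.2 k.δS hd'))).2 hs
    rw [show w' * s * d' = w' * d' * (d'⁻¹ * s * d'⁻¹⁻¹) by group] at e ⊢
    generalize d'⁻¹ * s * d'⁻¹⁻¹ = s at hs' e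
    have v1 := mul_mem_sup hw' hd'
    refine mul_mem_sup v1 (k.free r (fun ⟨j, hj⟩ => z1 (mul_mem hw ?_)) ⟨hs', mem_cent1.2 ?_⟩)
    · rw [hj, pow_mul]; exact pow_mem d5 j
    have : s * δ ^ r * s⁻¹ * (δ ^ r)⁻¹ ∈ (WW A a ⊔ zpowers δ) ⊓ S := mem_inf.2 ⟨by
      have t := (conj_mem_iff_of_mem (inv_mem v1)).2 e
      have t' : s * w⁻¹ * s⁻¹ ∈ WW A a ⊔ zpowers δ :=
        mem_sup_left ((conj_mem_iff_of_norm (h.S_norm_W ha hs')).2 (inv_mem hw))
      convert mul_mem (mul_mem t' t) (inv_mem (mem_sup_right hd)) using 1; group, by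
      rw [mul_assoc, mul_assoc, ← mul_assoc (δ ^ r)]
      exact mul_mem hs' ((conj_mem_iff_of_norm (pow_mem k.δS r)).2 (inv_mem hs'))⟩
    rw [inf_eq_bot_of_two h.two oV, mem_bot, mul_inv_eq_one] at this
    exact mul_inv_eq_iff_eq_mul.1 this
  have hT : TT A a ≤ WW A a := le_sup_left
  have bW := oneB_a h f ha a1
  have nV : WW A a ⊔ zpowers δ ⊔ A ≤ 𝐍(WW A a ⊔ zpowers δ) := sup_le le_normalizer nA
  have MH : WW A a ⊔ zpowers δ ⊔ A ≤ 𝐂[a] := sup_le VH (h.sq.cent1 ha)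
  have WV : WW A a ≤ WW A a ⊔ zpowers δ := le_sup_left
  generalize WW A a ⊔ zpowers δ ⊔ A = M at cM key nV MH
  generalize WW A a ⊔ zpowers δ = V at oV cV VH key nV WV
  generalize WW A a = W at nW oW cV cH cM key hT bW WV
  have W0 := card_ne_zero_C W
  have cen : ∀ z ∈ V, ∀ y, y * (z * a) * y⁻¹ * a⁻¹ ∈ V → y ∈ 𝐂[a] := fun z hz y e =>
    mem_cent1.2 (mul_inv_eq_iff_eq_mul.1 (conj_part ta ta (VH hz) (VH e)
      (Be.odd_orderOf_of_mem oV hz) (Be.odd_orderOf_of_mem oV e) (by group)))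
  have v1 : ∀ z ∈ W, col V a (z * a) = 64 := fun z hz => by
    rw [col_apply (L := 𝐂[a]) fun y => ⟨cen z (WV hz) y, fun hy => by
      rw [conj_mul_iff hy]; exact WV (nW.conj_mem hy hz)⟩, cH, cV]
    push_cast; field_simp
  have v2 : ∀ z ∈ V, z ∉ W → col V a (z * a) = 4 := fun z hz z1 => by
    rw [col_apply (L := M) fun y => ⟨fun e => key z hz z1 y (cen z hz y e)
      (conj_mul_iff (cen z hz y e) ▸ e), fun hy => by
        rw [conj_mul_iff (MH hy)]; exact (conj_mem_iff_of_norm (nV hy)).2 hz⟩, cM, cV]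
    push_cast; field_simp
  have v3 : ∀ z ∈ W, col W a (z * a) = 320 := fun z hz => by
    rw [col_self ta nW oW hz, cH]; push_cast; field_simp; norm_num
  have v4 : ∀ z ∈ V, z ∉ W → col W a (z * a) = 0 := fun z hz z1 => col_zero fun y e => by
    have hy := cen z hz y (WV e)
    rw [conj_mul_iff hy] at e
    exact z1 ((nW.conj_mem_iff hy).1 e)
  have c4 : conj (4⁻¹ : ℂ) = 4⁻¹ := by rw [map_inv₀, map_ofNat]
  have neg : ∀ χ, Irr ⊤ χ → ¬ P χ →
      dot ⊤ χ (col V a + (4⁻¹ : ℂ) • col U u - (4⁻¹ : ℂ) • col W a) = 0 := fun χ hχ p => by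
    rw [dot_sub_right, dot_add_right, dot_smul_right, dot_smul_right, b.dot_neg hχ p ta nW oW bW,
      b.dot_neg hχ p tu nu ou bu, dot_col hχ.cf, cosAv_zero WV fun v hv =>
        b.avg hχ p ta nW oW bW (VH hv) (Be.odd_orderOf_of_mem oV hv)]
    simp
  have pos : ∀ χ, Irr ⊤ χ → P χ → dot ⊤ χ (col V a + (4⁻¹ : ℂ) • col U u - (4⁻¹ : ℂ) • col W a) =
      cosAv V χ a + 4⁻¹ * χ u - 4⁻¹ * χ a := fun χ hχ p => by
    rw [dot_sub_right, dot_add_right, dot_smul_right, dot_smul_right, b.dot_pos hχ p ta nW oW,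
      b.dot_pos hχ p tu nu ou, dot_col hχ.cf, c4]
  have dWW : dot ⊤ (col W a) (col W a) = 320 := by rw [dot_col (cf_col _ _), cosAv_of_const v3]
  refine final sq a1 (((cf_col V a).add ((cf_col U u).smul 4⁻¹)).sub ((cf_col W a).smul 4⁻¹))
    (cf_col W a) (n := 5) (m := 320) le_rfl (fun χ hχ => ?_) ?_ ?_ ?_ (fun y => ?_)
    (by exact_mod_cast dWW) fun χ hχ n0 => ?_
  · by_cases p : P χ
    · obtain ⟨m, hm⟩ := mod_four h hχ ha a1 hu u1
      obtain ⟨n, hn⟩ := cosAv_int hχ.vchr sq (cent_le_norm V (le_cent1_iff.1 VH)) fun e =>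
        a1 (mem_bot.1 (mem_of_sq_mem_of_odd (Be.odd_orderOf_of_mem oV e) (mem_bot.2 sq)))
      exact ⟨n + m, by rw [pos χ hχ p, hm, hn]; push_cast; ring⟩
    · exact ⟨0, by rw [neg χ hχ p, Int.cast_zero]⟩
  · rw [pos _ (irr_cf1 ⊤) b.one, cosAv_of_const fun _ _ => cf1_of_mem (mem_top _)]; simp
  · have e1 := dot_col_ne tu nu.le ou ta VH oV (not_conj h hu u1 sq)
    have e2 := dot_col_ne tu nu.le ou ta nW.le oW (not_conj h hu u1 sq)
    have r : (#|W| : ℂ) / #|V| = 5⁻¹ := by rw [cV]; push_cast; field_simp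
    simp only [dot_sub_left, dot_sub_right, dot_add_left, dot_add_right, dot_smul_left,
      dot_smul_right, e1, e2, dot_eq_zero_comm.1 e1, dot_eq_zero_comm.1 e2, du, dWW, c4]
    rw [dot_col (cf_col V a), dot_col (cf_col V a), dot_col (cf_col W a), cosAv_two WV v1 v2,
      cosAv_of_const v1, cosAv_two WV v3 v4, r]
    norm_num
  · simp [col_one ta VH oV a1, col_one ta nW.le oW a1,
      col_one tu nu.le ou fun e => u1 (e ▸ one_mem A)]
  · simp only [Pi.sub_apply, Pi.add_apply, Pi.smul_apply, col_prod h sq hu u1 nu.le ou y]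
    by_cases e : ∃ g, g * (a * (y * a * y⁻¹)) * g⁻¹ * a⁻¹ ∈ V
    · obtain ⟨g, e⟩ := e
      have i := inv_prod sq g y
      have o := Be.odd_orderOf_of_mem oV e
      rw [← (cf_col V a).conj_eq g (mem_top g), ← (cf_col W a).conj_eq g (mem_top g),
        ← inv_mul_cancel_right (g * (a * _) * g⁻¹) a]
      rw [← inv_mul_cancel_right (g * (a * _) * g⁻¹) a] at i
      generalize g * (a * (y * a * y⁻¹)) * g⁻¹ * a⁻¹ = z at e i o
      have j := inv_part ta (VH e) o i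
      rw [inv_eq_of_mul_eq_one_right sq] at j
      have hz := hT (mem_T h.toTIc h.om ha a1 (mem_cent1.2 (mul_inv_eq_iff_eq_mul.1 j))
        (conj_sq sq g) (VH e) o (by
          rw [← conj_mul, j, mem_cent1.1 (VH e), mul_inv_rev a, inv_eq_of_mul_eq_one_right sq,
            mul_left_inj] at i
          exact i))
      rw [v1 z hz, v3 z hz]; norm_num
    · rw [col_zero fun g m => e ⟨g, m⟩, col_zero fun g m => e ⟨g, WV m⟩]; simp
  · have p : P χ := by_contra fun p => n0 (neg χ hχ p)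
    exact ⟨b.dot_pos hχ p ta nW oW, fun n1 => by
      exact_mod_cast (BD.main h ha a1 hχ n1 (b.cst h.toTIc ha a1 hχ p)).2 δ k⟩

omit h in
instance instEndB [BS] : EndB := ⟨fun ih h om => by_contra fun n => by
  obtain ⟨S, ρ, h, k | ⟨δ, k⟩⟩ := BS.main ih h om n
  exacts [case1 h k, case5 h k]⟩

end Cfsg.Agent.Go.E
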