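import Cfsg.Agent.Go.CP
import Cfsg.Agent.Go.Big4
import Cfsg.Agent.Go.Sm6
import Cfsg.Agent.Go.C3
import Cfsg.Agent.As.I

/-! Goldschmidt's theorem: assembly. -/

set_option autoImplicit false
set_option linter.unusedSectionVars false
set_option linter.style.haveILetI false

namespace Cfsg.Agent.Go

open Subgroup Cfsg Cfsg.Agent.H1 Cfsg.Agent.L Cfsg.Agent.FT Cfsg.Agent.Sg Cfsg.Agent.R1
open scoped Pointwise commutatorElement

theorem se_of_done [As.ZA] {G : Type*} [Group G] [Finite G] [IsSimpleGroup G] {A : Subgroup G}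
    (h : SC A) (sq : Sq A) (h1 : A ≠ ⊥) (d : Done A) : ∃ H : Subgroup G, IsStronglyEmbedded H := by
  obtain ⟨M, hM, hc⟩ := d
  obtain ⟨T, hT, hA⟩ := exists_isSylowIn_ge h.two le_top
  exact As.za hT.toSylowTop A M h1 ⟨sq.comm, fun a ha => (pow_two a).trans (sq a ha)⟩
    ⟨hA, fun x hx g m => h.mem x hx g (h.sci.le_norm hT.isPGroup hA le_top m)⟩ hM hc

theorem thmG_step [PartI] [As.ZA] {G : Type} [Group G] [Finite G] [IsSimpleGroup G]
    (ih : IH (Nat.card G)) (hn : ¬ ∀ x y : G, x * y = y * x) : ThmG G := fun A h1 sq sc => by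
  obtain ⟨U, ⟨hU, U1, sU⟩, m⟩ := Set.exists_min_image {U : Subgroup G | U ≤ A ∧ U ≠ ⊥ ∧ SC U}
    (fun U => #|U|) (Set.toFinite _) ⟨A, le_rfl, h1, sc⟩
  have qU := sq.of_le hU
  have irr : ∀ V ≤ U, 𝐍(U) ≤ 𝐍(V) → V = ⊥ ∨ V = U := fun V hV hN => or_iff_not_imp_left.2 fun V1 =>
    eq_of_le_of_card_le hV (m V ⟨hV.trans hU, V1, sU.of_le hV hN⟩)
  suffices h : Done U ∨ (∃ H : Subgroup G, IsStronglyEmbedded H) ∨ AB U by
    rcases h with d | h | ab
    · exact Or.inl (se_of_done sU qU U1 d)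
    · exact Or.inl h
    · exact Or.inr (ab.syl.maximal A sc.two hU le_top ▸ ab)
  by_cases h0 : Hyp0 U
  · exact PartI.main ih sU qU (four_le hn sU U1) irr h0
  have c := ih.ctx hn sU qU
  obtain ⟨B, d⟩ := c.exists_mdat h0
  rcases lt_or_ge (B.relIndex U) #|B| with hb | hb
  · exact Or.inl (big c irr d hb)
  · obtain ⟨h8, tr, syl⟩ := small c (ih.stP hn sU qU) irr d hb
    exact Or.inr (Or.inr ⟨syl, tr, Or.inr ⟨h8, h0⟩⟩)

theorem ih_all [PartI] [As.ZA] (n : ℕ) : IH n := by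
  induction n with
  | zero => exact fun _ _ _ _ h => absurd h (Nat.not_lt_zero _)
  | succ n ih => exact fun X _ _ _ h hn => thmG_step (ih.mono (Nat.le_of_lt_succ h)) hn

theorem thmG [PartI] [As.ZA] {G : Type} [Group G] [Finite G] [IsSimpleGroup G]
    (hn : ¬ ∀ x y : G, x * y = y * x) : ThmG G := thmG_step (ih_all _) hn

instance instGoS [PartI] [As.ZA] : GoS := ⟨fun A hn h1 sq sc =>
  (thmG (fun h => hn ⟨⟨h⟩⟩) A h1 sq sc).imp_right fun ab => by
    have := IsPiNum.not_dvd' (sylow_hall Nat.prime_two ab.syl).index Nat.prime_two (by simp)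
    rwa [relIndex_top_right, ← even_iff_two_dvd, Nat.not_even_iff_odd] at this⟩

theorem s1169_small [PartI] [As.ZA] {G : Type} [Group G] [Finite G] [IsSimpleGroup G]
    {S A : Subgroup G} (hS : IsPGroup 2 S) (h1 : A ≠ ⊥) (sc : SC A) (hn : S ≤ 𝐍(A)) :
    S ≤ 𝐂(S) ∨ ∃ H : Subgroup G, IsStronglyEmbedded H := by
  by_cases hc : ∀ x y : G, x * y = y * x
  · exact Or.inl (le_cent_iff.2 fun a _ b _ => hc b a)
  let U : Subgroup G :=
    { carrier := {a | a ∈ A ∧ a * a = 1}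
      one_mem' := ⟨one_mem _, one_mul _⟩
      mul_mem' := fun {a b} ha hb => ⟨mul_mem ha.1 hb.1, by
        rw [mul_assoc, ← mul_assoc b, mem_cent.1 (sc.comm ha.1) b hb.1, mul_assoc a b, hb.2, mul_one,
          ha.2]⟩
      inv_mem' := fun {a} ha => ⟨inv_mem ha.1, by rw [← mul_inv_rev, ha.2, inv_one]⟩ }
  have hN : 𝐍(A) ≤ 𝐍(U) := le_norm_iff.2 fun n hn a ha => ⟨le_norm_iff.1 le_rfl n hn a ha.1, by
    rw [conj_mul, ha.2, mul_one, mul_inv_cancel]⟩
  have sq : Sq U := fun a ha => ha.2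
  obtain ⟨a, ha, a2⟩ := exists_mem_orderOf_eq Nat.prime_two (pgroup_dvd_card Nat.prime_two sc.two h1)
  refine (thmG hc U (ne_bot_of_mem ⟨ha, Be.sq_of_two a2⟩ (Be.ne_one_of_two a2)) sq
    (sc.of_le (fun _ h => h.1) hN)).symm.imp_left fun ab => ?_
  have := sylow_le_of_norm Nat.prime_two ab.syl le_top hS (Or.inr (hn.trans hN))
  exact this.trans (sq.cent.trans (cent_anti this))

theorem s1169 [PartI] [As.ZA] {G : Type*} [Group G] [Finite G] [IsSimpleGroup G] (S : Sylow 2 G)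
    (A : Subgroup G) (hA : A ≠ ⊥) (hc : IsMulCommutative A)
    (hsc : IsStronglyClosed A (S : Subgroup G)) :
    IsMulCommutative (S : Subgroup G) ∨ ∃ H : Subgroup G, IsStronglyEmbedded H := by
  obtain ⟨K, _, _, ⟨e⟩⟩ := Be.exists_small G
  have : IsSimpleGroup K := e.symm.isSimpleGroup
  refine (s1169_small (S.2.map e.toMonoidHom)
    (fun h => hA ((map_eq_bot_iff_of_injective _ e.injective).1 h))
    ((SC.of_stronglyClosed S hsc (le_cent_self hc)).map e.toMonoidHom e.surjective)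
    (map_le_norm _ (le_norm_iff.2 fun g hg a ha => hsc.2 a ha g
      (mul_mem (mul_mem hg (hsc.1 ha)) (inv_mem hg))))).imp
    (fun h => comm_iff_le_cent.2 ((map_le_cent_iff e.injective).1 h)) fun ⟨H, hH⟩ =>
    ⟨_, Be.SE_map e.symm.toMonoidHom e.symm.surjective hH
      (by rw [(MonoidHom.ker_eq_bot_iff _).2 e.symm.injective]; exact bot_le)
      (by rw [(MonoidHom.ker_eq_bot_iff _).2 e.symm.injective]; simp)⟩

end Cfsg.Agent.Go
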