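import Cfsg.Agent.Go.EB4
import Cfsg.Agent.Go.BS
import Cfsg.Agent.Go.BD2
import Cfsg.Agent.Go.A2
import Cfsg.Agent.Go.A4
import Cfsg.Agent.Go.A5
import Cfsg.Agent.Be.Main

/-! Part I of Goldschmidt's theorem, unconditionally. -/

set_option autoImplicit false

namespace Cfsg.Agent.Go

instance instPartIAll : PartI := inferInstance

end Cfsg.Agent.Go
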