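import Cfsg.Agent.Go.I
import Cfsg.Agent.Go.AS
import Cfsg.Agent.FT.BG1.C

/-! Goldschmidt: the action of `A` on a component. -/

set_option autoImplicit false
set_option linter.unusedSectionVars false

namespace Cfsg.Agent.Go

open Subgroup Cfsg Cfsg.Agent.H1 Cfsg.Agent.L Cfsg.Agent.FT Cfsg.Agent.Sg Cfsg.Agent.R1
  Cfsg.Agent.H6
open scoped Pointwise commutatorElement

universe u

variable {Y : Type u} [Group Y] [Finite Y] {A H K L N T U : Subgroup Y} {a g : Y}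

theorem exists_quo (h : N ⊴ L) : ∃ (W : Type u) (_ : Group W) (_ : Finite W) (φ : L →* W),
    mim φ L = ⊤ ∧ mker φ = N := by
  haveI := h.normal_subgroupOf
  refine ⟨L ⧸ N.subgroupOf L, inferInstance, inferInstance, QuotientGroup.mk' _,
    eq_top_iff.2 fun y _ => ?_, by rw [mker_eq, QuotientGroup.ker_mk', subOf_map h.le]⟩
  obtain ⟨x, rfl⟩ := QuotientGroup.mk'_surjective _ y
  exact mem_mim_of_mem _ x x.2

theorem sci_inf_normal (h : SCI L U) (hH : H ⊴ L) : SCI H (U ⊓ H) := by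
  refine ⟨inf_le_right, h.two.to_le inf_le_left,
    inf_le_left.trans (le_cent_of_le h.comm inf_le_left), fun e he g hg hn => ?_⟩
  have m : g * e * g⁻¹ ∈ H := mul_mem (mul_mem hg he.2) (inv_mem hg)
  have p : IsPGroup 2 (zpowers (g * e * g⁻¹)) := by
    rw [← conj_zpowers]; exact pgroup_conj (zpowers_two_of_mem h.two he.1) g
  obtain ⟨c, hc, h1⟩ := h.exists_pt h.le le_rfl (pgroup_sup p (h.two.to_le inf_le_left)
    (Or.inl (zpowers_le.2 hn))) (sup_le (zpowers_le.2 (hH.le m)) (inf_le_right.trans hH.le))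
  have h2 : U ⊓ H ≤ c ⋆ (U ⊓ H) := by
    rw [conj_inf, hH.conj_eq hc]
    refine le_inf (fun x hx => ?_) inf_le_right
    simpa using h.mem_conj hx.1 (one_mem L) hc (by simpa using h1 (mem_sup_right hx))
  rw [eq_of_le_of_card_le h2 (card_conj c _).le, conj_inf, hH.conj_eq hc]
  exact ⟨h.mem_conj he.1 (hH.le hg) hc (h1 (mem_sup_left (mem_zpowers _))), m⟩

theorem comp_normal (hK : IsComponent K) : K ⊴ layer Y := ⟨comp_le_layer hK, layer_le_norm hK⟩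

theorem sci_comp (h : SC A) (hK : IsComponent K) : SCI K (A ⊓ K) := by
  have := sci_inf_normal (sci_inf_normal h.sci (NormalIn.top_iff.2 layer_normal)) (comp_normal hK)
  rwa [inf_assoc, inf_eq_right.2 (comp_le_layer hK)] at this

theorem sylow_comp (hT : Agent.L.IsSylowIn 2 T ⊤) (hK : IsComponent K) : Agent.L.IsSylowIn 2 (T ⊓ K) K := by
  have := sylow_inf_normal' Nat.prime_two (sylow_inf_normal' Nat.prime_two hT
    (NormalIn.top_iff.2 layer_normal)) (comp_normal hK)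
  rwa [inf_assoc, inf_eq_right.2 (comp_le_layer hK)] at this

theorem zent_two (hO : core {2}ᶜ (⊤ : Subgroup Y) = ⊥) (hK : IsComponent K) : IsPGroup 2 (zent K) := by
  refine (core_pgroup Nat.prime_two ⊤).to_le (le_two_of_cent hO ?_ (le_cent_layer fun K' h' => ?_))
  · rw [core_top_eq_pCore Nat.prime_two]
    exact ((zent_le K).trans (comp_le_layer hK)).trans (layer_le_centralizer_pCore 2)
  · by_cases e : K' = K
    · exact e ▸ zent_le_cent _
    · exact (zent_le K).trans (comp_ne h' hK e)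

theorem mem_cent_of_comm (hK : IsComponent K) (ha : a ∈ 𝐍(K))
    (h : ∀ g ∈ K, a * g * a⁻¹ * g⁻¹ ∈ 𝐂(K)) : a ∈ 𝐂(K) := by
  have h1 : zpowers a ≤ centMod K 𝐂(K) := zpowers_le.2 (mem_centMod.2
    ⟨⟨ha, norm_le_norm_cent K ha⟩, fun g hg => by
      simpa [commutatorElement_def, mul_assoc] using inv_mem (h g hg)⟩)
  refine le_centralizer_of_commutator_perfect (qs_commutator hK.2) ?_ (mem_zpowers a)
  rw [commutator_comm]
  exact (le_centMod_iff.1 h1).2.2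

/-- `Z*` modulo the centraliser of a component -/
theorem zl (hK : IsComponent K) (hL : K ⊴ L) (hT : Agent.L.IsSylowIn 2 T L) (hC : L ⊓ 𝐂(K) ≤ T)
    (ha : a ∈ T) (h : ∀ g ∈ L, g * a * g⁻¹ ∈ T → g * a * g⁻¹ * a⁻¹ ∈ 𝐂(K)) : a ∈ 𝐂(K) := by
  obtain ⟨W, _, _, φ, h1, h2⟩ := exists_quo (NormalIn.subcent hL.norm)
  have hS := sylow_mim Nat.prime_two hT le_rfl φ
  rw [h1] at hS
  have z := zstar_wc hS.toSylowTop (mem_mim_of_mem φ ⟨a, hT.le ha⟩ ha) fun y hy => by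
    obtain ⟨g, -, rfl⟩ := mem_mim.1 (h1.ge (mem_top y))
    rw [← map_inv, ← map_mul, ← map_mul] at hy ⊢
    have h3 := mpre_mim_of_le hT.le (h2.le.trans hC) ▸ coe_mem_mpre.2 hy
    rw [← mul_inv_eq_one, ← map_inv, ← map_mul, ← coe_mem_mker, h2]
    exact ⟨(g * ⟨a, hT.le ha⟩ * g⁻¹ * (⟨a, hT.le ha⟩ : L)⁻¹).2, h g g.2 h3⟩
  have h4 := comp_cent_of_sol hK (sol_mpre (sol_of_odd odd_card_oddCore) (sol_of_pgroup Nat.prime_two
    (hT.isPGroup.to_le (h2.le.trans hC)))) (hL.le.trans (norm_mpre φ (NormalIn.top_iff.2 Be.oddCore_normal)))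
  refine mem_cent_of_comm hK (hL.norm (hT.le ha)) fun g hg => h4 ?_
  have := z (φ ⟨g, hL.le hg⟩)
  rw [← map_inv, ← map_inv, ← map_mul, ← map_mul, ← map_mul] at this
  exact coe_mem_mpre.2 this

theorem sylow_not_cent (hK : IsComponent K) (hT : Agent.L.IsSylowIn 2 T K) : ¬ T ≤ 𝐂(K) := fun h => by
  obtain ⟨W, _, _, φ, h1, h2⟩ := exists_quo (zent_normal K)
  refine comp_not_sol hK (sol_of_mim (f := φ) le_rfl (sol_of_odd ?_) ?_) le_rfl
  · rw [card_mim φ le_rfl, h2, ← Nat.not_even_iff_odd, even_iff_two_dvd]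
    exact hT.not_dvd_relIndex_of_le (le_zent hT.le h)
  · rw [h2]; exact sol_of_le (sol_of_comm (zent_comm K)) inf_le_left

/-- St (2): `A` normalises every component -/
theorem sc_norm_comp (h : SC A) (hO : core {2}ᶜ (⊤ : Subgroup Y) = ⊥) (hK : IsComponent K) :
    A ≤ 𝐍(K) := fun a ha => by
  by_contra hn
  obtain ⟨S, hS, hA⟩ := exists_isSylowIn_ge h.two le_top
  have hP := sylow_comp hS hK
  have hN := h.sci.le_norm hS.isPGroup hA le_top
  have h1 : a ⋆ K ≤ 𝐂(K) := comp_ne hK (comp_conj hK a) fun e => hn (conj_eq_self_iff.1 e.symm)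
  refine sylow_not_cent hK hP fun x hx => zl hK (NormalIn.refl K) hP (hP.le_of_normalized
    (zent_two hO hK) inf_le_left (zent_normal K).norm) hx fun k hk hk' => ?_
  have w : x * (a * x⁻¹ * a⁻¹) ∈ A := by
    simpa only [mul_assoc] using mul_mem (le_norm_iff.1 hN x hx.1 a ha) (inv_mem ha)
  have e : k * (x * (a * x⁻¹ * a⁻¹)) * k⁻¹ = k * x * k⁻¹ * x⁻¹ * (x * (a * x⁻¹ * a⁻¹)) := by
    have := mem_cent.1 (h1 (conj_mem_conj a (inv_mem hx.2))) k⁻¹ (inv_mem hk)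
    calc _ = k * x * (a * x⁻¹ * a⁻¹ * k⁻¹) := by group
      _ = _ := by rw [← this]; group
  have h2 := h.mem _ w k (e ▸ hN (mul_mem (mul_mem hk'.1 (inv_mem hx.1)) (hA w)))
  rw [e, mul_mem_cancel_right w] at h2
  refine h1 (mem_conj.2 ?_)
  rw [mul_assoc, mem_cent.1 (h.comm ha) _ h2, inv_mul_cancel_left]
  exact mul_mem hk'.2 (inv_mem hx.2)

theorem comm_mem_of_sup (h : A ≤ 𝐂(A)) (hn : A ≤ 𝐍(K)) (ha : a ∈ A) (hg : g ∈ K ⊔ A) :
    g * a * g⁻¹ * a⁻¹ ∈ K := by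
  obtain ⟨k, hk, b, hb, rfl⟩ := ((NormalIn.sup_left hn).mem_sup le_sup_right).1 hg
  have := mul_mem hk (le_norm_iff.1 hn a ha _ (inv_mem hk))
  convert this using 1
  calc _ = k * (b * a) * b⁻¹ * k⁻¹ * a⁻¹ := by group
    _ = _ := by rw [mem_cent.1 (h ha) b hb]; group

theorem cent_two_sup (hA : IsPGroup 2 A) (hO : core {2}ᶜ (⊤ : Subgroup Y) = ⊥) (hK : IsComponent K)
    (hn : A ≤ 𝐍(K)) : IsPGroup 2 ((K ⊔ A) ⊓ 𝐂(K) : Subgroup Y) := by
  obtain ⟨W, _, _, φ, h1, h2⟩ := exists_quo (NormalIn.sup_left hn)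
  refine (piGrp_iff_isPGroup Nat.prime_two).1 (piGrp_of_mim (f := φ) inf_le_left ?_ ?_)
  · refine ((piGrp_iff_isPGroup Nat.prime_two).2 (pgroup_mim hA φ)).of_le
      ((mim_mono φ inf_le_left).trans ?_)
    rw [← mim_mker_sup φ le_sup_right, h2]
  · rw [h2]
    exact ((piGrp_iff_isPGroup Nat.prime_two).2 (zent_two hO hK)).of_le
      (inf_le_inf_left _ inf_le_right)

theorem exists_sylow_sup (h : SC A) (hO : core {2}ᶜ (⊤ : Subgroup Y) = ⊥) (hK : IsComponent K) :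
    ∃ T, Agent.L.IsSylowIn 2 T (K ⊔ A) ∧ A ≤ T ∧ (K ⊔ A) ⊓ 𝐂(K) ≤ T ∧ T ≤ 𝐍(A) := by
  have hn := sc_norm_comp h hO hK
  obtain ⟨T, hT, hA⟩ := exists_isSylowIn_ge h.two (le_sup_right : A ≤ K ⊔ A)
  exact ⟨T, hT, hA, hT.le_of_normalized (cent_two_sup h.two hO hK hn) inf_le_left
    (NormalIn.subcent (NormalIn.sup_left hn).norm).norm, h.sci.le_norm hT.isPGroup hA le_top⟩

/-- St (3), first half -/
theorem inf_not_cent (h : SC A) (hO : core {2}ᶜ (⊤ : Subgroup Y) = ⊥) (hK : IsComponent K)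
    (hc : ¬ A ≤ 𝐂(K)) : ¬ A ⊓ K ≤ 𝐂(K) := fun e => hc fun a ha => by
  have hn := sc_norm_comp h hO hK
  obtain ⟨T, hT, hA, hC, hN⟩ := exists_sylow_sup h hO hK
  exact zl hK (NormalIn.sup_left hn) hT hC (hA ha) fun g hg m =>
    e (mem_inf.2 ⟨mul_mem (h.mem a ha g (hN m)) (inv_mem ha), comm_mem_of_sup h.comm hn ha hg⟩)

theorem fusion_in (h : SC A) (hL : A ≤ L) (ha : a ∈ A) (hg : g ∈ L) (m : g * a * g⁻¹ ∈ A) :
    ∃ n ∈ L ⊓ 𝐍(A), n * a * n⁻¹ = g * a * g⁻¹ := by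
  have h1 : g⁻¹ ⋆ A ≤ 𝐂[a] := h.le_cent1 (mem_conj.2 (by simpa using m))
  obtain ⟨c, hc, e⟩ := h.conj_eq (le_inf hL (h.comm.trans (cent_le_cent1 ha)))
    (le_inf (conj_le_of_mem (inv_mem hg) hL) h1)
  refine ⟨g * c, ⟨mul_mem hg hc.1, by simpa using conj_eq_conj_iff_norm.1 e⟩, ?_⟩
  calc _ = g * (c * a) * c⁻¹ * g⁻¹ := by group
    _ = _ := by rw [mem_cent1.1 hc.2]; group

/-- St (4) when `(A ∩ K) Z(K)` is a Sylow subgroup of `K` -/
theorem as_of_sylow (h : SC A) (sq : Sq A) (hO : core {2}ᶜ (⊤ : Subgroup Y) = ⊥) (hK : IsComponent K)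
    (hs : Agent.L.IsSylowIn 2 (A ⊓ K ⊔ zent K) K) : A ≤ A ⊓ K ⊔ A ⊓ 𝐂(K) := by
  have hn := sc_norm_comp h hO hK
  have nK := NormalIn.sup_left hn
  obtain ⟨T, hT, hA, hC, hN⟩ := exists_sylow_sup h hO hK
  have hZ : zent K ≤ T := (inf_le_inf_right _ le_sup_left).trans hC
  have h1 : T = zent K ⊔ A := by
    have := hs.maximal (K ⊓ T) (hT.isPGroup.to_le inf_le_right)
      (sup_le (le_inf inf_le_right (inf_le_left.trans hA)) (le_inf (zent_le K) hZ)) inf_le_left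
    refine le_antisymm ((le_inf hT.le le_rfl).trans ?_) (sup_le hZ hA)
    rw [sup_inf_modular' hA (Or.inl hn), this]
    exact sup_le (sup_le (le_sup_of_le_right inf_le_left) le_sup_left) le_sup_right
  have nT : (K ⊔ A) ⊓ 𝐍(A) ≤ 𝐍(T) := h1 ▸ le_normalizer_sup (inf_le_left.trans nK.zent.norm) inf_le_right
  obtain ⟨H, sd, hH⟩ := (sylow_hall Nat.prime_two (hT.of_le (le_inf hT.le hN) inf_le_left)).exists_sdprod nT
  have HL := sd.right_le.trans inf_le_left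
  have HN := sd.right_le.trans inf_le_right
  obtain ⟨R, dp, hR⟩ := B1.maschke_abelem Nat.prime_two (V := A) (U := A ⊓ K ⊔ A ⊓ 𝐂(K))
    ⟨sq.comm, fun x hx => by rw [pow_two, sq x hx]⟩ ((piGrp_compl_iff Nat.prime_two).1 hH.pi)
    (sup_le inf_le_left inf_le_left) HN (le_normalizer_sup (le_normalizer_inf HN (HL.trans nK.norm))
      (le_norm_subcent HN (HL.trans nK.norm)))
  have hRA := dp.right_le
  refine dp.sup.ge.trans (sup_le le_rfl fun r hr => mem_sup_right ⟨hRA hr, ?_⟩)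
  refine zl hK nK hT hC (hA (hRA hr)) fun g hg m => ?_
  obtain ⟨n, hn', e⟩ := fusion_in h le_sup_right (hRA hr) hg (h.mem r (hRA hr) g (hN m))
  obtain ⟨t, ht, x, hx, rfl⟩ := sd.mem_iff.1 hn'
  have e1 : x * r * x⁻¹ * r⁻¹ = 1 := dp.sd.eq_one (mem_sup_left (mem_inf.2 ⟨mul_mem (le_norm_iff.1 HN x hx r
    (hRA hr)) (inv_mem (hRA hr)), comm_mem_of_sup h.comm hn (hRA hr) (HL hx)⟩))
    (mul_mem (le_norm_iff.1 hR x hx r hr) (inv_mem hr))
  rw [h1] at ht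
  obtain ⟨z, hz, b, hb, rfl⟩ := (nK.zent.mem_sup le_sup_right).1 ht
  have e2 : g * r * g⁻¹ * r⁻¹ = z * (r * z⁻¹ * r⁻¹) := by
    rw [← e]
    calc _ = z * b * (x * r * x⁻¹ * r⁻¹) * r * b⁻¹ * z⁻¹ * r⁻¹ := by group
      _ = z * (b * r) * b⁻¹ * z⁻¹ * r⁻¹ := by rw [e1]; group
      _ = _ := by rw [mem_cent.1 (h.comm (hRA hr)) b hb]; group
  rw [e2]
  exact mul_mem hz.2 (le_norm_iff.1 (le_norm_cent hn) r (hRA hr) _ (inv_mem hz.2))

end Cfsg.Agent.Go
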