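import Cfsg.Agent.Go.St1

/-! Goldschmidt: the structure of components of proper sections. -/

set_option autoImplicit false
set_option linter.unusedSectionVars false

namespace Cfsg.Agent.Go

open Subgroup Cfsg Cfsg.Agent.H1 Cfsg.Agent.L Cfsg.Agent.FT Cfsg.Agent.Sg Cfsg.Agent.R1
  Cfsg.Agent.H6
open scoped Pointwise commutatorElement

section Simple
variable {X : Type*} [Group X] [Finite X] [IsSimpleGroup X] {V H : Subgroup X} {x : X}

theorem simple_core (hn : ¬ ∀ x y : X, x * y = y * x) : oddCore X = ⊥ :=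
  (Be.oddCore_normal.eq_bot_or_eq_top).resolve_right fun e => hn fun x y => by
    have o := odd_card_oddCore (G := X)
    rw [e, card_top] at o
    exact IsSimpleGroup.comm_iff_isSolvable.2 (feit_thompson X o) x y

theorem simple_cent (hn : ¬ ∀ x y : X, x * y = y * x) (h : ∀ g, x * g * x⁻¹ * g⁻¹ ∈ oddCore X) :
    x = 1 := by
  have h1 : x ∈ center X := mem_center_iff.2 fun g => by
    have := h g
    rw [simple_core hn, mem_bot, mul_inv_eq_one, mul_inv_eq_iff_eq_mul] at this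
    exact this.symm
  rcases (inferInstance : (center X).Normal).eq_bot_or_eq_top with e | e
  · rwa [e, mem_bot] at h1
  · exact absurd (fun a b => mem_center_iff.1 (e ▸ mem_top b) a) hn

theorem four_le (hn : ¬ ∀ x y : X, x * y = y * x) (h : SC V) (h1 : V ≠ ⊥) : 4 ≤ #|V| := by
  classical
  obtain ⟨k, hk⟩ := pgroup_card Nat.prime_two h.two
  obtain ⟨S, hS, hV⟩ := exists_isSylowIn_ge h.two le_top
  have hN := h.sci.le_norm hS.isPGroup hV le_top
  match k, hk with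
  | 0, hk => exact absurd (card_eq_one.1 hk) h1
  | 1, hk =>
    obtain ⟨x, hx, x1⟩ := exists_mem_ne_one h1
    refine absurd (simple_cent hn (zstar_wc hS.toSylowTop (hV hx) fun g hg => ?_)) x1
    have h2 := h.mem x hx g (hN hg)
    have h3 : zpowers x = V := zpowers_eq_of_prime (hk ▸ Nat.prime_two) hx x1
    have o : orderOf x = 2 := by rw [← Nat.card_zpowers, h3, hk]; rfl
    rw [← h3, mem_zpowers_iff_mem_range_orderOf, o] at h2
    obtain ⟨i, hi, e⟩ := Finset.mem_image.1 h2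
    have hi := Finset.mem_range.1 hi
    interval_cases i
    · exact absurd (by simpa using e.symm) x1
    · simpa using e.symm
  | k + 2, hk => rw [hk, pow_add]; exact Nat.le_mul_of_pos_left _ (by positivity)

theorem trN_of_se (h : SC V) (sq : Sq V) (hH : IsStronglyEmbedded H) : TrN V := fun a ha b hb a1 b1 => by
  obtain ⟨g, e⟩ := isConj_iff.1 (SE.isConj_involutions hH (Be.two_of_sq (sq a ha) a1)
    (Be.two_of_sq (sq b hb) b1))
  obtain ⟨n, hn, e'⟩ := h.fusion ha (e ▸ hb)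
  exact ⟨n, hn, e'.trans e⟩

end Simple

theorem sys_of_sc [Be.BeI] {X : Type} [Group X] [Finite X] [IsSimpleGroup X] {V H : Subgroup X}
    (hn : ¬ ∀ x y : X, x * y = y * x) (h : SC V) (sq : Sq V) (h1 : V ≠ ⊥)
    (hH : IsStronglyEmbedded H) : ∃ S : Sz.Sys X, S.Q0 = V ∧ S.Rk2 ∧ IsPGroup 2 S.Q := by
  obtain ⟨v, hv, v1⟩ := exists_mem_ne_one h1
  have v2 := Be.two_of_sq (sq v hv) v1
  obtain ⟨t, ht, t2⟩ := SE.exists_involution hH
  obtain ⟨g, e⟩ := isConj_iff.1 (SE.isConj_involutions hH t2 v2)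
  have hH' := SE.cj hH g
  have hv' : v ∈ cj H g := e ▸ conj_mem_cj g ht
  have h4 : Be.Four (cj H g) := by_contra fun h4 =>
    v1 (simple_cent hn (zstar (Be.isolated_of_not_four hH' h4 hv' v2)))
  obtain ⟨S, e1, r, p⟩ := Be.BeI.sys _ hH' h4 ((Be.normalCore_eq hH' h4).trans (simple_core hn))
  have h2 : V ≤ S.Q0 := fun u hu => S.mem_Q0.2 ⟨S.inv_mem_Q (e1 ▸ SE.mem_of_commute hH' hv' v2
    (mem_cent.1 (sq.cent hv) u hu)) (sq u hu), sq u hu⟩
  refine ⟨S, le_antisymm (fun u hu => ?_) h2, r, p⟩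
  by_cases u1 : u = 1
  · exact u1 ▸ one_mem _
  obtain ⟨c, e2⟩ := isConj_iff.1 (SE.isConj_involutions hH v2 (Be.two_of_sq (S.mem_Q0.1 hu).2 u1))
  exact e2 ▸ h.mem v hv c (e2 ▸ cent_le_norm V (cent_anti (h2.trans S.Q0_le) (S.Q0_cent hu)))

theorem trN_of_sys {X : Type*} [Group X] [Finite X] (S : Sz.Sys X) : TrN S.Q0 := fun a ha b hb a1 b1 => by
  obtain ⟨c, hc, e⟩ := S.exists_K_conj ha.1 a1 ha.2
  obtain ⟨d, hd, e'⟩ := S.exists_K_conj hb.1 b1 hb.2
  exact ⟨d * c⁻¹, S.Q0_norm (mul_mem hd.1 (inv_mem hc.1)), by rw [e, e']; group⟩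

/-- `π` presents `K/Z(K)` -/
structure Pr {Y X : Type*} [Group Y] [Group X] (K : Subgroup Y) (π : K →* X) : Prop where
  surj : Function.Surjective π
  ker : mker π = K ⊓ 𝐂(K)

theorem pr_mk {Y : Type*} [Group Y] (K : Subgroup Y) : Pr K (QuotientGroup.mk' (center K)) :=
  ⟨QuotientGroup.mk'_surjective _, by
    rw [mker_eq, QuotientGroup.ker_mk', ← zent_eq_center]; rfl⟩

section
variable {Y X : Type*} [Group Y] [Finite Y] [Group X] [Finite X] {A K : Subgroup Y} {π : K →* X}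

theorem Pr.top (p : Pr K π) : mim π K = ⊤ := eq_top_iff.2 fun y _ =>
  let ⟨x, e⟩ := p.surj y; ⟨x, x.2, e⟩

theorem Pr.eq_one (p : Pr K π) {x : K} : π x = 1 ↔ (x : Y) ∈ 𝐂(K) := by
  rw [← coe_mem_mker, p.ker, mem_inf, and_iff_right x.2]

theorem Pr.not_comm (p : Pr K π) (hK : IsComponent K) : ¬ ∀ x y : X, x * y = y * x := fun h =>
  qs_not_le_centralizer hK.2 ((qs_commutator hK.2).ge.trans (((comm_mim_iff le_rfl).1
    (comm_iff_le_cent.2 (le_cent_iff.2 fun a _ b _ => h b a))).trans (p.ker.le.trans inf_le_right)))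

theorem Pr.sc (p : Pr K π) (h : SC A) (hK : IsComponent K) : SC (mim π A) := by
  rw [← mim_inf_dom]
  exact (sci_comp h hK).sub.map π p.surj

theorem Pr.ne_bot (p : Pr K π) (h : SC A) (hO : core {2}ᶜ (⊤ : Subgroup Y) = ⊥) (hK : IsComponent K)
    (hc : ¬ A ≤ 𝐂(K)) : mim π A ≠ ⊥ := fun e => by
  rw [← mim_inf_dom, mim_eq_bot_iff inf_le_right, p.ker] at e
  exact inf_not_cent h hO hK hc (e.trans inf_le_right)

theorem Pr.as_ab (p : Pr K π) (h : SC A) (sq : Sq A) (hO : core {2}ᶜ (⊤ : Subgroup Y) = ⊥)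
    (hK : IsComponent K) (hs : L.IsSylowIn 2 (mim π A) ⊤) : A ≤ A ⊓ K ⊔ A ⊓ 𝐂(K) := by
  refine as_of_sylow h sq hO hK ?_
  rw [← p.top] at hs
  have := ((sylow_hall Nat.prime_two hs).mpre le_rfl (mker_le π) (p.ker ▸
    (piGrp_iff_isPGroup Nat.prime_two).2 (zent_two hO hK))).sylow Nat.prime_two
  rwa [← mim_inf_dom, mpre_mim π inf_le_right, p.ker] at this

/-- the automorphism of `K/Z(K)` induced by an involution normalising `K` -/
theorem Pr.exists_aut (p : Pr K π) {a : Y} (ha : a ∈ 𝐍(K)) (h2 : a * a = 1) :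
    ∃ α : MulAut X, (∀ g, α (α g) = g) ∧
      ∀ k : K, α (π k) = π ⟨a * k * a⁻¹, (mem_normalizer_iff.1 ha _).1 k.2⟩ := by
  let β : K →* K :=
    { toFun := fun k => ⟨a * k * a⁻¹, (mem_normalizer_iff.1 ha _).1 k.2⟩
      map_one' := Subtype.ext (by simp)
      map_mul' := fun x y => Subtype.ext (by simp only [coe_mul]; group) }
  have hk : π.ker ≤ (π.comp β).ker := fun k hk => p.eq_one.2
    ((mem_normalizer_iff.1 (norm_le_norm_cent K ha) _).1 (p.eq_one.1 hk))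
  let α := π.liftOfRightInverse _ (Function.rightInverse_surjInv p.surj) ⟨_, hk⟩
  have e : ∀ k, α (π k) = π (β k) := fun k => π.liftOfRightInverse_comp_apply _ _ _ k
  have i : ∀ g, α (α g) = g := fun g => by
    obtain ⟨k, rfl⟩ := p.surj g
    rw [e, e]
    refine congrArg π (Subtype.ext ?_)
    change a * (a * k * a⁻¹) * a⁻¹ = k
    calc _ = a * a * k * (a * a)⁻¹ := by group
      _ = _ := by rw [h2]; group
  exact ⟨α.toMulEquiv α (MonoidHom.ext i) (MonoidHom.ext i), i, e⟩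

theorem Pr.ck (p : Pr K π) (h : SC A) (sq : Sq A) (hO : core {2}ᶜ (⊤ : Subgroup Y) = ⊥)
    (hK : IsComponent K) (as : A ≤ A ⊓ K ⊔ A ⊓ 𝐂(K)) (h4 : 4 ≤ #|mim π A|) (tr : TrN (mim π A)) :
    CK A K := by
  have hn := sc_norm_comp h hO hK
  refine ⟨as, ?_, fun u hu v hv u1 v1 => ?_⟩
  · rw [← mim_inf_dom, card_mim π inf_le_right, p.ker, ← inf_relIndex_right, inf_assoc, inf_left_comm,
      inf_eq_right.2 (inf_le_right : A ⊓ K ≤ K), inf_relIndex_right] at h4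
    exact h4.trans (relIndex_le_of_le_right inf_le_left (relIndex_ne_zero' _ _))
  obtain ⟨u', hu', c, hc, rfl⟩ := sq_mem_sup sq inf_le_left inf_le_left (as hu)
  obtain ⟨v', hv', c', hc', rfl⟩ := sq_mem_sup sq inf_le_left inf_le_left (as hv)
  obtain ⟨n, h1, e⟩ := tr _ (mem_mim_of_mem π ⟨u', hu'.2⟩ hu'.1) _ (mem_mim_of_mem π ⟨v', hv'.2⟩ hv'.1)
    (fun e => u1 (mul_mem (p.eq_one.1 e) hc.2)) (fun e => v1 (mul_mem (p.eq_one.1 e) hc'.2))
  obtain ⟨k, rfl⟩ := p.surj n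
  have hZ : K ⊓ 𝐂(K) ≤ 𝐍(A) := h.sci.norm_le_of_two (zent_two hO hK) le_top
    (le_norm_subcent hn hn)
  have h2 : (k : Y) ⋆ (A ⊓ K) ≤ 𝐍(A) := by
    refine ((mim_le_mim_iff (f := π) (conj_le_of_mem k.2 inf_le_right) (inf_le_right : A ⊓ K ≤ K)).1
      ?_).trans (sup_le (inf_le_left.trans le_normalizer) (p.ker ▸ hZ))
    rw [mim_conj, mim_inf_dom, conj_of_mem_norm h1]
  refine ⟨k, ⟨k.2, mem_norm_of_conj_le ((conj_mono _ as).trans ?_)⟩, ?_⟩
  · rw [conj_sup]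
    refine sup_le (fun x hx => ?_) ((conj_of_mem_norm (cent_le_norm _ (le_cent_symm inf_le_right
      k.2))).le.trans inf_le_left)
    obtain ⟨y, hy, rfl⟩ := mem_conj'.1 hx
    exact h.mem y hy.1 k (h2 hx)
  · rw [← mul_inv_eq_one, ← map_inv, ← map_inv, ← map_mul, ← map_mul, ← map_mul, p.eq_one] at e
    have e1 := mem_cent.1 (mul_mem hc.2 (inv_mem hc'.2)) _ (inv_mem hv'.2)
    have e2 := mem_cent.1 hc.2 _ (inv_mem k.2)
    have : (k : Y) * (u' * c) * (k : Y)⁻¹ * (v' * c')⁻¹ = k * u' * (k : Y)⁻¹ * v'⁻¹ * (c * c'⁻¹) := by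
      calc _ = k * u' * (c * (k : Y)⁻¹) * c'⁻¹ * v'⁻¹ := by group
        _ = k * u' * (k : Y)⁻¹ * (c * c'⁻¹ * v'⁻¹) := by rw [← e2]; group
        _ = _ := by rw [← e1]; group
    rw [this]
    exact mul_mem e (mul_mem hc.2 (inv_mem hc'.2))

end

section
variable {Y : Type*} {X : Type} [Group Y] [Finite Y] [Group X] [Finite X] [IsSimpleGroup X]
  {A K : Subgroup Y} {π : K →* X}

theorem Pr.as_sys (p : Pr K π) (h : SC A) (sq : Sq A) (hO : core {2}ᶜ (⊤ : Subgroup Y) = ⊥)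
    (hK : IsComponent K) (S : Sz.Sys X) (e0 : S.Q0 = mim π A) (p2 : IsPGroup 2 S.Q) :
    A ≤ A ⊓ K ⊔ A ⊓ 𝐂(K) := fun a ha => by
  have hn := sc_norm_comp h hO hK
  obtain ⟨α, i, e⟩ := p.exists_aut (hn ha) (sq a ha)
  obtain ⟨T, hT, hA⟩ := exists_isSylowIn_ge h.two le_top
  have hN := h.sci.le_norm hT.isPGroup hA le_top
  have hP := sylow_mim Nat.prime_two (sylow_comp hT hK) le_rfl π
  have h1 : mim π (T ⊓ K) ≤ S.H := fun n m => S.mem_H_of_conj S.sQ S.s1 (S.QH (S.Q0_le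
    ((mem_normalizer_iff.1 (e0 ▸ mim_le_norm π (inf_le_left.trans hN) m) _).1 ⟨S.sQ, S.ss⟩)))
  have h2 : S.Q ≤ mim π (T ⊓ K) := sylow_le_of_norm Nat.prime_two hP (le_top.trans p.top.ge) p2
    (Or.inl (h1.trans S.Q_normal.norm))
  suffices hs : (∀ x ∈ S.Q0, α x = x) ∧ ∀ x ∈ S.Q, x⁻¹ * α x ∈ S.Q0 by
    obtain ⟨v, hv, e1⟩ := S.aut_inner α i hs.1 hs.2
    obtain ⟨k, hk, rfl⟩ := mem_mim.1 (e0 ▸ hv)
    have h3 : (k : Y)⁻¹ * a ∈ 𝐂(K) := mem_cent_of_comm hK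
      (mul_mem (le_normalizer (inv_mem k.2)) (hn ha)) fun g hg => by
        have h4 : π (k⁻¹ * ⟨a * g * a⁻¹, (mem_normalizer_iff.1 (hn ha) _).1 hg⟩ * k * (⟨g, hg⟩ : K)⁻¹)
            = 1 := by
          rw [map_mul, map_mul, map_mul, map_inv, map_inv, ← e ⟨g, hg⟩, e1]; group
        simpa [mul_assoc] using p.eq_one.1 h4
    simpa using mul_mem_sup (mem_inf.2 ⟨hk, k.2⟩) (mem_inf.2 ⟨mul_mem (inv_mem hk) ha, h3⟩)
  refine ⟨fun x hx => ?_, fun x hx => ?_⟩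
  · obtain ⟨k, hk, rfl⟩ := mem_mim.1 (e0 ▸ hx)
    rw [e]
    exact congrArg π (Subtype.ext (by
      simp only [← mem_cent.1 (h.comm ha) k hk, mul_inv_cancel_right]))
  · obtain ⟨k, hk, rfl⟩ := mem_mim.1 (h2 hx)
    rw [e, ← map_inv, ← map_mul, e0]
    refine mem_mim_of_mem π _ ?_
    simpa [mul_assoc] using mul_mem (le_norm_iff.1 hN _ (inv_mem hk.1) a ha) (inv_mem ha)

/-- St (3): the dichotomy -/
theorem Pr.dich [Be.BeI] (p : Pr K π) (ih : ThmG X) (h : SC A) (sq : Sq A)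
    (hO : core {2}ᶜ (⊤ : Subgroup Y) = ⊥) (hK : IsComponent K) (hc : ¬ A ≤ 𝐂(K)) :
    (∃ S : Sz.Sys X, S.Q0 = mim π A ∧ S.Rk2 ∧ IsPGroup 2 S.Q) ∨ AB (mim π A) :=
  (ih _ (p.ne_bot h hO hK hc) (sq.mim π) (p.sc h hK)).imp_left fun ⟨_, hH⟩ =>
    sys_of_sc (p.not_comm hK) (p.sc h hK) (sq.mim π) (p.ne_bot h hO hK hc) hH

theorem Pr.ck' [Be.BeI] (p : Pr K π) (ih : ThmG X) (h : SC A) (sq : Sq A)
    (hO : core {2}ᶜ (⊤ : Subgroup Y) = ⊥) (hK : IsComponent K) (hc : ¬ A ≤ 𝐂(K)) : CK A K := by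
  have h4 := four_le (p.not_comm hK) (p.sc h hK) (p.ne_bot h hO hK hc)
  rcases p.dich ih h sq hO hK hc with ⟨S, e, -, p2⟩ | ab
  · exact p.ck h sq hO hK (p.as_sys h sq hO hK S e p2) h4 (e ▸ trN_of_sys S)
  · exact p.ck h sq hO hK (p.as_ab h sq hO hK ab.syl) h4 ab.tr

end

section
variable {Y : Type} [Group Y] [Finite Y] {A K : Subgroup Y} {n : ℕ}

theorem IH.comp (ih : IH n) (hY : Nat.card Y < n) (hK : IsComponent K) : ThmG (K ⧸ center K) :=
  haveI := hK.2.2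
  ih _ (((Nat.card_le_card_of_surjective _ (pr_mk K).surj).trans
    (Nat.card_le_card_of_injective _ K.subtype_injective)).trans_lt hY) ((pr_mk K).not_comm hK)

/-- St: the structure of a core-free group whose simple sections satisfy the theorem -/
theorem IH.cf [Be.BeI] (ih : IH n) (hY : Nat.card Y < n) (h : SC A) (sq : Sq A)
    (hO : core {2}ᶜ (⊤ : Subgroup Y) = ⊥) : CF A :=
  ⟨h, sq, hO, fun K hK hc => haveI := hK.2.2; (pr_mk K).ck' (ih.comp hY hK) h sq hO hK hc⟩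

end

end Cfsg.Agent.Go
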