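import Cfsg.Agent.Go.St2

/-! Goldschmidt: `StG` from the induction hypothesis, existence of a maximal datum. -/

set_option autoImplicit false
set_option linter.unusedSectionVars false

namespace Cfsg.Agent.Go

open Subgroup Cfsg Cfsg.Agent.H1 Cfsg.Agent.L Cfsg.Agent.FT Cfsg.Agent.Sg Cfsg.Agent.R1
  Cfsg.Agent.H6
open scoped Pointwise commutatorElement

universe u

theorem card_lt_of_surj {G Y : Type*} [Group G] [Finite G] [Group Y] {H : Subgroup G} (hH : H ≠ ⊤)
    {f : H →* Y} (hf : Function.Surjective f) : Nat.card Y < Nat.card G :=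
  (Nat.card_le_card_of_surjective f hf).trans_lt (lt_of_le_of_ne
    (Nat.card_le_card_of_injective _ H.subtype_injective) fun e => hH (eq_top_of_card_eq H e))

theorem cent1_ne_top {G : Type*} [Group G] [Finite G] [IsSimpleGroup G]
    (hn : ¬ ∀ x y : G, x * y = y * x) {g : G} (g1 : g ≠ 1) : 𝐂[g] ≠ ⊤ := fun e =>
  g1 (simple_cent hn fun x => by
    rw [← mem_cent1.1 (e.ge (mem_top x)), mul_inv_cancel_right, mul_inv_cancel]; exact one_mem _)

theorem Loc.card_lt {G Y : Type*} [Group G] [Finite G] [IsSimpleGroup G] [Group Y]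
    (hn : ¬ ∀ x y : G, x * y = y * x) {g : G} (g1 : g ≠ 1) {f : 𝐂[g] →* Y} (l : Loc g f) :
    Nat.card Y < Nat.card G := card_lt_of_surj (cent1_ne_top hn g1) l.surj

theorem IH.ctx [Be.BeI] {G : Type} [Group G] [Finite G] [IsSimpleGroup G] {A : Subgroup G}
    (ih : IH (Nat.card G)) (hn : ¬ ∀ x y : G, x * y = y * x) (h : SC A) (sq : Sq A) : Ctx A :=
  ⟨h, sq, fun _ hg g1 _ _ _ f l => (ih.cf (l.card_lt hn g1)
    ((h.sci.mono (sq.cent1 hg) le_top).sub.map f l.surj) (sq.mim f) l.core_bot).ck⟩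

theorem normal_of_cent_comp {Y : Type*} [Group Y] [Finite Y] {A : Subgroup Y} (h : SC A)
    (hO : core {2}ᶜ (⊤ : Subgroup Y) = ⊥) (hc : ∀ K, IsComponent K → A ≤ 𝐂(K)) : A ⊴ ⊤ := by
  have := inf_cent_layer_normal h hO
  rw [inf_eq_left.2 (le_cent_layer hc)] at this
  exact NormalIn.top_iff.2 this

theorem Ctx.exists_mdat {G : Type u} [Group G] [Finite G] {A : Subgroup G} (h : Ctx A)
    (h0 : ¬ Hyp0 A) : ∃ B, MDat A B := by
  have ne : {B | Dat A B}.Nonempty := by
    by_contra hc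
    refine h0 fun a ha a1 => ?_
    have l := loc_fq a
    have cf := h.cf l ha a1
    have := norm_mpre (fq a) (normal_of_cent_comp cf.sc cf.core fun K hK => by_contra fun c =>
      hc ⟨_, a, ha, a1, _, inferInstance, inferInstance, fq a, K, l, hK, c, rfl⟩)
    rwa [mpre_mim _ (h.sq.cent1 ha), l.ker] at this
  obtain ⟨B, d, m⟩ := Set.exists_max_image _ (fun B : Subgroup G => B.relIndex A) (Set.toFinite _) ne
  exact ⟨B, d, m⟩

end Cfsg.Agent.Go
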